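import Groth.Agent.Lib.Helper2.Mon.ResTensor
import Groth.Agent.Lib.Helper13.ModSiteFlat
import Groth.Agent.Lib.Helper13.ModSiteUnitor
import Groth.Agent.Lib.Helper3.QCProps
import Groth.Agent.Lib.Helper14.TildeExact

/-!
# The tensor product of quasi-coherent modules is quasi-coherent (helper2)
-/

set_option autoImplicit false
universe u
open CategoryTheory CategoryTheory.Limits MonoidalCategory AlgebraicGeometry Opposite TopologicalSpace
open Groth.Agent.Lib.Helper13 Groth.Agent.Lib.Helper13.ModSiteTensor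

namespace Groth.Agent.Lib.Helper2.Mon

section Spec
variable (R : CommRingCat.{u})

/-- `- ⊗ B` on `Spec R` -/
noncomputable abbrev TB (B : (Spec R).Modules) : (Spec R).Modules ⥤ (Spec R).Modules :=
  (DCoh.tensorBi (X := Spec R)).flip.obj B

instance (B : (Spec R).Modules) : PreservesColimitsOfSize.{u, u} (TB R B) :=
  ModSiteFlat.preservesColimitsOfSize_flip (OX (Spec R)) B

/-- `O ⊗ B ≅ B` -/
noncomputable def unitTensorIso (B : (Spec R).Modules) :
    (TB R B).obj (SheafOfModules.unit (Spec R).ringCatSheaf) ≅ B :=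
  (ModSiteUnitor.leftUnitorIso (OX (Spec R))).app B

lemma isQCoh_of_iso {A B : (Spec R).Modules} (e : A ≅ B) (h : A.IsQuasicoherent) :
    B.IsQuasicoherent :=
  (SheafOfModules.isQuasicoherent (Spec R).ringCatSheaf).prop_of_iso e h

lemma isQCoh_TB_free (B : (Spec R).Modules) [B.IsQuasicoherent] (I : Type u) :
    ((TB R B).obj (SheafOfModules.free I)).IsQuasicoherent := by
  let f : I → (Spec R).Modules := fun _ => SheafOfModules.unit (Spec R).ringCatSheaf
  have e1 : (TB R B).obj (∐ f) ≅ ∐ (fun i => (TB R B).obj (f i)) := PreservesCoproduct.iso (TB R B) f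
  have h2 : (∐ (fun i => (TB R B).obj (f i))).IsQuasicoherent := by
    apply Groth.Agent.Lib.Helper14.isQuasicoherent_colimit
    rintro ⟨i⟩
    exact isQCoh_of_iso R (unitTensorIso R B).symm inferInstance
  exact isQCoh_of_iso R e1.symm h2


/-- a module with a presentation is the cokernel of a map of free modules -/
lemma exists_cokernel_free (A : (Spec R).Modules) [A.IsQuasicoherent] :
    ∃ (K I : Type u) (f : SheafOfModules.free (R := (Spec R).ringCatSheaf) K ⟶ SheafOfModules.free I),
      Nonempty (cokernel f ≅ A) := by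
  obtain ⟨P⟩ := Groth.Agent.Lib.Helper3.QCProps.nonempty_presentation_of_isQuasicoherent A
  let π := P.generators.π
  let ρ := P.relations.π
  haveI : Epi π := P.generators.epi
  haveI : Epi ρ := P.relations.epi
  refine ⟨_, _, ρ ≫ kernel.ι π, ⟨cokernelEpiComp ρ (kernel.ι π) ≪≫ ?_⟩⟩
  exact IsColimit.coconePointUniqueUpToIso (colimit.isColimit _)
    (Abelian.epiIsCokernelOfKernel (KernelFork.ofι (kernel.ι π) (kernel.condition π))
      (kernelIsKernel π))

/-- the tensor product of quasi-coherent modules on `Spec R` is quasi-coherent -/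
theorem isQCoh_tensor_spec (A B : (Spec R).Modules) [A.IsQuasicoherent] [B.IsQuasicoherent] :
    (((DCoh.tensorBi (X := Spec R)).obj A).obj B).IsQuasicoherent := by
  obtain ⟨K, I, f, ⟨e⟩⟩ := exists_cokernel_free R A
  have h1 : ((TB R B).obj (SheafOfModules.free K)).IsQuasicoherent := isQCoh_TB_free R B K
  have h2 : ((TB R B).obj (SheafOfModules.free I)).IsQuasicoherent := isQCoh_TB_free R B I
  have h3 : (cokernel ((TB R B).map f)).IsQuasicoherent :=
    Groth.Agent.Lib.Helper3.QCProps.isQuasicoherent_cokernel_spec _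
  exact isQCoh_of_iso R ((PreservesCokernel.iso (TB R B) f).symm ≪≫ (TB R B).mapIso e) h3

end Spec

/-- the tensor product of quasi-coherent modules is quasi-coherent -/
theorem isQCoh_tensor {X : Scheme.{u}} (A B : X.Modules) (hA : Coh.IsQCoh A) (hB : Coh.IsQCoh B) :
    Coh.IsQCoh (((DCoh.tensorBi (X := X)).obj A).obj B) := by
  apply Groth.Agent.Lib.Helper3.QCProps.isQuasicoherent_of_charts
  intro x
  obtain ⟨U, hU, hxU⟩ := Groth.Agent.Lib.Helper3.QCProps.exists_affine_nbhd x
  refine ⟨U, hU, hxU, ?_⟩
  haveI : A.IsQuasicoherent := hA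
  haveI : B.IsQuasicoherent := hB
  haveI h1 : ((Scheme.Modules.restrictFunctor hU.fromSpec).obj A).IsQuasicoherent := inferInstance
  haveI h2 : ((Scheme.Modules.restrictFunctor hU.fromSpec).obj B).IsQuasicoherent := inferInstance
  exact isQCoh_of_iso _ (resTensorIso' hU.fromSpec A B) (isQCoh_tensor_spec _ _ _)

end Groth.Agent.Lib.Helper2.Mon
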