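import Groth.Agent.Lib.Helper2.KInj.QProdExact
import Groth.Prelude.Def_CohCx

/-!
# Derived limits of uniformly bounded above objects (helper2)

In `D(B)` for an abelian category `B` with exact countable products: a countable product of objects
of `D^{≤ b}` is in `D^{≤ b}`, and a derived limit of such objects is in `D^{≤ b+1}`.
-/

set_option autoImplicit false
universe w v u
open CategoryTheory Limits HomologicalComplex Pretriangulated

namespace Groth.Agent.Lib.Helper2.Aff

variable {B : Type u} [Category.{v} B] [Abelian B] [HasDerivedCategory.{w} B]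
  [HasLimitsOfShape (Discrete ℕ) B] [HasExactLimitsOfShape (Discrete ℕ) B]

open DerivedCategory

local notation "cc" => ComplexShape.up ℤ

omit [HasDerivedCategory.{w} B] [HasExactLimitsOfShape (Discrete ℕ) B] in
lemma isStrictlyLE_prod (K' : ℕ → CochainComplex B ℤ) (b : ℤ) (hK' : ∀ n, (K' n).IsStrictlyLE b) :
    (∏ᶜ K').IsStrictlyLE b := by
  rw [CochainComplex.isStrictlyLE_iff]
  intro i hi
  have hl := isLimitOfPreserves (eval B cc i) (productIsProduct K')
  rw [IsZero.iff_id_eq_zero]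
  apply hl.hom_ext
  rintro ⟨n⟩
  exact ((K' n).isZero_of_isStrictlyLE b i hi).eq_of_tgt _ _

/-- a countable product of objects of `D^{≤ b}` is in `D^{≤ b}` -/
lemma isLE_prod (K : ℕ → DerivedCategory B) [HasProduct K] (b : ℤ) (hK : ∀ n, (K n).IsLE b) :
    (∏ᶜ K).IsLE b := by
  have hex := fun n => (K n).exists_iso_Q_obj_of_isLE b
  choose K' hK' e using hex
  haveI := isStrictlyLE_prod K' b hK'
  have hl := KInj.isLimitQFan K' (Fan.mk (∏ᶜ K') (Pi.π K')) (productIsProduct K')
  let ι : ∏ᶜ K ≅ Q.obj (∏ᶜ K') :=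
    IsLimit.conePointsIsoOfNatIso (productIsProduct K) hl
      (Discrete.natIso (fun n => (e n.as).some))
  exact TStructure.t.isLE_of_iso ι.symm b

/-- a derived limit of objects of `D^{≤ b}` is in `D^{≤ b + 1}` -/
theorem isLE_of_isRlimVia (K : ℕ → DerivedCategory B) (t : ∀ n, K (n + 1) ⟶ K n) [HasProduct K]
    (L : DerivedCategory B) (a : ∀ n, L ⟶ K n) (h : CohCx.IsRlimVia K t L a) (b : ℤ)
    (hK : ∀ n, (K n).IsLE b) : L.IsLE (b + 1) := by
  obtain ⟨c, hT⟩ := h
  have hP : (∏ᶜ K).IsLE b := isLE_prod K b hK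
  have hT2 := rot_of_distTriang _ (rot_of_distTriang _ hT)
  have h1 : TStructure.t.IsLE ((∏ᶜ K)⟦(1 : ℤ)⟧) b := by
    haveI : TStructure.t.IsLE ((∏ᶜ K)⟦(1 : ℤ)⟧) (b - 1) := TStructure.t.isLE_shift _ b 1 (b - 1)
    exact TStructure.t.isLE_of_le _ (b - 1) b
  have h2 : TStructure.t.IsLE (L⟦(1 : ℤ)⟧) b :=
    TStructure.t.isLE₂ _ hT2 b hP h1
  exact TStructure.t.isLE_of_shift L (b + 1) 1 b

end Groth.Agent.Lib.Helper2.Aff
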