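import Groth.Agent.Lib.Helper5.EquivUnbdd
import Groth.Agent.Lib.Helper2.Aff.RlimLE

/-!
# `Φ : D_{P'}(ℬ) → D_P(𝒜)` with quasi-inverse `R`, unbounded version, when `ℬ` has exact countable
products (helper2)

Variant of helper5's `EquivUnbdd` where the hypothesis on derived limits of eventually constant
towers in `D(ℬ)` is replaced by exactness of countable products in `ℬ`: then a derived limit of
objects of `D^{≤ b}(ℬ)` is in `D^{≤ b+1}(ℬ)`, so that `R` has cohomological dimension `≤ 1` on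
`D_P(𝒜)`.
-/

set_option autoImplicit false
universe w w' v u
open CategoryTheory CategoryTheory.Limits CategoryTheory.Pretriangulated

noncomputable section
namespace Groth.Agent.Lib.Helper2.Aff

open DerivedCategory CohCx Groth.Agent.Lib.Helper2.TExactIso Groth.Agent.Lib.Helper5
  Groth.Agent.Lib.Helper5.EquivUnbdd

section Trunc

variable {A : Type u} [Category.{v} A] [Abelian A] [HasDerivedCategory.{w} A]

/-- `τ_{< a} E ⟶ E` induces isomorphisms on `H^j` for `j < a` -/
lemma isIso_homology_map_truncLTι (E : DerivedCategory A) (a j : ℤ) (hj : j < a) :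
    IsIso ((homologyFunctor A j).map ((TStructure.t.truncLTι a).app E)) := by
  have hT := TStructure.t.triangleLTGE_distinguished a E
  have hge : ((TStructure.t.triangleLTGE a).obj E).obj₃.IsGE a := inferInstance
  exact TruncRlim.isIso_homology_map_mor₁ _ hT j (j - 1) (by omega)
    (isZero_of_isGE _ a (j - 1) (by omega)) (isZero_of_isGE _ a j hj)

lemma cohIn_truncLT (P : ObjectProperty A) [P.IsClosedUnderIsomorphisms] [P.ContainsZero]
    (E : DerivedCategory A) (hE : WSerre.cohIn P E) (a : ℤ) :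
    WSerre.cohIn P ((TStructure.t.truncLT a).obj E) := by
  intro q
  by_cases hq : q < a
  · haveI := isIso_homology_map_truncLTι E a q hq
    exact P.prop_of_iso (asIso ((homologyFunctor A q).map ((TStructure.t.truncLTι a).app E))).symm
      (hE q)
  · have : ((TStructure.t.truncLT a).obj E).IsLE (a - 1) := inferInstance
    exact P.prop_of_isZero (isZero_of_isLE _ (a - 1) q (by omega))

end Trunc

section Main

variable {𝒜 : Type (u + 1)} [Category.{u} 𝒜] [Abelian 𝒜] [HasDerivedCategory.{w} 𝒜]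
  {ℬ : Type (u + 1)} [Category.{u} ℬ] [Abelian ℬ] [HasDerivedCategory.{w'} ℬ]
  [HasLimitsOfShape (Discrete ℕ) ℬ] [HasExactLimitsOfShape (Discrete ℕ) ℬ]
  {Φ : ℬ ⥤ 𝒜} [Φ.Additive] [PreservesFiniteLimits Φ] [PreservesFiniteColimits Φ]
  {R : DerivedCategory 𝒜 ⥤ DerivedCategory ℬ} (adj : Φ.mapDerivedCategory ⊣ R)
  (P : ObjectProperty 𝒜) [WSerre.IsWeakSerre P] (P' : ObjectProperty ℬ) [WSerre.IsWeakSerre P']

/-- `R` has cohomological dimension `≤ 1` on `D_P(𝒜)` -/
theorem isLE_rightAdjoint_obj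
    (hrefl : ∀ M : ℬ, P' M → IsZero (Φ.obj M) → IsZero M)
    (h2c : ∀ F : 𝒜, P F → ∃ F' : ℬ, P' F' ∧ Nonempty (Φ.obj F' ≅ F))
    (h3 : ∀ F' : ℬ, P' F' → IsIso (adj.unit.app ((singleFunctor ℬ 0).obj F')))
    [hprodA : ∀ K : ℕ → DerivedCategory 𝒜, HasProduct K]
    [hprodB : ∀ K : ℕ → DerivedCategory ℬ, HasProduct K]
    (hRlim : ∀ X : DerivedCategory 𝒜, WSerre.cohIn P X →
      CohCx.IsRlimVia (truncTower X) (truncTowerMap X) X (toTruncTower X))
    (Y : DerivedCategory 𝒜) (hY : WSerre.cohIn P Y) (b : ℤ) (hb : Y.IsLE b) :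
    (R.obj Y).IsLE (b + 1) := by
  letI := adj.rightAdjointCommShift ℤ
  haveI := adj.commShift_of_leftAdjoint ℤ
  haveI : R.IsTriangulated := adj.isTriangulated_rightAdjoint
  haveI : PreservesLimit (Discrete.functor (truncTower Y)) R :=
    (adj.rightAdjoint_preservesLimits.preservesLimitsOfShape).preservesLimit
  have hYn : ∀ n, WSerre.cohInPlus P (truncTower Y n) := cohInPlus_truncTower P Y hY
  have hcp : ∀ n, WSerre.cohInPlus P' (R.obj (truncTower Y n)) ∧
      IsIso (adj.counit.app (truncTower Y n)) :=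
    fun n => counit_part adj P P' h2c h3 _ (hYn n)
  have hRG := RlimFunctor.isRlimVia_map R (truncTower Y) (truncTowerMap Y) Y (toTruncTower Y)
    (hRlim Y hY)
  refine isLE_of_isRlimVia _ _ _ _ hRG b (fun n => ?_)
  rw [DerivedCategory.isLE_iff]
  intro i hi
  apply hrefl _ ((hcp n).1.1 i)
  haveI := (hcp n).2
  have hle : (truncTower Y n).IsLE b := by
    change TStructure.t.IsLE ((TStructure.t.truncGE (-(n : ℤ))).obj Y) b
    infer_instance
  exact (isZero_of_isLE (truncTower Y n) b i hi).of_iso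
    ((mapDerivedCategoryHomologyIso Φ _ i).symm ≪≫
      (homologyFunctor 𝒜 i).mapIso (asIso (adj.counit.app (truncTower Y n))))

theorem counit_unbdd
    (hrefl : ∀ M : ℬ, P' M → IsZero (Φ.obj M) → IsZero M)
    (h2c : ∀ F : 𝒜, P F → ∃ F' : ℬ, P' F' ∧ Nonempty (Φ.obj F' ≅ F))
    (h3 : ∀ F' : ℬ, P' F' → IsIso (adj.unit.app ((singleFunctor ℬ 0).obj F')))
    [hprodA : ∀ K : ℕ → DerivedCategory 𝒜, HasProduct K]
    [hprodB : ∀ K : ℕ → DerivedCategory ℬ, HasProduct K]
    (hRlim : ∀ X : DerivedCategory 𝒜, WSerre.cohIn P X →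
      CohCx.IsRlimVia (truncTower X) (truncTowerMap X) X (toTruncTower X))
    (X : DerivedCategory 𝒜) (hX : WSerre.cohIn P X) :
    WSerre.cohIn P' (R.obj X) ∧ IsIso (adj.counit.app X) := by
  letI := adj.rightAdjointCommShift ℤ
  haveI := adj.commShift_of_leftAdjoint ℤ
  haveI : R.IsTriangulated := adj.isTriangulated_rightAdjoint
  have hXn : ∀ n, WSerre.cohInPlus P (truncTower X n) := cohInPlus_truncTower P X hX
  have hcp : ∀ n, WSerre.cohInPlus P' (R.obj (truncTower X n)) ∧
      IsIso (adj.counit.app (truncTower X n)) :=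
    fun n => counit_part adj P P' h2c h3 _ (hXn n)
  have hlimj : ∀ j : ℤ, ∃ n₀ : ℕ, ∀ n, n₀ ≤ n →
      IsIso ((homologyFunctor ℬ j).map (R.map (toTruncTower X n))) := by
    intro j
    refine ⟨(1 - j).toNat, fun n hn => ?_⟩
    have hT := TStructure.t.triangleLTGE_distinguished (-(n : ℤ)) X
    have hT' := R.map_distinguished _ hT
    have hY : WSerre.cohIn P ((TStructure.t.truncLT (-(n : ℤ))).obj X) :=
      cohIn_truncLT P X hX _
    have hle : ((TStructure.t.truncLT (-(n : ℤ))).obj X).IsLE (-(n : ℤ) - 1) := inferInstance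
    have hRle := isLE_rightAdjoint_obj adj P P' hrefl h2c h3 hRlim _ hY _ hle
    haveI hRle' : (R.mapTriangle.obj ((TStructure.t.triangleLTGE (-(n : ℤ))).obj X)).obj₁.IsLE
        (-(n : ℤ) - 1 + 1) := hRle
    exact TruncRlim.isIso_homology_map_mor₂ _ hT' j
      (isZero_of_isLE _ (-(n : ℤ) - 1 + 1) j (by omega))
      (isZero_of_isLE _ (-(n : ℤ) - 1 + 1) (j + 1) (by omega))
  constructor
  · intro j
    obtain ⟨n₀, hn₀⟩ := hlimj j
    haveI := hn₀ n₀ le_rfl
    exact P'.prop_of_iso (asIso ((homologyFunctor ℬ j).map (R.map (toTruncTower X n₀)))).symm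
      ((hcp n₀).1.1 j)
  · rw [DerivedCategory.isIso_iff]
    intro j
    obtain ⟨n₁, hn₁⟩ := hlimj (j - 1)
    obtain ⟨n₂, hn₂⟩ := hlimj j
    obtain ⟨n₃, hn₃⟩ := hlimj (j + 1)
    obtain ⟨n, h1, h2, h3', h4'⟩ : ∃ n : ℕ, n₁ ≤ n ∧ n₂ ≤ n ∧ n₃ ≤ n ∧ -(n : ℤ) ≤ j :=
      ⟨n₁ + n₂ + n₃ + (-j).toNat, by omega, by omega, by omega, by omega⟩
    have hFR : IsIso ((homologyFunctor 𝒜 j).map
        (Φ.mapDerivedCategory.map (R.map (toTruncTower X n)))) := by
      apply isIso_homology_map_mapDerivedCategory Φ _ j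
      intro i hi1 hi2
      have hi : i = j - 1 ∨ i = j ∨ i = j + 1 := by omega
      rcases hi with rfl | rfl | rfl
      · exact hn₁ n h1
      · exact hn₂ n h2
      · exact hn₃ n h3'
    haveI := TruncRlim.isIso_homology_map_toTruncTower X n j h4'
    haveI := (hcp n).2
    have hnat := adj.counit.naturality (toTruncTower X n)
    have h4 : (homologyFunctor 𝒜 j).map (Φ.mapDerivedCategory.map (R.map (toTruncTower X n))) ≫
        (homologyFunctor 𝒜 j).map (adj.counit.app (truncTower X n)) =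
        (homologyFunctor 𝒜 j).map (adj.counit.app X) ≫
          (homologyFunctor 𝒜 j).map (toTruncTower X n) := by
      rw [← Functor.map_comp, ← Functor.map_comp]
      exact congrArg _ hnat
    haveI : IsIso ((homologyFunctor 𝒜 j).map (adj.counit.app X) ≫
        (homologyFunctor 𝒜 j).map (toTruncTower X n)) := by
      rw [← h4]
      infer_instance
    exact IsIso.of_isIso_comp_right _ ((homologyFunctor 𝒜 j).map (toTruncTower X n))

theorem unit_unbdd
    (hrefl : ∀ M : ℬ, P' M → IsZero (Φ.obj M) → IsZero M)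
    (h2a : ∀ F' : ℬ, P' F' → P (Φ.obj F'))
    (h2c : ∀ F : 𝒜, P F → ∃ F' : ℬ, P' F' ∧ Nonempty (Φ.obj F' ≅ F))
    (h3 : ∀ F' : ℬ, P' F' → IsIso (adj.unit.app ((singleFunctor ℬ 0).obj F')))
    [hprodA : ∀ K : ℕ → DerivedCategory 𝒜, HasProduct K]
    [hprodB : ∀ K : ℕ → DerivedCategory ℬ, HasProduct K]
    (hRlim : ∀ X : DerivedCategory 𝒜, WSerre.cohIn P X →
      CohCx.IsRlimVia (truncTower X) (truncTowerMap X) X (toTruncTower X))
    (Y : DerivedCategory ℬ) (hY : WSerre.cohIn P' Y) :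
    WSerre.cohIn P (Φ.mapDerivedCategory.obj Y) ∧ IsIso (adj.unit.app Y) := by
  have hFY : WSerre.cohIn P (Φ.mapDerivedCategory.obj Y) := fun q =>
    P.prop_of_iso (mapDerivedCategoryHomologyIso Φ Y q).symm (h2a _ (hY q))
  obtain ⟨hRFY, hε⟩ := counit_unbdd adj P P' hrefl h2c h3 hRlim
    (Φ.mapDerivedCategory.obj Y) hFY
  refine ⟨hFY, ?_⟩
  have h1 := adj.left_triangle_components Y
  haveI : IsIso (Φ.mapDerivedCategory.map (adj.unit.app Y)) := by
    haveI : IsIso (Φ.mapDerivedCategory.map (adj.unit.app Y) ≫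
        adj.counit.app (Φ.mapDerivedCategory.obj Y)) := by
      rw [h1]
      exact IsIso.id _
    exact IsIso.of_isIso_comp_right _ (adj.counit.app (Φ.mapDerivedCategory.obj Y))
  rw [DerivedCategory.isIso_iff]
  intro j
  apply isIso_homology_map_of_mapDerivedCategory Φ P' hrefl (adj.unit.app Y) hY hRFY j
  intro i _ _
  infer_instance

end Main

end Groth.Agent.Lib.Helper2.Aff
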