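import Groth.Agent.Lib.Helper2.Aff.QcqsPush
import Groth.Agent.Lib.Helper2.Aff.Unbdd

set_option autoImplicit false
universe u
open CategoryTheory CategoryTheory.Limits AlgebraicGeometry TopologicalSpace Opposite
  CategoryTheory.Pretriangulated

attribute [local instance] HasDerivedCategory.standard

namespace Groth.Agent.Lib.Helper2.Aff.Qcqs

open Groth.Agent.Lib.Helper2 Groth.Agent.Lib.Helper2.Stk Groth.Agent.Lib.Helper2.Aff
  DerivedCategory

lemma isZero_of_isIso_of_eq_zero {C : Type*} [Category C] [HasZeroMorphisms C] {P Q : C}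
    (φ : P ⟶ Q) [hφ : IsIso φ] (h : φ = 0) : IsZero Q := by
  subst h
  rw [IsZero.iff_id_eq_zero, ← IsIso.inv_hom_id (0 : P ⟶ Q), comp_zero]

section RAdj

variable {X Y : Scheme.{u}} (f : X ⟶ Y) [QuasiCompact f] [QuasiSeparated f] [CompactSpace Y]
  [DCoh.HasRpush f]
  (h : ∀ K : DCoh.D X, DCoh.IsQCohD K → DCoh.IsQCohD ((DCoh.Rpush f).obj K))
  (a : DCoh.DQCoh Y ⥤ DCoh.DQCoh X)
  (adj : (ObjectProperty.lift DCoh.IsQCohD (ObjectProperty.ι DCoh.IsQCohD ⋙ DCoh.Rpush f)
    (fun K => h K.obj K.property)) ⊣ a)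

include adj in
/-- the right adjoint of `Rf_*` on `D_QCoh` is bounded below -/
theorem exists_bound_rightAdjoint :
    ∃ N : ℕ, ∀ (K : DCoh.DQCoh Y) (c : ℤ), (∀ i : ℤ, i ≤ c → IsZero (DCoh.HD K.obj i)) →
      ∀ i : ℤ, i ≤ c - N → IsZero (DCoh.HD (a.obj K).obj i) := by
  obtain ⟨d, hd⟩ := exists_uniform_bound f
  refine ⟨d, fun K c hK i hi => ?_⟩
  -- `K ∈ D^{≥ c+1}`
  haveI hKge : K.obj.IsGE (c + 1) := by
    rw [DerivedCategory.isGE_iff]
    intro j hj
    exact hK j (by omega)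
  let A : DCoh.D X := (a.obj K).obj
  have hA : DCoh.IsQCohD A := (a.obj K).property
  let n : ℤ := c - d + 1
  let L : DCoh.D X := (TStructure.t.truncLT n).obj A
  have hL : DCoh.IsQCohD L := cohIn_truncLT (fun M : X.Modules => Coh.IsQCoh M) A hA n
  let ι : L ⟶ A := (TStructure.t.truncLTι n).app A
  have hLle : L.IsLE (n - 1) := inferInstance
  haveI hRle : ((DCoh.Rpush f).obj L).IsLE (n - 1 + d) := hd L hL (n - 1) hLle
  let L' : DCoh.DQCoh X := ⟨L, hL⟩
  -- all maps `Rf_* L ⟶ K` vanish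
  have hzero : ∀ g : (DCoh.Rpush f).obj L ⟶ K.obj, g = 0 := fun g =>
    TStructure.t.zero g (n - 1 + d) (c + 1) (by omega)
  have hsub : ∀ g₁ g₂ : L' ⟶ a.obj K, g₁ = g₂ := by
    intro g₁ g₂
    apply (adj.homEquiv L' K).symm.injective
    apply ObjectProperty.hom_ext
    rw [hzero ((adj.homEquiv L' K).symm g₁).hom, hzero ((adj.homEquiv L' K).symm g₂).hom]
  have hι : ι = 0 := by
    have := hsub (ObjectProperty.homMk ι) (ObjectProperty.homMk 0)
    exact congrArg (fun g => g.hom) this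
  haveI := isIso_homology_map_truncLTι A n i (by omega)
  have h0 : (homologyFunctor X.Modules i).map ι = 0 := by rw [hι, Functor.map_zero]
  exact isZero_of_isIso_of_eq_zero _ h0

end RAdj

end Groth.Agent.Lib.Helper2.Aff.Qcqs
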