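import Groth.Agent.Lib.Helper2.Aff.RpushSingle
import Groth.Agent.Lib.Helper2.Aff.Unbdd
import Groth.Agent.Lib.Helper2.Stk.DerivedTri
import Groth.Agent.Lib.Helper2.ProperOver
import Groth.Agent.Lib.Helper13.RegK0
import Groth.Agent.Lib.Helper13.PCohNoeth
import Groth.Agent.S9514
import Groth.Agent.S0795
import Groth.Agent.Lib.Helper2.Aff.QcqsAdj

set_option autoImplicit false
universe u
open CategoryTheory CategoryTheory.Limits AlgebraicGeometry TopologicalSpace Opposite
  CategoryTheory.Pretriangulated

attribute [local instance] HasDerivedCategory.standard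

namespace Groth.Agent.Lib.Helper2.Aff.Qcqs

open Groth.Agent.Lib.Helper2 Groth.Agent.Lib.Helper2.Stk AlgebraicGeometry.Scheme.Modules
  Groth.Agent.Lib.Helper2.Mon Groth.Agent.Lib.Helper2.TExactIso Groth.Agent.Lib.Helper13
  DerivedCategory Groth.Agent.Lib.Helper2.Aff

local notation "cc" => ComplexShape.up ℤ

section Serre

open ZeroObject in
instance isWeakSerre_isCoh (X : Scheme.{u}) [IsLocallyNoetherian X] :
    WSerre.IsWeakSerre (fun M : X.Modules => Coh.IsCoh M) where
  exists_zero := ⟨0, isZero_zero _, PCohNoeth.isCoh_of_isZero (isZero_zero _)⟩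
  kernels_le := by
    rintro _ ⟨f, k, hk, ⟨hX, hY⟩⟩
    exact PCohNoeth.isCoh_of_iso (IsLimit.conePointUniqueUpToIso (kernelIsKernel f) hk)
      (Groth.Agent.S9514.result _ hX hY f).1
  cokernels_le := by
    rintro _ ⟨f, k, hk, ⟨hX, hY⟩⟩
    exact PCohNoeth.isCoh_of_iso (IsColimit.coconePointUniqueUpToIso (cokernelIsCokernel f) hk)
      (Groth.Agent.S9514.result _ hX hY f).2
  prop_X₂_of_shortExact := by
    intro S hS h₁ h₃
    exact RegK0.coh_ext S hS h₁ h₃

end Serre

section Supp

variable {X : Scheme.{u}}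

lemma support_eq_of_iso {M N : X.Modules} (e : M ≅ N) : CohB1.support M = CohB1.support N := by
  ext x
  let e' := ((Φ x).mapIso e).toLinearEquiv
  constructor
  · intro h hN
    exact h (@Function.Injective.subsingleton _ _ e' e'.injective hN)
  · intro h hM
    exact h (@Function.Injective.subsingleton _ _ e'.symm e'.symm.injective hM)

lemma support_eq_empty_of_isZero {M : X.Modules} (h : IsZero M) : CohB1.support M = ∅ := by
  ext x
  simp only [Set.mem_empty_iff_false, iff_false]
  intro hx
  exact hx (Groth.Agent.Lib.Helper3.ModBasic.subsingleton_stalk_of_isZero h x)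

end Supp

section Main

variable {X S : Scheme.{u}} (f : X ⟶ S) [DCoh.HasRpush f]

/-- `Rf_*` is left t-exact -/
theorem isGE_Rpush (E : DCoh.D X) (a : ℤ) (hE : E.IsGE a) : ((DCoh.Rpush f).obj E).IsGE a := by
  haveI := hasLpull f
  haveI := hE
  rw [DerivedCategory.isGE_iff]
  intro i hi
  let R := (DCoh.Rpush f).obj E
  let L := (TStructure.t.truncLT a).obj R
  let ι : L ⟶ R := (TStructure.t.truncLTι a).app R
  haveI hLle : L.IsLE (a - 1) := inferInstance
  haveI hPle : ((DCoh.Lpull f).obj L).IsLE (a - 1) := by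
    rw [DerivedCategory.isLE_iff]
    intro j hj
    exact isZero_homology_Lpull f L a
      (fun k hk => DerivedCategory.isZero_of_isLE L (a - 1) k (by omega)) j (by omega)
  have h0 : ((LpullRpushAdj f).homEquiv L E).symm ι = 0 :=
    TStructure.t.zero _ (a - 1) a (by omega)
  have hι : ι = 0 := by
    have := congrArg ((LpullRpushAdj f).homEquiv L E) h0
    rw [Equiv.apply_symm_apply] at this
    rw [this, Adjunction.homEquiv_unit]
    obtain ⟨cs, tri⟩ := exists_isTriangulated_Rpush f
    rw [Functor.map_zero, comp_zero]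
  haveI := isIso_homology_map_truncLTι R a i hi
  have h1 : (homologyFunctor S.Modules i).map ι = 0 := by rw [hι, Functor.map_zero]
  exact isZero_of_isIso_of_eq_zero _ h1

end Main

section Coh

variable {X S : Scheme.{u}} (f : X ⟶ S) [DCoh.HasRpush f] [IsLocallyNoetherian S]
  [LocallyOfFiniteType f]

/-- single coherent modules with proper support -/
theorem isCoh_HD_Rpush_single (M : X.Modules) (hM : Coh.IsCoh M)
    (hs : ClSub.IsProperOver f (CohB1.support M)) (p : ℤ) :
    Coh.IsCoh (DCoh.HD ((DCoh.Rpush f).obj (DCoh.inD X M)) p) := by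
  haveI : EnoughInjectives X.Modules := ModGrothendieck.enoughInjectives X.ringCatSheaf
  by_cases hp : 0 ≤ p
  · obtain ⟨k, rfl⟩ := Int.eq_ofNat_of_zero_le hp
    obtain ⟨e⟩ := nonempty_HD_Rpush_single_iso f M k
    exact PCohNoeth.isCoh_of_iso e.symm (Groth.Agent.S0795.result f M hM hs k)
  · haveI := isGE_Rpush_single f M
    exact PCohNoeth.isCoh_of_isZero (DerivedCategory.isZero_of_isGE _ 0 p (by omega))

/-- bounded complexes with coherent cohomology with proper supports -/
theorem isCohD_Rpush_of_bounded (E : DCoh.D X) (a b : ℤ) (hEa : E.IsGE a) (hEb : E.IsLE b)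
    (hE : DCoh.IsCohD E)
    (hsupp : ∀ i : ℤ, ClSub.IsProperOver f (CohB1.support (DCoh.HD E i))) :
    DCoh.IsCohD ((DCoh.Rpush f).obj E) := by
  obtain ⟨cs, tri⟩ := exists_isTriangulated_Rpush f
  have hP := isDevissable_cohIn_map (DCoh.Rpush f) (fun M : S.Modules => Coh.IsCoh M)
  obtain ⟨k, hk⟩ : ∃ k : ℕ, b ≤ a - 1 + k := ⟨(b - a + 1).toNat, by omega⟩
  haveI := hEb
  exact hP.of_bounded a k E hEa
    (fun i hi => DerivedCategory.isZero_of_isLE E b i (by omega))
    (fun q p => isCoh_HD_Rpush_single f _ (hE q) (hsupp q) p)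

/-- **bounded below complexes with coherent cohomology with proper supports** -/
theorem isCohD_Rpush_of_isGE (E : DCoh.D X) (a : ℤ) (hEa : E.IsGE a) (hE : DCoh.IsCohD E)
    (hsupp : ∀ i : ℤ, ClSub.IsProperOver f (CohB1.support (DCoh.HD E i))) :
    DCoh.IsCohD ((DCoh.Rpush f).obj E) := by
  obtain ⟨cs, tri⟩ := exists_isTriangulated_Rpush f
  haveI : IsLocallyNoetherian X := LocallyOfFiniteType.isLocallyNoetherian f
  intro i
  let n := i + 1
  let L := (TStructure.t.truncLT n).obj E
  have hT := TStructure.t.triangleLTGE_distinguished n E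
  have hT' := (DCoh.Rpush f).map_distinguished _ hT
  have hge : ((DCoh.Rpush f).mapTriangle.obj ((TStructure.t.triangleLTGE n).obj E)).obj₃.IsGE n :=
    isGE_Rpush f ((TStructure.t.truncGE n).obj E) n inferInstance
  haveI := hge
  haveI : IsIso ((homologyFunctor S.Modules i).map
      ((DCoh.Rpush f).map ((TStructure.t.truncLTι n).app E))) :=
    Groth.Agent.Lib.Helper5.TruncRlim.isIso_homology_map_mor₁ _ hT' i (i - 1) (by omega)
      (DerivedCategory.isZero_of_isGE _ n (i - 1) (by omega))
      (DerivedCategory.isZero_of_isGE _ n i (by omega))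
  -- `L` is bounded with coherent cohomology with proper supports
  have hLiso : ∀ q : ℤ, q < n → Nonempty (DCoh.HD L q ≅ DCoh.HD E q) := fun q hq => by
    haveI := isIso_homology_map_truncLTι E n q hq
    exact ⟨asIso ((homologyFunctor X.Modules q).map ((TStructure.t.truncLTι n).app E))⟩
  have hLle : L.IsLE (n - 1) := inferInstance
  have hLge : L.IsGE a := by
    rw [DerivedCategory.isGE_iff]
    intro q hq
    by_cases hqn : q < n
    · obtain ⟨e⟩ := hLiso q hqn
      haveI := hEa
      exact (DerivedCategory.isZero_of_isGE E a q hq).of_iso e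
    · haveI := hLle
      exact DerivedCategory.isZero_of_isLE L (n - 1) q (by omega)
  have hLcoh : DCoh.IsCohD L := cohIn_truncLT (fun M : X.Modules => Coh.IsCoh M) E hE n
  have hLsupp : ∀ q : ℤ, ClSub.IsProperOver f (CohB1.support (DCoh.HD L q)) := by
    intro q
    by_cases hqn : q < n
    · obtain ⟨e⟩ := hLiso q hqn
      rw [support_eq_of_iso e]
      exact hsupp q
    · haveI := hLle
      rw [support_eq_empty_of_isZero (DerivedCategory.isZero_of_isLE L (n - 1) q (by omega))]
      exact isProperOver_of_subset f (hsupp q) isClosed_empty (Set.empty_subset _)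
  have h1 := isCohD_Rpush_of_bounded f L a (n - 1) hLge hLle hLcoh hLsupp i
  exact PCohNoeth.isCoh_of_iso
    (asIso ((homologyFunctor S.Modules i).map
      ((DCoh.Rpush f).map ((TStructure.t.truncLTι n).app E)))) h1

end Coh

end Groth.Agent.Lib.Helper2.Aff.Qcqs
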