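import Groth.Agent.Lib.Helper2.Aff.HomVanBase

/-!
# Hom-vanishing for perfect objects and truncations (helper2)
-/

set_option autoImplicit false
universe w w' v v' u u'
open CategoryTheory CategoryTheory.Limits AlgebraicGeometry TopologicalSpace Opposite
  CategoryTheory.Pretriangulated

attribute [local instance] HasDerivedCategory.standard

namespace Groth.Agent.Lib.Helper2.Aff.HomVan

open Groth.Agent.Lib.Helper2 Groth.Agent.Lib.Helper2.Stk Groth.Agent.Lib.Helper2.Aff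
  AlgebraicGeometry.Scheme.Modules Groth.Agent.Lib.Helper13
  Groth.Agent.Lib.Helper2.TExactIso Groth.Agent.Lib.Helper2.Aff.Qcqs

section Shift

variable {C : Type*} [Category C] [Preadditive C] [HasShift C ℤ]
  [∀ n : ℤ, (shiftFunctor C n).Additive]

lemma hom_shift_eq_zero (P L : C) (i : ℤ) (h : ∀ ψ : P ⟶ L⟦i⟧, ψ = 0) (φ : P⟦-i⟧ ⟶ L) :
    φ = 0 := by
  have h1 := h ((shiftFunctorCompIsoId C (-i) i (by omega)).inv.app P ≫ φ⟦i⟧')
  have h2 : φ⟦i⟧' = 0 := by
    rw [← cancel_epi ((shiftFunctorCompIsoId C (-i) i (by omega)).inv.app P), h1, comp_zero]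
  exact (shiftFunctor C i).map_injective (h2.trans (Functor.map_zero _ _ _).symm)

end Shift

variable {X : Scheme.{u}}

open DerivedCategory in
lemma isQCohD_truncLT (E : DCoh.D X) (hE : DCoh.IsQCohD E) (a : ℤ) :
    DCoh.IsQCohD ((TStructure.t.truncLT a).obj E) :=
  cohIn_truncLT (fun M : X.Modules => Coh.IsQCoh M) E hE a

open DerivedCategory in
lemma isQCohD_truncGE (E : DCoh.D X) (hE : DCoh.IsQCohD E) (a : ℤ) :
    DCoh.IsQCohD ((TStructure.t.truncGE a).obj E) := by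
  intro q
  by_cases hq : a ≤ q
  · haveI := Groth.Agent.Lib.Helper5.TruncRlim.isIso_homology_map_truncGEπ E a q hq
    exact isQCoh_of_iso (asIso ((homologyFunctor _ q).map ((TStructure.t.truncGEπ a).app E)))
      (hE q)
  · exact Groth.Agent.Lib.Helper3.QCOpen.isQuasicoherent_of_isZero (isZero_of_isGE _ a q (by omega))

variable [CompactSpace X] [QuasiSeparatedSpace X]

theorem exists_hom_shift_eq_zero (P : DCoh.D X) (hP : DCoh.IsPerfect P) :
    ∃ n : ℕ, (∀ (L : DCoh.D X) (c : ℤ), DCoh.IsQCohD L → L.IsLE c → ∀ i : ℤ, c + n < i →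
        ∀ φ : P⟦-i⟧ ⟶ L, φ = 0) ∧
      (∀ (L : DCoh.D X) (c : ℤ), DCoh.IsQCohD L → L.IsGE c → ∀ i : ℤ, i + n < c →
        ∀ φ : P⟦-i⟧ ⟶ L, φ = 0) := by
  obtain ⟨n, hn⟩ := exists_range_hom_eq_zero P hP
  refine ⟨n, ?_, ?_⟩
  · intro L c hL hLc i hi φ
    apply hom_shift_eq_zero P L i _ φ
    apply hn _ (isQCohD_shift L hL i)
    intro q hq hq'
    exact (DerivedCategory.isZero_of_isLE L c (i + q) (by omega)).of_iso (homologyShiftIso L i q)
  · intro L c hL hLc i hi φ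
    apply hom_shift_eq_zero P L i _ φ
    apply hn _ (isQCohD_shift L hL i)
    intro q hq hq'
    exact (DerivedCategory.isZero_of_isGE L c (i + q) (by omega)).of_iso (homologyShiftIso L i q)

open DerivedCategory in
theorem truncGE_iff (P : DCoh.D X) (hP : DCoh.IsPerfect P) (E : DCoh.D X) (hE : DCoh.IsQCohD E)
    (a : ℤ) :
    (∃ N : ℤ, ∀ i : ℤ, N ≤ i → ∀ φ : P⟦-i⟧ ⟶ E, φ = 0) ↔
    (∃ N : ℤ, ∀ i : ℤ, N ≤ i → ∀ φ : P⟦-i⟧ ⟶ (TStructure.t.truncGE a).obj E, φ = 0) := by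
  obtain ⟨n, hn, -⟩ := exists_hom_shift_eq_zero P hP
  have hT := TStructure.t.triangleLTGE_distinguished a E
  have hq := isQCohD_truncLT E hE a
  constructor
  · rintro ⟨N, hN⟩
    refine ⟨max N (a + n), fun i hi φ => ?_⟩
    have h1 : φ ≫ ((TStructure.t.triangleLTGE a).obj E).mor₃ = 0 := by
      refine hn (((TStructure.t.truncLT a).obj E)⟦(1 : ℤ)⟧) (a - 2) (isQCohD_shift _ hq 1) ?_ i
        (by have := le_max_right N (a + n); omega) _
      exact TStructure.t.isLE_shift ((TStructure.t.truncLT a).obj E) (a - 1) 1 _ (by omega)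
    obtain ⟨ψ, hψ⟩ := Triangle.coyoneda_exact₃ _ hT φ h1
    rw [hψ, hN i (le_trans (le_max_left _ _) hi) ψ]
    exact zero_comp
  · rintro ⟨N, hN⟩
    refine ⟨max N (a + n), fun i hi φ => ?_⟩
    have h1 : φ ≫ ((TStructure.t.triangleLTGE a).obj E).mor₂ = 0 :=
      hN i (le_trans (le_max_left _ _) hi) _
    obtain ⟨χ, hχ⟩ := Triangle.coyoneda_exact₂ _ hT φ h1
    have hχ0 : χ = 0 :=
      hn ((TStructure.t.truncLT a).obj E) (a - 1) hq inferInstance i
        (by have := le_max_right N (a + n); omega) χ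
    rw [hχ, hχ0]
    exact zero_comp

open DerivedCategory in
theorem truncLE_iff (P : DCoh.D X) (hP : DCoh.IsPerfect P) (E : DCoh.D X) (hE : DCoh.IsQCohD E)
    (a : ℤ) :
    (∃ N : ℤ, ∀ i : ℤ, i ≤ N → ∀ φ : P⟦-i⟧ ⟶ E, φ = 0) ↔
    (∃ N : ℤ, ∀ i : ℤ, i ≤ N → ∀ φ : P⟦-i⟧ ⟶ (TStructure.t.truncLE a).obj E, φ = 0) := by
  obtain ⟨n, -, hn⟩ := exists_hom_shift_eq_zero P hP
  have hT := TStructure.t.triangleLEGE_distinguished a (a + 1) rfl E
  have hq := isQCohD_truncGE E hE (a + 1)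
  constructor
  · rintro ⟨N, hN⟩
    refine ⟨min N (a - n), fun i hi φ => ?_⟩
    have h1 : φ ≫ ((TStructure.t.triangleLEGE a (a + 1) rfl).obj E).mor₁ = 0 :=
      hN i (le_trans hi (min_le_left _ _)) _
    obtain ⟨ψ, hψ⟩ := Triangle.coyoneda_exact₂ _ (inv_rot_of_distTriang _ hT) φ h1
    have hψ0 : ψ = 0 := by
      refine hn (((TStructure.t.truncGE (a + 1)).obj E)⟦(-1 : ℤ)⟧) (a + 2)
        (isQCohD_shift _ hq (-1)) ?_ i (by have := min_le_right N (a - n); omega) ψ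
      exact TStructure.t.isGE_shift ((TStructure.t.truncGE (a + 1)).obj E) (a + 1) (-1) _
        (by omega)
    rw [hψ, hψ0]
    exact zero_comp
  · rintro ⟨N, hN⟩
    refine ⟨min N (a - n), fun i hi φ => ?_⟩
    have h1 : φ ≫ ((TStructure.t.triangleLEGE a (a + 1) rfl).obj E).mor₂ = 0 :=
      hn ((TStructure.t.truncGE (a + 1)).obj E) (a + 1) hq inferInstance i
        (by have := min_le_right N (a - n); omega) _
    obtain ⟨χ, hχ⟩ := Triangle.coyoneda_exact₂ _ hT φ h1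
    rw [hχ, hN i (le_trans hi (min_le_left _ _)) χ]
    exact zero_comp

end Groth.Agent.Lib.Helper2.Aff.HomVan
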