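import Groth.Agent.Lib.Helper2.Aff.QcqsPush
import Groth.Agent.Lib.Helper2.Aff.HomVanTrunc
import Groth.Agent.Lib.Helper13.PCohQC
import Groth.Agent.Lib.Helper13.ClImmPC

/-!
# Pseudo-coherence, truncations and bounded direct images (helper2)
-/

set_option autoImplicit false
universe u
open CategoryTheory CategoryTheory.Limits AlgebraicGeometry TopologicalSpace Opposite
  CategoryTheory.Pretriangulated

attribute [local instance] HasDerivedCategory.standard

namespace Groth.Agent.Lib.Helper2.Aff.PCB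

open Groth.Agent.Lib.Helper2 Groth.Agent.Lib.Helper2.Stk Groth.Agent.Lib.Helper2.Aff
  AlgebraicGeometry.Scheme.Modules Groth.Agent.Lib.Helper13 Groth.Agent.Lib.Helper3
  Groth.Agent.Lib.Helper2.TExactIso Groth.Agent.Lib.Helper2.Aff.Qcqs
  Groth.Agent.Lib.Helper13.PCohTri Groth.Agent.Lib.Helper13.PCohSum
  Groth.Agent.Lib.Helper13.ClImmPC

variable {X : Scheme.{u}}

/-- objects of `D^{≤ N - 1}` are trivially `N`-pseudo-coherent -/
lemma isPC_of_isLE (K : DCoh.D X) (N : ℤ) (hK : K.IsLE (N - 1)) :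
    DCoh.IsPseudoCoherentD N K := by
  rw [isPC_iff]
  intro x
  refine ⟨⊤, trivial, lpc_zero N K _ fun i hi => ?_⟩
  exact ((restrictFunctor (⊤ : X.Opens).ι).map_isZero
    (DerivedCategory.isZero_of_isLE K (N - 1) i (by omega))).of_iso
    (mapDerivedCategoryHomologyIso (restrictFunctor (⊤ : X.Opens).ι) K i)

lemma isPC_mono {m m' : ℤ} (h : m ≤ m') (K : DCoh.D X) (hK : DCoh.IsPseudoCoherentD m K) :
    DCoh.IsPseudoCoherentD m' K := by
  rw [isPC_iff] at hK ⊢
  intro x
  obtain ⟨V, hxV, hV⟩ := hK x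
  exact ⟨V, hxV, hV.mono h⟩

lemma isQCohD_of_allPC (F : DCoh.D X) (hF : ∀ m : ℤ, DCoh.IsPseudoCoherentD m F) :
    DCoh.IsQCohD F := fun i =>
  (PCohQC.qcoh_of_pseudoCoherent (i - 1) F (hF (i - 1))).1 i (by omega)

/-- a pseudo-coherent object on a quasi-compact scheme is bounded above -/
lemma exists_isLE_of_isPC [CompactSpace X] (m : ℤ) (K : DCoh.D X)
    (hK : DCoh.IsPseudoCoherentD m K) : ∃ b : ℤ, K.IsLE b := by
  choose W b hyW hWb using fun y : X => exists_local_bound m K hK y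
  obtain ⟨t, ht⟩ := CompactSpace.elim_nhds_subcover (fun y => (W y : Set X))
    (fun y => (W y).isOpen.mem_nhds (hyW y))
  obtain ⟨B, hB⟩ : ∃ B : ℤ, ∀ y ∈ t, b y ≤ B := by
    classical
    obtain ⟨B, hB⟩ := Finset.exists_le (t.image b)
    exact ⟨B, fun y hy => hB _ (Finset.mem_image_of_mem b hy)⟩
  refine ⟨B, isLE_of_locally K B fun s => ?_⟩
  have hs : s ∈ ⋃ x ∈ t, (W x : Set X) := by rw [ht]; trivial
  obtain ⟨y, hyt, hsy⟩ := Set.mem_iUnion₂.1 hs
  refine ⟨_, (W y).ι, inferInstance, ⟨s, hsy⟩, rfl, ?_⟩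
  rw [DerivedCategory.isLE_iff]
  intro i hi
  exact (hWb y i (lt_of_le_of_lt (hB y hyt) hi)).of_iso
    (mapDerivedCategoryHomologyIso (restrictFunctor (W y).ι) K i)

/-- truncations `τ_{≥ a}` of pseudo-coherent objects are `m`-pseudo-coherent for `m ≥ a` -/
lemma isPC_truncGE (F : DCoh.D X) (a m : ℤ) (ham : a ≤ m) (hF : DCoh.IsPseudoCoherentD m F) :
    DCoh.IsPseudoCoherentD m
      ((DerivedCategory.TStructure.t : Triangulated.TStructure (DCoh.D X)).truncGE a |>.obj F) := by
  have hT := DerivedCategory.TStructure.t.triangleLTGE_distinguished a F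
  refine (isPC_two_of_three m _ hT).1 (isPC_of_isLE _ (m + 1) ?_) hF
  exact DerivedCategory.TStructure.t.isLE_of_le
    ((DerivedCategory.TStructure.t.truncLT a).obj F) (a - 1) _ (by omega)

section Push

attribute [local instance] Groth.Agent.Lib.Helper2.Stk.hasRpush

open Groth.Agent.Lib.Helper2.Aff.HomVan

variable {Y : Scheme.{u}} (f : X ⟶ Y) [QuasiCompact f] [QuasiSeparated f] [CompactSpace Y]
  [DCoh.HasRpush f]

/-- from a uniform shift of pseudo-coherence on bounded objects to unbounded pseudo-coherent objects -/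
theorem isPC_Rpush_of_bounded (k : ℤ)
    (hK : ∀ (F : DCoh.D X) (n a b : ℤ), F.IsGE a → F.IsLE b → DCoh.IsPseudoCoherentD n F →
      DCoh.IsPseudoCoherentD (n + k) ((DCoh.Rpush f).obj F))
    (F : DCoh.D X) (hF : ∀ m : ℤ, DCoh.IsPseudoCoherentD m F) (m : ℤ) :
    DCoh.IsPseudoCoherentD m ((DCoh.Rpush f).obj F) := by
  haveI : CompactSpace X := QuasiCompact.compactSpace_of_compactSpace f
  obtain ⟨cs, tri⟩ := exists_isTriangulated_Rpush f
  have hq := isQCohD_of_allPC F hF
  obtain ⟨d, hd⟩ := exists_uniform_bound f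
  obtain ⟨b, hb⟩ := exists_isLE_of_isPC 0 F (hF 0)
  let a : ℤ := min (m - k) (m - d - 1)
  have ha1 : a + k ≤ m := by have := min_le_left (m - k) (m - d - 1); omega
  have ha2 : a + d + 1 ≤ m := by have := min_le_right (m - k) (m - d - 1); omega
  have hT := DerivedCategory.TStructure.t.triangleLTGE_distinguished a F
  have hT' := (DCoh.Rpush f).map_distinguished _ hT
  refine (isPC_two_of_three m _ hT').2.1 ?_ ?_
  · apply isPC_of_isLE
    have h1 : ((DCoh.Rpush f).mapTriangle.obj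
        ((DerivedCategory.TStructure.t.triangleLTGE a).obj F)).obj₁.IsLE (a - 1 + d) :=
      hd _ (isQCohD_truncLT F hq a) (a - 1) inferInstance
    exact DerivedCategory.TStructure.t.isLE_of_le _ (a - 1 + d) _ (by omega)
  · have h2 : DCoh.IsPseudoCoherentD a ((DerivedCategory.TStructure.t.truncGE a).obj F) :=
      isPC_truncGE F a a le_rfl (hF a)
    haveI := hb
    have h3 := hK _ a a b inferInstance inferInstance h2
    exact isPC_mono ha1 _ h3

end Push

end Groth.Agent.Lib.Helper2.Aff.PCB
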