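import Groth.Agent.Lib.Helper2.KInj.DerivedAdjK

/-!
# The counit of the derived adjunction `F ⊣ RG` at a K-injective complex (helper2)
-/

set_option autoImplicit false
universe w₁ w₂ v₁ v₂ u₁ u₂
open CategoryTheory Limits

namespace Groth.Agent.Lib.Helper2.KInj

variable {A : Type u₁} [Category.{v₁} A] [Abelian A] {B : Type u₂} [Category.{v₂} B] [Abelian B]
  {F : A ⥤ B} {G : B ⥤ A} [F.Additive] [G.Additive] (adj : F ⊣ G)
  [HasDerivedCategory.{w₁} A] [HasDerivedCategory.{w₂} B]
  [PreservesFiniteLimits F] [PreservesFiniteColimits F]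
  (hKinj : ∀ K : CochainComplex B ℤ, ∃ (I : CochainComplex B ℤ) (f : K ⟶ I),
    I.IsKInjective ∧ QuasiIso f)
  (RG : DerivedCategory B ⥤ DerivedCategory A)
  (β : G.mapHomotopyCategory (ComplexShape.up ℤ) ⋙ DerivedCategory.Qh ⟶ DerivedCategory.Qh ⋙ RG)
  [RG.IsRightDerivedFunctor β (HomotopyCategory.quasiIso B (ComplexShape.up ℤ))]

/-- the counit of the chain-level adjunction -/
noncomputable abbrev counitCx (I : CochainComplex B ℤ) :
    (F.mapHomologicalComplex (ComplexShape.up ℤ)).obj
      ((G.mapHomologicalComplex (ComplexShape.up ℤ)).obj I) ⟶ I :=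
  (DerivedAdj.mapHomologicalComplexAdj adj (ComplexShape.up ℤ)).counit.app I

include hKinj in
/-- the derived counit at a K-injective complex `I` is invertible iff `F G I ⟶ I` is a
quasi-isomorphism -/
lemma isIso_counit_app_Q_iff (I : CochainComplex B ℤ) (hI : I.IsKInjective) :
    IsIso ((derivedAdjK adj hKinj RG β).counit.app (DerivedCategory.Q.obj I)) ↔
      QuasiIso (counitCx adj I) := by
  let X := (HomotopyCategory.quotient B (ComplexShape.up ℤ)).obj I
  have hX : (HomotopyCategory.quasiIso B (ComplexShape.up ℤ)).isLocal X :=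
    isLocal_quotient_obj_of_isKInjective I hI
  haveI := isIso_app_of_isLocal hKinj RG β X hX
  have h := derivedAdjK_counit_fac adj hKinj RG β X
  have key : IsIso ((derivedAdjK adj hKinj RG β).counit.app (DerivedCategory.Qh.obj X)) ↔
      IsIso (DerivedCategory.Qh.map ((homotopyAdj adj).counit.app X)) := by
    constructor
    · intro h1
      have h2 : IsIso (F.mapDerivedCategoryFactorsh.hom.app
          ((G.mapHomotopyCategory (ComplexShape.up ℤ)).obj X) ≫
          DerivedCategory.Qh.map ((homotopyAdj adj).counit.app X)) := by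
        rw [← h]
        infer_instance
      exact IsIso.of_isIso_comp_left (F.mapDerivedCategoryFactorsh.hom.app
          ((G.mapHomotopyCategory (ComplexShape.up ℤ)).obj X)) _
    · intro h1
      have h2 : IsIso (F.mapDerivedCategory.map (β.app X) ≫
          (derivedAdjK adj hKinj RG β).counit.app (DerivedCategory.Qh.obj X)) := by
        rw [h]
        infer_instance
      exact IsIso.of_isIso_comp_left (F.mapDerivedCategory.map (β.app X)) _
  change IsIso ((derivedAdjK adj hKinj RG β).counit.app (DerivedCategory.Qh.obj X)) ↔ _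
  rw [key]
  let e₁ := (F.mapHomotopyCategory (ComplexShape.up ℤ)).map
        ((G.mapHomotopyCategoryFactors (ComplexShape.up ℤ)).symm.inv.app I)
  let e₂ := (F.mapHomotopyCategoryFactors (ComplexShape.up ℤ)).symm.inv.app
          ((G.mapHomologicalComplex (ComplexShape.up ℤ)).obj I)
  haveI : IsIso ((G.mapHomotopyCategoryFactors (ComplexShape.up ℤ)).symm.inv.app I) :=
    inferInstanceAs (IsIso ((G.mapHomotopyCategoryFactors (ComplexShape.up ℤ)).hom.app I))
  haveI : IsIso e₁ := by dsimp only [e₁]; infer_instance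
  haveI : IsIso e₂ :=
    inferInstanceAs (IsIso ((F.mapHomotopyCategoryFactors (ComplexShape.up ℤ)).hom.app _))
  have h3 : DerivedCategory.Qh.map ((homotopyAdj adj).counit.app X) =
      DerivedCategory.Qh.map (e₁ ≫ e₂) ≫ DerivedCategory.Q.map (counitCx adj I) := by
    dsimp only [homotopyAdj]
    rw [Adjunction.localization_counit_app, Functor.map_comp, Functor.map_comp]
    conv_rhs => rw [Functor.map_comp, Category.assoc]
    rfl
  haveI h12 : IsIso (e₁ ≫ e₂) := IsIso.comp_isIso
  haveI hq12 : IsIso (DerivedCategory.Qh.map (e₁ ≫ e₂)) := Functor.map_isIso _ _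
  rw [h3]
  constructor
  · intro h1
    have h4 : IsIso (DerivedCategory.Q.map (counitCx adj I)) :=
      @IsIso.of_isIso_comp_left _ _ _ _ _ (DerivedCategory.Qh.map (e₁ ≫ e₂))
        (DerivedCategory.Q.map (counitCx adj I)) hq12 h1
    exact (DerivedCategory.isIso_Q_map_iff_quasiIso B (counitCx adj I)).1 h4
  · intro h1
    have h4 : IsIso (DerivedCategory.Q.map (counitCx adj I)) :=
      (DerivedCategory.isIso_Q_map_iff_quasiIso B (counitCx adj I)).2 h1
    exact @IsIso.comp_isIso _ _ _ _ _ _ _ hq12 h4

end Groth.Agent.Lib.Helper2.KInj
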