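import Groth.Agent.Lib.Helper2.RpushCompare
import Groth.Agent.Lib.Helper2.GSS.LeraySite
import Groth.Agent.Lib.Helper13.AffineVanish
import Groth.Agent.Lib.Helper2.Leray

/-!
# Quasi-coherent modules on `Spec R` are acyclic for the module-valued global sections functor
(helper2)
-/

set_option autoImplicit false
universe u
open CategoryTheory CategoryTheory.Limits AlgebraicGeometry TopologicalSpace Opposite

namespace Groth.Agent.Lib.Helper2.Aff

open Groth.Agent.Lib.Helper2 Groth.Agent.Lib.Helper13

variable (R : CommRingCat.{u})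

/-- global sections of a module on `Spec R`, as an `R`-module -/
noncomputable abbrev Γm : (Spec (CommRingCat.of R)).Modules ⥤ ModuleCat.{u} R :=
  moduleSpecΓFunctor

instance : (Γm R).IsRightAdjoint := (tilde.adjunction (R := R)).isRightAdjoint

instance : (Γm R).Additive := (tilde.adjunction (R := R)).right_adjoint_additive

/-- the underlying abelian group of the global sections -/
noncomputable def ΓmAbIso : Γm R ⋙ forget₂ (ModuleCat.{u} R) AddCommGrpCat.{u} ≅
    RpushCompare.TT (Spec (CommRingCat.of R)) ⋙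
      GSS.secF (Opens.grothendieckTopology (Spec (CommRingCat.of R))) ⊤ :=
  NatIso.ofComponents (fun M => Iso.refl _)

variable {R}

/-- quasi-coherent modules on `Spec R` are `Γ`-acyclic -/
theorem racyc_Γm (M : (Spec (CommRingCat.of R)).Modules) [M.IsQuasicoherent] :
    haveI : EnoughInjectives (Spec (CommRingCat.of R)).Modules :=
      ModGrothendieck.enoughInjectives (Spec (CommRingCat.of R)).ringCatSheaf
    RDBridge.RAcyc (Γm R) M := by
  haveI : EnoughInjectives (Spec (CommRingCat.of R)).Modules :=
    ModGrothendieck.enoughInjectives (Spec (CommRingCat.of R)).ringCatSheaf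
  intro i hi
  obtain ⟨p, rfl⟩ : ∃ p, i = p + 1 := ⟨i - 1, by omega⟩
  let X := Spec (CommRingCat.of R)
  let U := forget₂ (ModuleCat.{u} R) AddCommGrpCat.{u}
  have hI : ∀ (I : X.Modules), Injective I → ∀ q : ℕ,
      IsZero (((GSS.secF (Opens.grothendieckTopology X) ⊤).rightDerived (q + 1)).obj
        ((RpushCompare.TT X).obj I)) := by
    intro I hI q
    refine IsZero.of_iso ?_ (GSS.rightDerivedSecIso (Opens.grothendieckTopology X) ⊤ _ (q + 1))
    haveI : Subsingleton (Sheaf.H' ((RpushCompare.TT X).obj I) (q + 1) (⊤ : X.Opens)) :=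
      FlasqueBasic.subsingleton_HU_of_totallyAcyclic _
        (@ModAcyclicGen.isTotallyAcyclic_of_injective _ _ _ X.ringCatSheaf I hI) _ q
    exact AddCommGrpCat.isZero_of_subsingleton _
  obtain ⟨e3⟩ := GSS.nonempty_rightDerived_comp_iso (RpushCompare.TT X)
    (GSS.secF (Opens.grothendieckTopology X) ⊤) hI (p + 1) M
  have e1 := DerivedCommute.rightDerivedCompExactObjIso (Γm R) U (p + 1) M
  have e2 := DerivedCommute.rightDerivedObjIsoOfNatIso (ΓmAbIso R) (p + 1) M
  have e4 := GSS.rightDerivedSecIso (Opens.grothendieckTopology X) ⊤ (Coh.toAb M) (p + 1)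
  have hM : IsLocalizing (modulesSpecToSheaf.obj M) :=
    (isIso_fromTildeΓ_iff_isLocalizing M).1 inferInstance
  have h := AffineVanish.subsingleton_HU_spec M hM 1 p
  rw [PrimeSpectrum.basicOpen_one] at h
  have hz : IsZero (U.obj (((Γm R).rightDerived (p + 1)).obj M)) := by
    refine IsZero.of_iso ?_ (e1.symm ≪≫ e2 ≪≫ e3 ≪≫ e4)
    haveI : Subsingleton (Sheaf.H' (Coh.toAb M) (p + 1) (⊤ : X.Opens)) := h
    exact AddCommGrpCat.isZero_of_subsingleton _
  rw [IsZero.iff_id_eq_zero]
  apply U.map_injective
  exact hz.eq_of_src _ _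

end Groth.Agent.Lib.Helper2.Aff
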