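import Groth.Agent.Lib.Helper2.Leray

/-!
# A left exact functor preserves quasi-isomorphisms between bounded below complexes of acyclic
objects (monomorphism case) (helper2)
-/

namespace Groth.Agent.Lib.Helper2.Leray

open CategoryTheory CategoryTheory.Limits HomologicalComplex
open Groth.Agent.Lib.Helper2.RDBridge

universe v v' u u'

variable {C : Type u} [Category.{v} C] [Abelian C] [EnoughInjectives C]
  {D : Type u'} [Category.{v'} D] [Abelian D]
  (F : C ⥤ D) [F.Additive] [PreservesFiniteLimits F]

theorem quasiIso_map_of_mono (K L : CochainComplex C ℤ) (a : ℤ) [K.IsStrictlyGE a]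
    [L.IsStrictlyGE a] (i : K ⟶ L) [hi : Mono i] [hi' : QuasiIso i]
    (hK : ∀ n, RAcyc F (K.X n)) (hL : ∀ n, RAcyc F (L.X n)) :
    QuasiIso ((F.mapHomologicalComplex (ComplexShape.up ℤ)).map i) := by
  let S : ShortComplex (CochainComplex C ℤ) :=
    ShortComplex.mk i (cokernel.π i) (cokernel.condition i)
  have hS : S.ShortExact :=
    { exact := ShortComplex.exact_cokernel i
      mono_f := hi
      epi_g := inferInstanceAs (Epi (cokernel.π i)) }
  have hSn : ∀ n, (S.map (HomologicalComplex.eval C (ComplexShape.up ℤ) n)).ShortExact :=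
    fun n => hS.map_of_exact _
  have hterms : ∀ n, RAcyc F (S.X₃.X n) := fun n =>
    racyc_X₃ F _ (hSn n) (hK n) (hL n)
  let S' := S.map (F.mapHomologicalComplex (ComplexShape.up ℤ))
  have hS' : S'.ShortExact := by
    apply HomologicalComplex.shortExact_of_degreewise_shortExact
    intro n
    exact shortExact_map_of_isZero F _ (hSn n) (hK n 1 (by omega))
  have hMacyc : S.X₃.Acyclic := hS.acyclic_X₃ hi'
  haveI : S.X₃.IsStrictlyGE a := by
    rw [CochainComplex.isStrictlyGE_iff]
    intro n hn
    have hepi : Epi (S.map (HomologicalComplex.eval C (ComplexShape.up ℤ) n)).g := (hSn n).epi_g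
    exact @IsZero.of_epi _ _ _ _ _ (S.map (HomologicalComplex.eval C (ComplexShape.up ℤ) n)).g
      hepi (CochainComplex.isZero_of_isStrictlyGE L a n hn)
  have hFM := map_acyclic F S.X₃ a hMacyc hterms
  exact quasiIso_f_of_acyclic hS' hFM

end Groth.Agent.Lib.Helper2.Leray
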