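import Groth.Agent.Lib.Helper2.Stk.RlimTrunc
import Groth.Agent.Lib.Helper13.AffineVanish
import Groth.Prelude.Def_DCoh2

/-!
# Objects of `D_QCoh(O_X)` are derived limits of their truncations (helper2)

Library form of S1007.
-/

set_option autoImplicit false
universe u
open CategoryTheory CategoryTheory.Limits AlgebraicGeometry

attribute [local instance] HasDerivedCategory.standard

namespace Groth.Agent.Lib.Helper2.Aff

theorem isRlimVia_truncTower_of_isQCohD (X : Scheme.{u}) (E : DCoh.D X) (hE : DCoh.IsQCohD E)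
    [hp : HasProduct (CohCx.truncTower E)] :
    CohCx.IsRlimVia (CohCx.truncTower E) (CohCx.truncTowerMap E) E (CohCx.toTruncTower E) := by
  classical
  have hB : ∀ U : X.Opens, ∃ (ι : Type u) (Y : ι → X.Opens) (f : ∀ i, Y i ⟶ U),
      Sieve.ofArrows Y f ∈ Opens.grothendieckTopology X U ∧
        ∀ i, Y i ∈ {V : X.Opens | IsAffineOpen V} := by
    intro U
    refine ⟨{V : X.affineOpens // V.1 ≤ U}, fun V => V.1.1, fun V => homOfLE V.2, ?_,
      fun V => V.1.2⟩
    intro x hx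
    obtain ⟨V, hV, hxV, hVU⟩ :=
      (TopologicalSpace.Opens.isBasis_iff_nbhd.1 X.isBasis_affineOpens) hx
    exact ⟨V, homOfLE hVU, ⟨_, 𝟙 _, homOfLE hVU,
      ⟨(⟨⟨V, hV⟩, hVU⟩ : {V : X.affineOpens // V.1 ≤ U})⟩, by simp⟩, hxV⟩
  have h : ∀ V ∈ {V : X.Opens | IsAffineOpen V}, ∀ (m : ℤ) (k : ℕ),
      (fun _ : ℤ => (0 : ℤ)) m < k →
      Subsingleton (ModSite.HU X.sheaf
        ((DerivedCategory.homologyFunctor (ModSite.Mod X.sheaf) (m - k)).obj E) k V) := by
    intro V hV m k hk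
    obtain ⟨p, rfl⟩ : ∃ p : ℕ, k = p + 1 := ⟨k - 1, by
      have : (0 : ℤ) < k := hk
      omega⟩
    haveI : (DCoh.HD E (m - ((p + 1 : ℕ) : ℤ))).IsQuasicoherent := hE _
    exact Groth.Agent.Lib.Helper13.AffineVanish.subsingleton_HU_of_isAffineOpen
      (DCoh.HD E (m - ((p + 1 : ℕ) : ℤ))) hV p
  exact @Groth.Agent.Lib.Helper2.Stk.isRlimVia_truncTower_of_vanishing _ _ _ X.sheaf
    (HasDerivedCategory.standard _) E hp
    {V : X.Opens | IsAffineOpen V} hB (fun _ => 0) h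

end Groth.Agent.Lib.Helper2.Aff
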