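import Groth.Prelude.Def_WeakSerre
import Groth.Prelude.Def_Coh
import Groth.Agent.Lib.Helper3.QCProps
import Groth.Agent.Lib.Helper3.QCExact
import Groth.Agent.Lib.Helper3.QCOpen

/-!
# Quasi-coherent modules form a weak Serre subcategory (helper2)
-/

set_option autoImplicit false
universe v u
open CategoryTheory CategoryTheory.Limits AlgebraicGeometry

namespace Groth.Agent.Lib.Helper2.Aff

open Groth.Agent.Lib.Helper3

lemma isQCoh_of_iso {X : Scheme.{u}} {M N : X.Modules} (e : M ≅ N) (h : Coh.IsQCoh M) :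
    Coh.IsQCoh N :=
  (SheafOfModules.isQuasicoherent X.ringCatSheaf).prop_of_iso e h

open ZeroObject in
instance isWeakSerre_isQCoh (X : Scheme.{u}) :
    WSerre.IsWeakSerre (fun M : X.Modules => Coh.IsQCoh M) where
  exists_zero := ⟨0, isZero_zero _, QCOpen.isQuasicoherent_of_isZero (isZero_zero _)⟩
  kernels_le := by
    rintro _ ⟨f, k, hk, ⟨hX, hY⟩⟩
    rename_i M N
    haveI : M.IsQuasicoherent := hX
    haveI : N.IsQuasicoherent := hY
    exact isQCoh_of_iso (IsLimit.conePointUniqueUpToIso (kernelIsKernel f) hk)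
      (QCProps.isQuasicoherent_kernel f)
  cokernels_le := by
    rintro _ ⟨f, k, hk, ⟨hX, hY⟩⟩
    rename_i M N
    haveI : M.IsQuasicoherent := hX
    haveI : N.IsQuasicoherent := hY
    exact isQCoh_of_iso (IsColimit.coconePointUniqueUpToIso (cokernelIsCokernel f) hk)
      (QCProps.isQuasicoherent_cokernel f)
  prop_X₂_of_shortExact := by
    intro S hS h₁ h₃
    haveI : S.X₁.IsQuasicoherent := h₁
    haveI : S.X₃.IsQuasicoherent := h₃
    exact QCExact.isQuasicoherent_of_shortExact S hS

instance isWeakSerre_top {C : Type u} [Category.{v} C] [Abelian C] :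
    WSerre.IsWeakSerre (⊤ : ObjectProperty C) where
  kernels_le := fun _ _ => trivial
  cokernels_le := fun _ _ => trivial

end Groth.Agent.Lib.Helper2.Aff
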