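import Groth.Agent.Lib.Helper2.Aff.Unbdd
import Groth.Agent.Lib.Helper2.Aff.CounitCrit
import Groth.Agent.Lib.Helper2.Aff.LerayMono
import Groth.Agent.Lib.Helper2.Aff.GammaAcyc
import Groth.Agent.Lib.Helper2.Aff.QCohSerre
import Groth.Agent.Lib.Helper2.Stk.Rpush
import Groth.Agent.Lib.Helper2.Aff.QCohRlim
import Groth.Agent.Lib.Helper2.KInj.DProd
import Groth.Agent.Lib.Helper13.AffineVanish
import Groth.Prelude.Def_DCoh2

/-!
# `D(R) ≃ D_QCoh(Spec R)` (helper2)

The derived adjunction `tildeD ⊣ RΓ` on `Spec R`; its unit is an isomorphism, and its counit is an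
isomorphism on objects with quasi-coherent cohomology sheaves.
-/

set_option autoImplicit false
universe u
open CategoryTheory CategoryTheory.Limits AlgebraicGeometry TopologicalSpace Opposite

attribute [local instance] HasDerivedCategory.standard

namespace Groth.Agent.Lib.Helper2.Aff

open Groth.Agent.Lib.Helper2 Groth.Agent.Lib.Helper13 Groth.Agent.Lib.Helper3
  Groth.Agent.Lib.Helper2.TExactIso

local notation "cc" => ComplexShape.up ℤ

variable (R : CommRingCat.{u})

/-- `Spec R` -/
noncomputable abbrev SpecR : Scheme.{u} := Spec (CommRingCat.of R)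

/-- `K(O_X) ⥤ D(R)` induced by global sections -/
noncomputable abbrev ΓKh :
    HomotopyCategory (SpecR R).Modules cc ⥤ DerivedCategory (ModuleCat.{u} R) :=
  (Γm R).mapHomotopyCategory cc ⋙ DerivedCategory.Qh

theorem hasRΓ : (ΓKh R).HasRightDerivedFunctor
    (HomotopyCategory.quasiIso (SpecR R).Modules cc) :=
  LocalRes.hasRightDerivedFunctor _ (exists_local_resolution (Stk.hKinj (SpecR R))) (ΓKh R)

/-- `RΓ(Spec R, -) : D(O_X) ⥤ D(R)` -/
noncomputable def RΓ : DCoh.D (SpecR R) ⥤ DerivedCategory (ModuleCat.{u} R) :=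
  haveI := hasRΓ R
  (ΓKh R).totalRightDerived DerivedCategory.Qh (HomotopyCategory.quasiIso (SpecR R).Modules cc)

/-- the unit of `RΓ` -/
noncomputable def βΓ : ΓKh R ⟶ DerivedCategory.Qh ⋙ RΓ R :=
  haveI := hasRΓ R
  (ΓKh R).totalRightDerivedUnit DerivedCategory.Qh
    (HomotopyCategory.quasiIso (SpecR R).Modules cc)

instance : (RΓ R).IsRightDerivedFunctor (βΓ R)
    (HomotopyCategory.quasiIso (SpecR R).Modules cc) := by
  haveI := hasRΓ R
  dsimp only [RΓ, βΓ]
  infer_instance

lemma hrefl : ∀ M : ModuleCat.{u} R, (⊤ : ObjectProperty (ModuleCat.{u} R)) M →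
    IsZero ((tilde.functor R).obj M) → IsZero M := by
  intro M _ hz
  rw [IsZero.iff_id_eq_zero]
  apply (tilde.functor R).map_injective
  exact hz.eq_of_src _ _

variable [PreservesFiniteLimits (tilde.functor R)]

instance : PreservesFiniteColimits (tilde.functor R) := by
  haveI : PreservesColimitsOfSize.{0, 0} (tilde.functor R) :=
    (tilde.adjunction (R := R)).leftAdjoint_preservesColimits
  exact PreservesColimitsOfSize.preservesFiniteColimits _

/-- the derived adjunction `tildeD ⊣ RΓ` -/
noncomputable def adjD : DCoh.tildeD R ⊣ RΓ R :=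
  KInj.derivedAdjK (tilde.adjunction (R := R)) (Stk.hKinj (SpecR R)) (RΓ R) (βΓ R)

/-- the unit of the derived adjunction is an isomorphism at modules placed in degree `0` -/
theorem isIso_unit_single (M : ModuleCat.{u} R) :
    IsIso ((adjD R).unit.app ((DerivedCategory.singleFunctor (ModuleCat.{u} R) 0).obj M)) := by
  classical
  let X := SpecR R
  haveI : EnoughInjectives X.Modules := ModGrothendieck.enoughInjectives X.ringCatSheaf
  let N : X.Modules := (tilde.functor R).obj M
  let S : CochainComplex X.Modules ℤ := (CochainComplex.singleFunctor X.Modules 0).obj N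
  haveI : S.IsStrictlyGE 0 := inferInstanceAs
    (((CochainComplex.singleFunctor X.Modules 0).obj N).IsStrictlyGE 0)
  obtain ⟨L, i, hi, hi', hL, hLge⟩ :=
    CochainComplex.Plus.modelCategoryQuillen.exists_mono_quasiIso_injective S (-1) 0 (by omega)
  haveI := hLge
  haveI := hi
  haveI := hi'
  haveI : S.IsStrictlyGE (-1) := S.isStrictlyGE_of_ge (-1) 0 (by omega)
  have hLK : L.IsKInjective := CochainComplex.isKInjective_of_injective L (-1)
  have hSq : ∀ n, (S.X n).IsQuasicoherent := by
    intro n
    by_cases hn : n = 0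
    · subst hn
      exact isQCoh_of_iso (HomologicalComplex.singleObjXSelf cc 0 N).symm
        (inferInstanceAs ((tilde.functor R).obj M).IsQuasicoherent)
    · exact QCOpen.isQuasicoherent_of_isZero (HomologicalComplex.isZero_single_obj_X cc 0 N n hn)
  have hΓi : QuasiIso (((Γm R).mapHomologicalComplex cc).map i) :=
    Leray.quasiIso_map_of_mono (Γm R) S L (-1) i
      (fun n => haveI := hSq n; racyc_Γm (S.X n))
      (fun n => haveI := hL n; RDBridge.racyc_of_injective (Γm R) (L.X n))
  have hcS : IsIso (KInj.counitCx (tilde.adjunction (R := R)) S) := by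
    haveI : ∀ n, IsIso ((KInj.counitCx (tilde.adjunction (R := R)) S).f n) := fun n => by
      haveI := hSq n
      exact inferInstanceAs (IsIso (Scheme.Modules.fromTildeΓ (S.X n)))
    exact HomologicalComplex.Hom.isIso_of_components _
  have hnat : KInj.counitCx (tilde.adjunction (R := R)) S ≫ i =
      ((tilde.functor R).mapHomologicalComplex cc).map (((Γm R).mapHomologicalComplex cc).map i) ≫
        KInj.counitCx (tilde.adjunction (R := R)) L :=
    ((DerivedAdj.mapHomologicalComplexAdj (tilde.adjunction (R := R)) cc).counit.naturality i).symm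
  haveI hFΓi : QuasiIso (((tilde.functor R).mapHomologicalComplex cc).map
      (((Γm R).mapHomologicalComplex cc).map i)) := by
    haveI := hΓi
    infer_instance
  have hcL : QuasiIso (KInj.counitCx (tilde.adjunction (R := R)) L) := by
    haveI : QuasiIso (((tilde.functor R).mapHomologicalComplex cc).map
      (((Γm R).mapHomologicalComplex cc).map i) ≫
        KInj.counitCx (tilde.adjunction (R := R)) L) := by
      rw [← hnat]
      infer_instance
    exact quasiIso_of_comp_left (((tilde.functor R).mapHomologicalComplex cc).map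
      (((Γm R).mapHomologicalComplex cc).map i)) _
  have hεL : IsIso ((adjD R).counit.app (DerivedCategory.Q.obj L)) :=
    (KInj.isIso_counit_app_Q_iff (tilde.adjunction (R := R)) (Stk.hKinj (SpecR R)) (RΓ R) (βΓ R)
      L hLK).2 hcL
  haveI : IsIso (DerivedCategory.Q.map i) :=
    (DerivedCategory.isIso_Q_map_iff_quasiIso X.Modules i).2 hi'
  let e : DerivedCategory.Q.obj L ≅
      (DCoh.tildeD R).obj ((DerivedCategory.singleFunctor (ModuleCat.{u} R) 0).obj M) :=
    (asIso (DerivedCategory.Q.map i)).symm ≪≫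
      ((DerivedCategory.singleFunctorIsoCompQ X.Modules 0).app N).symm ≪≫
      (((tilde.functor R).mapDerivedCategorySingleFunctor 0).app M).symm
  haveI hε : IsIso ((adjD R).counit.app
      ((DCoh.tildeD R).obj ((DerivedCategory.singleFunctor (ModuleCat.{u} R) 0).obj M))) :=
    isIso_app_of_iso (adjD R).counit e hεL
  have h1 := (adjD R).left_triangle_components
    ((DerivedCategory.singleFunctor (ModuleCat.{u} R) 0).obj M)
  haveI : IsIso ((DCoh.tildeD R).map ((adjD R).unit.app
      ((DerivedCategory.singleFunctor (ModuleCat.{u} R) 0).obj M))) := by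
    haveI : IsIso ((DCoh.tildeD R).map ((adjD R).unit.app
        ((DerivedCategory.singleFunctor (ModuleCat.{u} R) 0).obj M)) ≫
        (adjD R).counit.app ((DCoh.tildeD R).obj
          ((DerivedCategory.singleFunctor (ModuleCat.{u} R) 0).obj M))) := by
      rw [h1]
      exact IsIso.id _
    exact IsIso.of_isIso_comp_right _ ((adjD R).counit.app ((DCoh.tildeD R).obj
      ((DerivedCategory.singleFunctor (ModuleCat.{u} R) 0).obj M)))
  rw [DerivedCategory.isIso_iff]
  intro j
  apply Groth.Agent.Lib.Helper5.EquivUnbdd.isIso_homology_map_of_mapDerivedCategory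
    (tilde.functor R) (⊤ : ObjectProperty (ModuleCat.{u} R)) (hrefl R) _
    (fun _ => trivial) (fun _ => trivial) j
  intro i' _ _
  infer_instance

section Final

instance hasExactLimitsNat : HasExactLimitsOfShape (Discrete ℕ) (ModuleCat.{u} R) := by
  haveI : AB4StarOfSize.{0} (ModuleCat.{u} R) := AB4StarOfSize_shrink.{0, u} (ModuleCat.{u} R)
  infer_instance

/-- the unit of `tildeD ⊣ RΓ` is an isomorphism, and the counit is an isomorphism on `D_QCoh` -/
theorem isIso_unit_counit :
    (∀ Y : DerivedCategory (ModuleCat.{u} R), IsIso ((adjD R).unit.app Y)) ∧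
    (∀ K : DCoh.D (SpecR R), DCoh.IsQCohD K → IsIso ((adjD R).counit.app K)) := by
  haveI hpC : HasProducts.{u} (DerivedCategory (SpecR R).Modules) := KInj.DProd.hasProducts
  haveI hpD : HasProducts.{u} (DerivedCategory (ModuleCat.{u} R)) := KInj.DProd.hasProducts
  haveI : HasLimitsOfShape (Discrete ℕ) (DerivedCategory (SpecR R).Modules) :=
    hasLimitsOfShape_of_equivalence (Discrete.equivalence (Equiv.ulift.{u, 0} (α := ℕ)))
  haveI : HasLimitsOfShape (Discrete ℕ) (DerivedCategory (ModuleCat.{u} R)) :=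
    hasLimitsOfShape_of_equivalence (Discrete.equivalence (Equiv.ulift.{u, 0} (α := ℕ)))
  haveI hprodA : ∀ K : ℕ → DerivedCategory (SpecR R).Modules, HasProduct K :=
    fun K => inferInstance
  haveI hprodB : ∀ K : ℕ → DerivedCategory (ModuleCat.{u} R), HasProduct K :=
    fun K => inferInstance
  have h2a : ∀ F' : ModuleCat.{u} R, (⊤ : ObjectProperty (ModuleCat.{u} R)) F' →
      (fun M : (SpecR R).Modules => Coh.IsQCoh M) ((tilde.functor R).obj F') :=
    fun F' _ => inferInstanceAs ((tilde.functor R).obj F').IsQuasicoherent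
  have h2c : ∀ F : (SpecR R).Modules, (fun M : (SpecR R).Modules => Coh.IsQCoh M) F →
      ∃ F' : ModuleCat.{u} R, (⊤ : ObjectProperty (ModuleCat.{u} R)) F' ∧
        Nonempty ((tilde.functor R).obj F' ≅ F) := by
    intro F hF
    haveI : IsIso (Scheme.Modules.fromTildeΓ F) :=
      @Scheme.Modules.isIso_fromTildeΓ_of_isQuasicoherent R F hF
    let e := asIso (Scheme.Modules.fromTildeΓ F)
    exact ⟨(Γm R).obj F, trivial, ⟨e⟩⟩
  have h3 : ∀ F' : ModuleCat.{u} R, (⊤ : ObjectProperty (ModuleCat.{u} R)) F' →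
      IsIso ((adjD R).unit.app ((DerivedCategory.singleFunctor (ModuleCat.{u} R) 0).obj F')) :=
    fun F' _ => isIso_unit_single R F'
  have hRlim : ∀ K : DerivedCategory (SpecR R).Modules,
      WSerre.cohIn (fun M : (SpecR R).Modules => Coh.IsQCoh M) K →
      CohCx.IsRlimVia (CohCx.truncTower K) (CohCx.truncTowerMap K) K (CohCx.toTruncTower K) :=
    fun K hK => isRlimVia_truncTower_of_isQCohD (SpecR R) K hK
  exact ⟨fun Y => (unit_unbdd (adjD R) (fun M : (SpecR R).Modules => Coh.IsQCoh M)
      (⊤ : ObjectProperty (ModuleCat.{u} R)) (hrefl R) h2a h2c h3 hRlim Y (fun _ => trivial)).2,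
    fun K hK => (counit_unbdd (adjD R) (fun M : (SpecR R).Modules => Coh.IsQCoh M)
      (⊤ : ObjectProperty (ModuleCat.{u} R)) (hrefl R) h2c h3 hRlim K hK).2⟩

/-- `tildeD M` has quasi-coherent cohomology sheaves -/
theorem isQCohD_tildeD (M : DerivedCategory (ModuleCat.{u} R)) :
    DCoh.IsQCohD ((DCoh.tildeD R).obj M) := fun i =>
  isQCoh_of_iso (mapDerivedCategoryHomologyIso (tilde.functor R) M i).symm
    (inferInstanceAs ((tilde.functor R).obj _).IsQuasicoherent)

/-- **`D(R) ≃ D_QCoh(Spec R)`** -/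
theorem tildeD_fullyFaithful_essImage :
    (DCoh.tildeD R).Full ∧ (DCoh.tildeD R).Faithful ∧
    ∀ K : DCoh.D (SpecR R), DCoh.IsQCohD K ↔ ∃ M, Nonempty ((DCoh.tildeD R).obj M ≅ K) := by
  obtain ⟨hu, hc⟩ := isIso_unit_counit R
  haveI : IsIso (adjD R).unit := NatIso.isIso_of_isIso_app _
  refine ⟨(adjD R).fullyFaithfulLOfIsIsoUnit.full, (adjD R).fullyFaithfulLOfIsIsoUnit.faithful,
    fun K => ⟨fun hK => ?_, ?_⟩⟩
  · haveI := hc K hK
    exact ⟨(RΓ R).obj K, ⟨asIso ((adjD R).counit.app K)⟩⟩
  · rintro ⟨M, ⟨e⟩⟩ i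
    exact isQCoh_of_iso ((DerivedCategory.homologyFunctor _ i).mapIso e) (isQCohD_tildeD R M i)

end Final

end Groth.Agent.Lib.Helper2.Aff
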