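import Groth.Agent.Lib.Helper2.Aff.TildeEquiv
import Groth.Agent.Lib.Helper2.Stk.LpullOpen
import Groth.Agent.Lib.Helper2.Stk.TildeBC
import Groth.Agent.Lib.Helper14.TildeExact

/-!
# `Lf^*` preserves `D_QCoh` (helper2)
-/

set_option autoImplicit false
universe u
open CategoryTheory CategoryTheory.Limits AlgebraicGeometry TopologicalSpace Opposite

attribute [local instance] HasDerivedCategory.standard

namespace Groth.Agent.Lib.Helper2.Aff

open Groth.Agent.Lib.Helper2 Groth.Agent.Lib.Helper3 Groth.Agent.Lib.Helper2.Stk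
  Groth.Agent.Lib.Helper2.TExactIso

/-- restriction along an open immersion preserves `D_QCoh` -/
theorem isQCohD_restrict {U X : Scheme.{u}} (j : U ⟶ X) [IsOpenImmersion j] (K : DCoh.D X)
    (hK : DCoh.IsQCohD K) :
    DCoh.IsQCohD ((Scheme.Modules.restrictFunctor j).mapDerivedCategory.obj K) := by
  intro i
  haveI : (DCoh.HD K i).IsQuasicoherent := hK i
  exact isQCoh_of_iso (mapDerivedCategoryHomologyIso (Scheme.Modules.restrictFunctor j) K i).symm
    (inferInstanceAs ((Scheme.Modules.restrictFunctor j).obj (DCoh.HD K i)).IsQuasicoherent)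

/-- the affine case: `Lg^*` preserves `D_QCoh` for a morphism of affine schemes -/
theorem isQCohD_Lpull_Spec {A B : CommRingCat.{u}} (φ : A ⟶ B) [DCoh.HasLpull (Spec.map φ)]
    (K : DCoh.D (Spec A)) (hK : DCoh.IsQCohD K) :
    DCoh.IsQCohD ((DCoh.Lpull (Spec.map φ)).obj K) := by
  haveI := Groth.Agent.Lib.Helper14.preservesFiniteLimits_tilde A
  haveI := Groth.Agent.Lib.Helper14.preservesFiniteLimits_tilde B
  obtain ⟨M, ⟨eM⟩⟩ := ((tildeD_fullyFaithful_essImage A).2.2 K).1 hK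
  haveI : DRing.HasLBaseChange φ.hom := (adapted_baseChangeKh φ.hom).hasLeftDerivedFunctor
  have e6 := (tildeLBaseChangeIso φ.hom).app M
  have e : (DCoh.tildeD B).obj ((DRing.LBaseChange φ.hom).obj M) ≅
      (DCoh.Lpull (Spec.map φ)).obj K := e6 ≪≫ (DCoh.Lpull (Spec.map φ)).mapIso eM
  intro i
  exact isQCoh_of_iso ((DerivedCategory.homologyFunctor _ i).mapIso e) (isQCohD_tildeD B _ i)

/-- **`Lf^*` preserves objects with quasi-coherent cohomology sheaves.** -/
theorem isQCohD_Lpull {Y X : Scheme.{u}} (f : Y ⟶ X) [DCoh.HasLpull f] (K : DCoh.D X)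
    (hK : DCoh.IsQCohD K) : DCoh.IsQCohD ((DCoh.Lpull f).obj K) := by
  intro i
  apply QCProps.isQuasicoherent_of_charts
  intro y
  obtain ⟨V, hV, hyV⟩ := QCProps.exists_affine_nbhd (f.base y)
  obtain ⟨_, ⟨U, hU, rfl⟩, hyU, hUV⟩ :=
    Y.isBasis_affineOpens.exists_subset_of_mem_open (show y ∈ ((f ⁻¹ᵁ V : Y.Opens) : Set Y) from hyV)
      (f ⁻¹ᵁ V).2
  refine ⟨U, hU, hyU, ?_⟩
  have hUV' : U ≤ f ⁻¹ᵁ V := hUV
  let φ : Γ(X, V) ⟶ Γ(Y, U) := f.appLE V U hUV'
  have hg : Spec.map φ ≫ hV.fromSpec = hU.fromSpec ≫ f :=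
    IsAffineOpen.SpecMap_appLE_fromSpec f hV hU hUV'
  haveI := hasLpull hU.fromSpec
  haveI := hasLpull hV.fromSpec
  haveI := hasLpull (Spec.map φ)
  haveI := hasLpull (hU.fromSpec ≫ f)
  haveI := hasLpull (Spec.map φ ≫ hV.fromSpec)
  obtain ⟨e1⟩ := nonempty_Lpull_openImmersion_iso hU.fromSpec ((DCoh.Lpull f).obj K)
  have e2 := (LpullComp hU.fromSpec f).app K
  obtain ⟨e3⟩ := nonempty_Lpull_congr hg.symm K
  have e4 := (LpullComp (Spec.map φ) hV.fromSpec).app K
  obtain ⟨e5⟩ := nonempty_Lpull_openImmersion_iso hV.fromSpec K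
  have hKV := isQCohD_restrict hV.fromSpec K hK
  have h6 := isQCohD_Lpull_Spec φ _ hKV
  have e : (Scheme.Modules.restrictFunctor hU.fromSpec).mapDerivedCategory.obj
      ((DCoh.Lpull f).obj K) ≅ (DCoh.Lpull (Spec.map φ)).obj
        ((Scheme.Modules.restrictFunctor hV.fromSpec).mapDerivedCategory.obj K) :=
    e1.symm ≪≫ e2 ≪≫ e3 ≪≫ e4.symm ≪≫ (DCoh.Lpull (Spec.map φ)).mapIso e5
  exact isQCoh_of_iso ((mapDerivedCategoryHomologyIso
    (Scheme.Modules.restrictFunctor hU.fromSpec) _ i).symm ≪≫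
      (DerivedCategory.homologyFunctor _ i).mapIso e).symm (h6 i)

end Groth.Agent.Lib.Helper2.Aff
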