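import Groth.Agent.Lib.Helper2.Aff.BCChart
import Groth.Agent.Lib.Helper2.Aff.LpullQCoh

set_option autoImplicit false
universe u
open CategoryTheory CategoryTheory.Limits AlgebraicGeometry TopologicalSpace Opposite

attribute [local instance] HasDerivedCategory.standard

namespace Groth.Agent.Lib.Helper2.Aff.AffPush

open Groth.Agent.Lib.Helper2 Groth.Agent.Lib.Helper2.Stk Groth.Agent.Lib.Helper2.Aff
  AlgebraicGeometry.Scheme.Modules Groth.Agent.Lib.Helper13

local notation "cc" => ComplexShape.up ℤ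

attribute [local instance] Groth.Agent.Lib.Helper14.preservesFiniteLimits_tilde

section CM

variable {X S : Scheme.{u}} (f : X ⟶ S) [DCoh.HasRpush f] {V : S.Opens} (hV : IsAffineOpen V)
  (hU : IsAffineOpen (f ⁻¹ᵁ V))

/-- chart model: over an affine open `V = Spec A` of the base with affine preimage `Spec B`, an object of
`D_QCoh(X)` restricts to `M~` for some `M ∈ D(B)`, and `Rf_* K` restricts to `(M_A)~`. -/
theorem exists_chart_model (K : DCoh.D X) (hK : DCoh.IsQCohD K) :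
    ∃ M : DerivedCategory (ModuleCat.{u} Γ(X, f ⁻¹ᵁ V)),
      Nonempty ((DCoh.tildeD Γ(X, f ⁻¹ᵁ V)).obj M ≅ (DCoh.restrictD hU.fromSpec).obj K) ∧
      Nonempty ((DCoh.tildeD Γ(S, V)).obj
          ((DRing.restrictD (f.appLE V (f ⁻¹ᵁ V) le_rfl).hom).obj M) ≅
        (DCoh.restrictD hV.fromSpec).obj ((DCoh.Rpush f).obj K)) := by
  have hq := isQCohD_restrict hU.fromSpec K hK
  obtain ⟨M, ⟨eM⟩⟩ := ((tildeD_fullyFaithful_essImage Γ(X, f ⁻¹ᵁ V)).2.2 _).1 hq
  refine ⟨M, ⟨eM⟩, ?_⟩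
  haveI : DCoh.HasRpush (chartMap (V := V) f) := hasRpush _
  obtain ⟨e1⟩ := nonempty_restrictD_Rpush_chart_iso f hV hU K
  have e2 := (tildeDRpushIso (f.appLE V (f ⁻¹ᵁ V) le_rfl).hom).app M
  exact ⟨e2.symm ≪≫ (DCoh.Rpush (chartMap (V := V) f)).mapIso eM ≪≫ e1.symm⟩

end CM

end Groth.Agent.Lib.Helper2.Aff.AffPush
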