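import Groth.Agent.Lib.Helper2.Aff.BCChart
import Groth.Agent.Lib.Helper2.Aff.LpullQCoh
import Groth.Agent.Lib.Helper2.Stk.DerivedTri
import Groth.Agent.Lib.Helper2.TExact.WeakSerre
import Groth.Agent.Lib.Helper2.Aff.QCohSerre
import Groth.Agent.Lib.Helper13.OpenEquivSupp
import Groth.Agent.Lib.Helper2.Aff.ChartModel

set_option autoImplicit false
universe u
open CategoryTheory CategoryTheory.Limits AlgebraicGeometry TopologicalSpace Opposite

attribute [local instance] HasDerivedCategory.standard

namespace Groth.Agent.Lib.Helper2.Aff.AffPush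

open Groth.Agent.Lib.Helper2 Groth.Agent.Lib.Helper2.Stk Groth.Agent.Lib.Helper2.Aff
  AlgebraicGeometry.Scheme.Modules Groth.Agent.Lib.Helper13 Groth.Agent.Lib.Helper3
  Groth.Agent.Lib.Helper2.TExactIso

local notation "cc" => ComplexShape.up ℤ

attribute [local instance] Groth.Agent.Lib.Helper14.preservesFiniteLimits_tilde

section Gen
open ZeroObject

/-- an object of a derived category all of whose cohomology objects vanish is zero -/
lemma isZero_of_forall_isZero_homology {C : Type*} [Category C] [Abelian C] [HasDerivedCategory C]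
    (K : DerivedCategory C) (h : ∀ i : ℤ, IsZero ((DerivedCategory.homologyFunctor C i).obj K)) :
    IsZero K := by
  have h0 : IsZero (0 : DerivedCategory C) := isZero_zero _
  haveI : IsIso (0 : K ⟶ 0) := by
    rw [DerivedCategory.isIso_iff]
    intro n
    exact ⟨⟨0, (h n).eq_of_src _ _,
      ((DerivedCategory.homologyFunctor C n).map_isZero h0).eq_of_src _ _⟩⟩
  exact h0.of_iso (asIso (0 : K ⟶ 0))

lemma isZero_of_faithful {C D : Type*} [Category C] [Category D] [HasZeroMorphisms C]
    [HasZeroMorphisms D] (F : C ⥤ D) [F.PreservesZeroMorphisms] [F.Faithful] (X : C)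
    (h : IsZero (F.obj X)) : IsZero X := by
  rw [IsZero.iff_id_eq_zero]
  apply F.map_injective
  rw [F.map_zero]
  exact h.eq_of_src _ _

end Gen

section Loc

variable {X : Scheme.{u}}

/-- a module vanishing on the members of a cover by open immersions is zero -/
lemma isZero_of_locally' (M : X.Modules)
    (h : ∀ x : X, ∃ (U : Scheme.{u}) (j : U ⟶ X) (_ : IsOpenImmersion j) (y : U),
      j.base y = x ∧ IsZero ((restrictFunctor j).obj M)) : IsZero M := by
  apply QS.isZero_of_subsingleton_stalk
  intro x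
  obtain ⟨U, j, hj, y, rfl, hz⟩ := h x
  exact ModBasic.subsingleton_stalk_of_isZero_restrict (f := j) (M := M) hz y

/-- an object of `D(O_X)` vanishing on the members of a cover by open immersions is zero -/
lemma isZero_D_of_locally (K : DCoh.D X)
    (h : ∀ x : X, ∃ (U : Scheme.{u}) (j : U ⟶ X) (_ : IsOpenImmersion j) (y : U),
      j.base y = x ∧ IsZero ((DCoh.restrictD j).obj K)) : IsZero K := by
  apply isZero_of_forall_isZero_homology
  intro i
  apply isZero_of_locally'
  intro x
  obtain ⟨U, j, hj, y, rfl, hz⟩ := h x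
  refine ⟨U, j, hj, y, rfl, ?_⟩
  obtain ⟨e⟩ := OpenEquivSupp.nonempty_HD_restrictD_iso j K i
  exact ((DerivedCategory.homologyFunctor _ i).map_isZero hz).of_iso e.symm

end Loc

section Ring

variable {A B : Type u} [CommRing A] [CommRing B] (φ : A →+* B)

/-- restriction of scalars on derived categories reflects zero objects -/
lemma isZero_of_isZero_restrictD (M : DerivedCategory (ModuleCat.{u} B))
    (h : IsZero ((DRing.restrictD φ).obj M)) : IsZero M := by
  apply isZero_of_forall_isZero_homology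
  intro i
  apply isZero_of_faithful (ModuleCat.restrictScalars.{u} φ)
  exact ((DerivedCategory.homologyFunctor _ i).map_isZero h).of_iso
    (mapDerivedCategoryHomologyIso (ModuleCat.restrictScalars.{u} φ) M i).symm

end Ring

section Refl

variable {X S : Scheme.{u}} (f : X ⟶ S) [IsAffineHom f] [DCoh.HasRpush f]

/-- for an affine morphism, `Rf_*` detects vanishing on `D_QCoh` -/
theorem isZero_of_isZero_Rpush (K : DCoh.D X) (hK : DCoh.IsQCohD K)
    (h : IsZero ((DCoh.Rpush f).obj K)) : IsZero K := by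
  apply isZero_D_of_locally
  intro x
  obtain ⟨V, hV, hxV⟩ := QCProps.exists_affine_nbhd (f.base x)
  have hU : IsAffineOpen (f ⁻¹ᵁ V) := hV.preimage f
  have hxU : x ∈ f ⁻¹ᵁ V := hxV
  obtain ⟨M, ⟨e1⟩, ⟨e2⟩⟩ := exists_chart_model f hV hU K hK
  have hy : x ∈ Set.range hU.fromSpec.base := by
    rw [hU.range_fromSpec]; exact hxU
  obtain ⟨y, hy⟩ := hy
  refine ⟨_, hU.fromSpec, inferInstance, y, hy, ?_⟩
  refine IsZero.of_iso ?_ e1.symm
  apply Functor.map_isZero
  apply isZero_of_isZero_restrictD (f.appLE V (f ⁻¹ᵁ V) le_rfl).hom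
  haveI := (tildeD_fullyFaithful_essImage Γ(S, V)).2.1
  apply isZero_of_faithful (DCoh.tildeD Γ(S, V))
  exact ((DCoh.restrictD hV.fromSpec).map_isZero h).of_iso e2

/-- `D_QCoh` is closed under cones -/
theorem isQCohD_of_distTriang (T : Pretriangulated.Triangle (DCoh.D X))
    (hT : T ∈ distTriang _) (h₁ : DCoh.IsQCohD T.obj₁) (h₂ : DCoh.IsQCohD T.obj₂) :
    DCoh.IsQCohD T.obj₃ := by
  have hD := isDevissable_cohIn_map (𝟭 (DCoh.D X)) (fun M : X.Modules => Coh.IsQCoh M)
  have h1' := hD.shift T.obj₁ 1 h₁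
  exact hD.ext₂ _ (Pretriangulated.rot_of_distTriang _ hT) h₂ h1'

/-- **for an affine morphism, `Rf_*` reflects isomorphisms on `D_QCoh`** -/
theorem isIso_of_isIso_Rpush {E F : DCoh.D X} (hE : DCoh.IsQCohD E) (hF : DCoh.IsQCohD F)
    (α : E ⟶ F) (hα : IsIso ((DCoh.Rpush f).map α)) : IsIso α := by
  obtain ⟨C, g, h, hT⟩ := Pretriangulated.distinguished_cocone_triangle α
  have hC : DCoh.IsQCohD C := isQCohD_of_distTriang _ hT hE hF
  obtain ⟨cs, tri⟩ := exists_isTriangulated_Rpush f
  have hT' := (DCoh.Rpush f).map_distinguished _ hT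
  have hz : IsZero ((DCoh.Rpush f).obj C) :=
    (Pretriangulated.Triangle.isZero₃_iff_isIso₁ _ hT').2 hα
  have hC0 : IsZero C := isZero_of_isZero_Rpush f C hC hz
  exact (Pretriangulated.Triangle.isZero₃_iff_isIso₁ _ hT).1 hC0

end Refl

end Groth.Agent.Lib.Helper2.Aff.AffPush
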