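import Groth.Agent.Lib.Helper2.Aff.QcqsInd
import Groth.Agent.S6511

set_option autoImplicit false
universe u
open CategoryTheory CategoryTheory.Limits AlgebraicGeometry TopologicalSpace Opposite
  CategoryTheory.Pretriangulated

attribute [local instance] HasDerivedCategory.standard

namespace Groth.Agent.Lib.Helper2.Aff.Qcqs

open Groth.Agent.Lib.Helper2 Groth.Agent.Lib.Helper2.Stk Groth.Agent.Lib.Helper2.Aff
  AlgebraicGeometry.Scheme.Modules Groth.Agent.Lib.Helper13 Groth.Agent.Lib.Helper3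
  Groth.Agent.Lib.Helper2.TExactIso Groth.Agent.Lib.Helper2.Aff.AffPush
  Groth.Agent.Lib.Helper13.QCDim DerivedCategory

local notation "cc" => ComplexShape.up ℤ

attribute [local instance] Groth.Agent.Lib.Helper2.Stk.hasRpush

section Top

variable {X S : Scheme.{u}} (f : X ⟶ S)

/-- from the certificate for `⊤` to `Rf_*` itself -/
theorem rpush_of_pw_top [IsAffine S] [DCoh.HasRpush f] {d : ℕ} (h : QC d (⊤ : X.Opens))
    (K : DCoh.D X) (hK : DCoh.IsQCohD K) :
    DCoh.IsQCohD ((DCoh.Rpush f).obj K) ∧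
      ∀ b : ℤ, K.IsLE b → ((DCoh.Rpush f).obj K).IsLE (b + d) := by
  have h' : QC d ((⊤ : X.Opens) ⊓ ⊤) := by rwa [inf_idem]
  obtain ⟨q1, l1⟩ := pw_of_qc f h K hK
  obtain ⟨q2, l2⟩ := pw_of_qc f h' K hK
  obtain ⟨a, b', c, hT⟩ := Groth.Agent.S6511.result f ⊤ ⊤ (sup_idem _) K
  refine ⟨isQCohD_obj₁ _ hT (isQCohD_biprod q1 q1) q2, fun b hb => ?_⟩
  haveI := l1 b hb
  have h3 : (RW f ⊤ K).IsLE (b + d) := TStructure.t.isLE_of_le _ (b + d - 1) (b + d) (by omega)
  exact isLE_obj₁ _ hT (b + d) (isLE_biprod _ h3 h3) (l2 b hb)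

/-- **affine base**: for `f` qcqs over an affine base, `Rf_*` preserves `D_QCoh` and has finite
cohomological dimension on it -/
theorem exists_bound_of_affine_base [IsAffine S] [QuasiCompact f] [QuasiSeparated f]
    [DCoh.HasRpush f] :
    ∃ d : ℕ, ∀ K : DCoh.D X, DCoh.IsQCohD K →
      DCoh.IsQCohD ((DCoh.Rpush f).obj K) ∧
        ∀ b : ℤ, K.IsLE b → ((DCoh.Rpush f).obj K).IsLE (b + d) := by
  obtain ⟨d, hd⟩ := QC.exists_preimage f {⊤} (fun V hV => by
    rw [Finset.mem_singleton] at hV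
    subst hV
    exact isAffineOpen_top S)
  have h : QC d (⊤ : X.Opens) := hd ⊤ (Finset.mem_singleton_self _)
  exact ⟨d, fun K hK => rpush_of_pw_top f h K hK⟩

end Top

section General

variable {X S : Scheme.{u}} (f : X ⟶ S) [QuasiCompact f] [QuasiSeparated f] [DCoh.HasRpush f]

/-- over an affine open of the base -/
theorem exists_bound_over_affine (V : S.Opens) (hV : IsAffineOpen V) :
    ∃ d : ℕ, ∀ K : DCoh.D X, DCoh.IsQCohD K →
      DCoh.IsQCohD ((DCoh.restrictD V.ι).obj ((DCoh.Rpush f).obj K)) ∧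
        ∀ b : ℤ, K.IsLE b → ((DCoh.restrictD V.ι).obj ((DCoh.Rpush f).obj K)).IsLE (b + d) := by
  haveI : IsAffine (V : Scheme.{u}) := hV
  obtain ⟨d, hd⟩ := exists_bound_of_affine_base (f ∣_ V)
  obtain ⟨e⟩ := KInjDerived.nonempty_rpush_restrict_iso f V
  refine ⟨d, fun K hK => ?_⟩
  have hq := isQCohD_restrict (f ⁻¹ᵁ V).ι K hK
  obtain ⟨q, l⟩ := hd _ hq
  have eK := e.app K
  refine ⟨fun i => isQCoh_of_iso ((DerivedCategory.homologyFunctor _ i).mapIso eK.symm) (q i),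
    fun b hb => ?_⟩
  exact isLE_of_iso' eK.symm _
    (l b (isLE_mapDerivedCategory (restrictFunctor (f ⁻¹ᵁ V).ι) K b hb))

/-- **Stacks 08D5 (1)**: `Rf_*` preserves `D_QCoh` for `f` qcqs -/
theorem isQCohD_Rpush (K : DCoh.D X) (hK : DCoh.IsQCohD K) :
    DCoh.IsQCohD ((DCoh.Rpush f).obj K) := by
  apply isQCohD_of_open_cover
  intro s
  obtain ⟨V, hV, hsV⟩ := QCProps.exists_affine_nbhd s
  obtain ⟨d, hd⟩ := exists_bound_over_affine f V hV
  exact ⟨V, hsV, (hd K hK).1⟩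

lemma exists_bound_finset (T : Finset S.Opens) (hT : ∀ V ∈ T, IsAffineOpen V) :
    ∃ d : ℕ, ∀ V ∈ T, ∀ K : DCoh.D X, DCoh.IsQCohD K → ∀ b : ℤ, K.IsLE b →
      ((DCoh.restrictD V.ι).obj ((DCoh.Rpush f).obj K)).IsLE (b + d) := by
  classical
  induction T using Finset.induction_on with
  | empty => exact ⟨0, fun V hV => absurd hV (Finset.notMem_empty V)⟩
  | insert V T hVT ih =>
    obtain ⟨n, hn⟩ := ih fun W hW => hT W (Finset.mem_insert_of_mem hW)
    obtain ⟨d, hd⟩ := exists_bound_over_affine f V (hT V (Finset.mem_insert_self V T))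
    refine ⟨max n d, fun W hW K hK b hb => ?_⟩
    rcases Finset.mem_insert.1 hW with rfl | hW
    · haveI := (hd K hK).2 b hb
      exact TStructure.t.isLE_of_le _ (b + d) _
        (by have := le_max_right n d; push_cast; omega)
    · haveI := hn W hW K hK b hb
      exact TStructure.t.isLE_of_le _ (b + n) _
        (by have := le_max_left n d; push_cast; omega)

/-- **Stacks 08D5 (2)**: uniform bound for `Rf_*` on `D_QCoh`, base quasi-compact -/
theorem exists_uniform_bound [CompactSpace S] :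
    ∃ d : ℕ, ∀ K : DCoh.D X, DCoh.IsQCohD K → ∀ b : ℤ, K.IsLE b →
      ((DCoh.Rpush f).obj K).IsLE (b + d) := by
  obtain ⟨T, hT, eT⟩ := QCDim.exists_finset_affine (⊤ : S.Opens)
    (by rw [Opens.coe_top]; exact isCompact_univ)
  obtain ⟨d, hd⟩ := exists_bound_finset f T hT
  refine ⟨d, fun K hK b hb => ?_⟩
  apply isLE_of_locally
  intro s
  have hx : s ∈ T.sup id := by rw [eT]; trivial
  have hx' : ∃ W ∈ T, s ∈ W := by
    have h1 : T.sup id = ⨆ W ∈ T, W := by rw [Finset.sup_eq_iSup]; rfl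
    rw [h1] at hx
    obtain ⟨W, hW⟩ := Opens.mem_iSup.1 hx
    obtain ⟨hWT, hxW⟩ := Opens.mem_iSup.1 hW
    exact ⟨W, hWT, hxW⟩
  obtain ⟨W, hWT, hsW⟩ := hx'
  exact ⟨_, W.ι, inferInstance, ⟨s, hsW⟩, rfl, hd W hWT K hK b hb⟩

end General

end Groth.Agent.Lib.Helper2.Aff.Qcqs
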