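import Groth.Agent.Lib.Helper2.Aff.SigmaTrunc
import Groth.Agent.Lib.Helper2.Leray
import Groth.Agent.Lib.Helper2.Aff.QcqsPush
import Groth.Agent.Lib.Helper2.Aff.QCohSerre
import Groth.Agent.Lib.Helper2.Aff.AffReflect
import Groth.Agent.Lib.Helper2.Mon.ProjClosed
import Groth.Agent.Lib.Helper5.TruncRlimA

/-!
# Complexes of `f_*`-acyclic quasi-coherent modules compute `Rf_*` (helper2)
-/

set_option autoImplicit false
universe w w' v v' u u'
open CategoryTheory CategoryTheory.Limits AlgebraicGeometry TopologicalSpace Opposite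
  CategoryTheory.Pretriangulated

attribute [local instance] HasDerivedCategory.standard

namespace Groth.Agent.Lib.Helper2.Aff.AcycPush

open Groth.Agent.Lib.Helper2.RDBridge Groth.Agent.Lib.Helper2.Leray Groth.Agent.Lib.Helper2.Stk
  Groth.Agent.Lib.Helper2.Aff.Sigma Groth.Agent.Lib.Helper2.Mon DerivedCategory
  AlgebraicGeometry.Scheme.Modules Groth.Agent.Lib.Helper2.Aff.Qcqs Groth.Agent.Lib.Helper13
  Groth.Agent.Lib.Helper3 Groth.Agent.Lib.Helper2.Aff.AffPush

section Abstract

variable {C : Type u} [Category.{v} C] [Abelian C] [EnoughInjectives C]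
  {D : Type u'} [Category.{v'} D] [Abelian D]
  (F : C ⥤ D) [F.Additive] [PreservesFiniteLimits F]

/-- injective resolution of a bounded below complex of acyclic objects, preserved by `F` -/
theorem exists_injective_resolution_map_quasiIso (K : CochainComplex C ℤ) (a : ℤ)
    [K.IsStrictlyGE a] (hK : ∀ m, RAcyc F (K.X m)) :
    ∃ (L : CochainComplex C ℤ) (i : K ⟶ L), (∀ n, Injective (L.X n)) ∧ L.IsStrictlyGE (a - 1) ∧
      QuasiIso i ∧ QuasiIso ((F.mapHomologicalComplex (ComplexShape.up ℤ)).map i) := by
  obtain ⟨L, i, hi, hi', hL, hLge⟩ :=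
    CochainComplex.Plus.modelCategoryQuillen.exists_mono_quasiIso_injective K (a - 1) a
      (by omega)
  let S : ShortComplex (CochainComplex C ℤ) :=
    ShortComplex.mk i (cokernel.π i) (cokernel.condition i)
  have hS : S.ShortExact :=
    { exact := ShortComplex.exact_cokernel i
      mono_f := hi
      epi_g := inferInstanceAs (Epi (cokernel.π i)) }
  have hSn : ∀ n, (S.map (HomologicalComplex.eval C (ComplexShape.up ℤ) n)).ShortExact :=
    fun n => hS.map_of_exact _
  have hterms : ∀ n, RAcyc F (S.X₃.X n) := fun n =>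
    racyc_X₃ F _ (hSn n) (hK n) (haveI := hL n; racyc_of_injective F (L.X n))
  let S' := S.map (F.mapHomologicalComplex (ComplexShape.up ℤ))
  have hS' : S'.ShortExact := by
    apply HomologicalComplex.shortExact_of_degreewise_shortExact
    intro n
    exact shortExact_map_of_isZero F _ (hSn n) (hK n 1 (by omega))
  have hMacyc : S.X₃.Acyclic := hS.acyclic_X₃ hi'
  haveI : S.X₃.IsStrictlyGE (a - 1) := by
    rw [CochainComplex.isStrictlyGE_iff]
    intro n hn
    have hepi : Epi (S.map (HomologicalComplex.eval C (ComplexShape.up ℤ) n)).g := (hSn n).epi_g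
    exact @IsZero.of_epi _ _ _ _ _ (S.map (HomologicalComplex.eval C (ComplexShape.up ℤ) n)).g
      hepi (CochainComplex.isZero_of_isStrictlyGE L (a - 1) n hn)
  have hFM := map_acyclic F S.X₃ (a - 1) hMacyc hterms
  have hFi : QuasiIso ((F.mapHomologicalComplex (ComplexShape.up ℤ)).map i) :=
    quasiIso_f_of_acyclic hS' hFM
  exact ⟨L, i, hL, hLge, hi', hFi⟩

end Abstract

section Homology

variable {A : Type u} [Category.{v} A] [Abelian A] [HasDerivedCategory.{w} A]
  {B : Type u'} [Category.{v'} B] [Abelian B] [HasDerivedCategory.{w'} B]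

lemma isIso_homology_map_Q_map {K L : CochainComplex A ℤ} (g : K ⟶ L) (j : ℤ)
    (hg : QuasiIsoAt g j) : IsIso ((homologyFunctor A j).map (Q.map g)) := by
  have h1 : IsIso ((HomologicalComplex.homologyFunctor A (ComplexShape.up ℤ) j).map g) :=
    (quasiIsoAt_iff_isIso_homologyMap g j).1 hg
  exact (NatIso.isIso_map_iff (homologyFunctorFactors A j) g).2 h1

lemma isIso_homology_map_mapDerivedCategory (Φ : A ⥤ B) [Φ.Additive] [PreservesFiniteLimits Φ]
    [PreservesFiniteColimits Φ] {K L : CochainComplex A ℤ} (g : K ⟶ L) (j : ℤ)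
    (hg : QuasiIsoAt ((Φ.mapHomologicalComplex (ComplexShape.up ℤ)).map g) j) :
    IsIso ((homologyFunctor B j).map (Φ.mapDerivedCategory.map (Q.map g))) := by
  have h1 := isIso_homology_map_Q_map ((Φ.mapHomologicalComplex (ComplexShape.up ℤ)).map g) j hg
  exact (NatIso.isIso_map_iff
    (Functor.isoWhiskerRight Φ.mapDerivedCategoryFactors (homologyFunctor B j)) g).2 h1

/-- the third vertex of a triangle has no `H^k` when `H^k` and `H^{k+1}` of the first map are
isomorphisms -/
lemma isZero_homology_obj₃ (T : Triangle (DerivedCategory A)) (hT : T ∈ distTriang _)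
    (k k' : ℤ) (hk : k + 1 = k')
    (h0 : Epi ((homologyFunctor A k).map T.mor₁))
    (h1 : Mono ((homologyFunctor A k').map T.mor₁)) :
    IsZero ((homologyFunctor A k).obj T.obj₃) := by
  have e1 := ((homologyFunctor A 0).homologySequence_epi_shift_map_mor₁_iff T hT k).1 h0
  have e2 := ((homologyFunctor A 0).homologySequence_mono_shift_map_mor₁_iff T hT k k' hk).1 h1
  exact ((homologyFunctor A 0).homologySequence_exact₃ T hT k k' hk).isZero_of_both_zeros e1 e2

end Homology

section Loc

variable {S : Scheme.{u}}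

/-- isomorphisms in `D(O_S)` can be detected on an open cover -/
lemma isIso_D_of_locally {K L : DCoh.D S} (φ : K ⟶ L)
    (h : ∀ s : S, ∃ V : S.Opens, s ∈ V ∧ IsIso ((DCoh.restrictD V.ι).map φ)) : IsIso φ := by
  obtain ⟨Z, g, h', hT⟩ := distinguished_cocone_triangle φ
  refine (Triangle.isZero₃_iff_isIso₁ _ hT).1 ?_
  apply isZero_D_of_locally
  intro s
  obtain ⟨V, hsV, hV⟩ := h s
  refine ⟨V, V.ι, inferInstance, ⟨s, hsV⟩, rfl, ?_⟩
  have hT' := (DCoh.restrictD V.ι).map_distinguished _ hT
  exact (Triangle.isZero₃_iff_isIso₁ _ hT').2 hV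

end Loc

section Main

variable {X S : Scheme.{u}} (f : X ⟶ S) [DCoh.HasRpush f] [HasInjectiveResolutions X.Modules]

/-- **Leray's acyclicity lemma for the unbounded derived pushforward**, bounded below complexes -/
theorem isIso_unitR_of_bddBelow (K : CochainComplex X.Modules ℤ) (a : ℤ) [K.IsStrictlyGE a]
    (hK : ∀ (n : ℤ) (i : ℕ), 0 < i → IsZero ((Coh.Rpush f i).obj (K.X n))) :
    IsIso ((unitR f).app ((HomotopyCategory.quotient _ _).obj K)) := by
  haveI : EnoughInjectives X.Modules := ModGrothendieck.enoughInjectives X.ringCatSheaf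
  haveI : (pushforward f).Additive := (pullbackPushforwardAdjunction f).right_adjoint_additive
  haveI : PreservesFiniteLimits (pushforward f) := by
    have : PreservesLimitsOfSize.{0, 0} (pushforward f) :=
      (pullbackPushforwardAdjunction f).rightAdjoint_preservesLimits
    exact PreservesLimitsOfSize.preservesFiniteLimits _
  obtain ⟨L, i, hL, hLge, hi, hFi⟩ :=
    exists_injective_resolution_map_quasiIso (pushforward f) K a (fun m => hK m)
  haveI := hLge
  haveI := hL
  haveI : L.IsKInjective := CochainComplex.isKInjective_of_injective L (a - 1)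
  have nat := (unitR f).naturality ((HomotopyCategory.quotient _ _).map i)
  haveI h1 : IsIso ((unitR f).app ((HomotopyCategory.quotient _ _).obj L)) := isIso_unitR_app f L
  haveI h2 : IsIso ((DerivedCategory.Qh ⋙ DCoh.Rpush f).map
      ((HomotopyCategory.quotient _ _).map i)) := by
    haveI : IsIso (DerivedCategory.Q.map i) := (DerivedCategory.isIso_Q_map_iff_quasiIso _ i).2 hi
    change IsIso ((DCoh.Rpush f).map (DerivedCategory.Q.map i))
    infer_instance
  haveI h3 : IsIso ((DCoh.pushKh f).map ((HomotopyCategory.quotient _ _).map i)) := by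
    haveI : IsIso (DerivedCategory.Q.map ((pushC f).map i)) :=
      (DerivedCategory.isIso_Q_map_iff_quasiIso _ _).2 hFi
    change IsIso (DerivedCategory.Q.map ((pushC f).map i))
    infer_instance
  haveI : IsIso ((unitR f).app ((HomotopyCategory.quotient _ _).obj K) ≫
      (DerivedCategory.Qh ⋙ DCoh.Rpush f).map ((HomotopyCategory.quotient _ _).map i)) := by
    rw [← nat]
    infer_instance
  exact IsIso.of_isIso_comp_right _
    ((DerivedCategory.Qh ⋙ DCoh.Rpush f).map ((HomotopyCategory.quotient _ _).map i))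

/-- **complexes of `f_*`-acyclic quasi-coherent modules compute `Rf_*`** (`f` qcqs) -/
theorem isIso_unitR_of_acyclic_qcoh [QuasiCompact f] [QuasiSeparated f]
    (F : CochainComplex X.Modules ℤ) (hq : ∀ n : ℤ, Coh.IsQCoh (F.X n))
    (hac : ∀ (n : ℤ) (i : ℕ), 0 < i → IsZero ((Coh.Rpush f i).obj (F.X n))) :
    IsIso ((unitR f).app ((HomotopyCategory.quotient _ _).obj F)) := by
  haveI : (pushforward f).Additive := (pullbackPushforwardAdjunction f).right_adjoint_additive
  obtain ⟨cs, tri⟩ := exists_isTriangulated_Rpush f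
  apply isIso_D_of_locally
  intro s
  obtain ⟨V, hV, hsV⟩ := QCProps.exists_affine_nbhd s
  refine ⟨V, hsV, ?_⟩
  obtain ⟨d, hd⟩ := exists_bound_over_affine f V hV
  rw [DerivedCategory.isIso_iff]
  intro j
  let m : ℤ := j - d - 2
  let K' := sigmaGE F m
  let ι : K' ⟶ F := sigmaGEι F m
  have hιf : ∀ i, m ≤ i → IsIso (ι.f i) := fun i hi => isIso_sigmaGEι_f F m i hi
  have hK'q : ∀ n, Coh.IsQCoh (K'.X n) := fun n =>
    sigmaGE_X_prop' F m (fun M : X.Modules => Coh.IsQCoh M) (fun e h => isQCoh_of_iso e h)
      (fun Z hZ => QCOpen.isQuasicoherent_of_isZero hZ) hq n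
  have hK'ac : ∀ (n : ℤ) (i : ℕ), 0 < i → IsZero ((Coh.Rpush f i).obj (K'.X n)) :=
    fun n i hi => sigmaGE_X_prop' F m (fun M : X.Modules => IsZero ((Coh.Rpush f i).obj M))
      (fun e h => h.of_iso ((Coh.Rpush f i).mapIso e.symm))
      (fun Z hZ => (Coh.Rpush f i).map_isZero hZ) (fun n => hac n i hi) n
  haveI hA : IsIso ((unitR f).app ((HomotopyCategory.quotient _ _).obj K')) :=
    isIso_unitR_of_bddBelow f K' m hK'ac
  obtain ⟨C, g, h, hT⟩ := distinguished_cocone_triangle (Q.map ι)
  have hQι : ∀ k, m < k → IsIso ((homologyFunctor X.Modules k).map (Q.map ι)) := fun k hk =>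
    isIso_homology_map_Q_map ι k (quasiIsoAt_of_isIso_f ι m hιf k hk)
  have hCle : C.IsLE m := by
    rw [DerivedCategory.isLE_iff]
    intro k hk
    haveI e0 := hQι k hk
    haveI e1 := hQι (k + 1) (by omega)
    exact isZero_homology_obj₃ _ hT k (k + 1) rfl
      (show Epi ((homologyFunctor X.Modules k).map (Q.map ι)) from inferInstance)
      (show Mono ((homologyFunctor X.Modules (k + 1)).map (Q.map ι)) from inferInstance)
  have hFq : DCoh.IsQCohD (Q.obj F) := fun k =>
    isQCoh_of_iso ((homologyFunctorFactors X.Modules k).app F).symm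
      (prop_homology_of_terms (fun M : X.Modules => Coh.IsQCoh M) F hq k)
  have hK'q' : DCoh.IsQCohD (Q.obj K') := fun k =>
    isQCoh_of_iso ((homologyFunctorFactors X.Modules k).app K').symm
      (prop_homology_of_terms (fun M : X.Modules => Coh.IsQCoh M) K' hK'q k)
  have hCq : DCoh.IsQCohD C := isQCohD_of_distTriang _ hT hK'q' hFq
  have hT' := (DCoh.restrictD V.ι).map_distinguished _ ((DCoh.Rpush f).map_distinguished _ hT)
  have hle : ((DCoh.restrictD V.ι).mapTriangle.obj ((DCoh.Rpush f).mapTriangle.obj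
      (Triangle.mk (Q.map ι) g h))).obj₃.IsLE (m + d) :=
    (hd C hCq).2 m hCle
  haveI hc : IsIso ((homologyFunctor _ j).map
      ((DCoh.restrictD V.ι).map ((DCoh.Rpush f).map (Q.map ι)))) :=
    Groth.Agent.Lib.Helper5.TruncRlim.isIso_homology_map_mor₁ _ hT' j (j - 1) (by omega)
      (haveI := hle; DerivedCategory.isZero_of_isLE _ (m + d) (j - 1) (by omega))
      (haveI := hle; DerivedCategory.isZero_of_isLE _ (m + d) j (by omega))
  haveI ha : IsIso ((homologyFunctor _ j).map ((DCoh.restrictD V.ι).map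
      ((DCoh.pushKh f).map ((HomotopyCategory.quotient _ _).map ι)))) := by
    change IsIso ((homologyFunctor _ j).map
      ((restrictFunctor V.ι).mapDerivedCategory.map (Q.map ((pushC f).map ι))))
    apply isIso_homology_map_mapDerivedCategory
    apply quasiIsoAt_of_isIso_f _ m _ j (by omega)
    intro i hi
    haveI := hιf i hi
    change IsIso ((restrictFunctor V.ι).map ((pushforward f).map (ι.f i)))
    infer_instance
  have nat := (unitR f).naturality ((HomotopyCategory.quotient _ _).map ι)
  let G := DCoh.restrictD V.ι ⋙ homologyFunctor _ j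
  have natG := congrArg G.map nat
  rw [G.map_comp, G.map_comp] at natG
  haveI i1 : IsIso (G.map ((DCoh.pushKh f).map ((HomotopyCategory.quotient _ _).map ι))) := ha
  haveI i2 : IsIso (G.map ((DerivedCategory.Qh ⋙ DCoh.Rpush f).map
      ((HomotopyCategory.quotient _ _).map ι))) := hc
  haveI i3 : IsIso (G.map ((unitR f).app ((HomotopyCategory.quotient _ _).obj K'))) :=
    inferInstance
  haveI : IsIso (G.map ((DCoh.pushKh f).map ((HomotopyCategory.quotient _ _).map ι)) ≫
      G.map ((unitR f).app ((HomotopyCategory.quotient _ _).obj F))) := by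
    rw [natG]
    infer_instance
  exact IsIso.of_isIso_comp_left
    (G.map ((DCoh.pushKh f).map ((HomotopyCategory.quotient _ _).map ι)))
    (G.map ((unitR f).app ((HomotopyCategory.quotient _ _).obj F)))

end Main

end Groth.Agent.Lib.Helper2.Aff.AcycPush
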