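import Groth.Agent.Lib.Helper2.Aff.PerfAff
import Groth.Agent.Lib.Helper2.Aff.TildeEquiv
import Groth.Agent.Lib.Helper12.TildeProj
import Groth.Agent.S6960

set_option autoImplicit false
universe u
open CategoryTheory CategoryTheory.Limits AlgebraicGeometry TopologicalSpace Opposite

attribute [local instance] HasDerivedCategory.standard

namespace Groth.Agent.Lib.Helper2.Aff.PerfAff

open Groth.Agent.Lib.Helper13 Groth.Agent.Lib.Helper3 Groth.Agent.Lib.Helper17
  Groth.Agent.Lib.Helper12 AlgebraicGeometry.Scheme.Modules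

local notation "cc" => ComplexShape.up ℤ

section Gamma

variable (R : CommRingCat.{u})

instance additive_Γ : (moduleSpecΓFunctor (R := R)).Additive :=
  (tilde.adjunction (R := R)).right_adjoint_additive

/-- sections of a finite locally free module on `Spec R` are finite projective over `R` -/
theorem finite_projective_Γ (N : (Spec R).Modules) (hN : FlatMod.IsFinLocFree N) :
    Module.Finite R (moduleSpecΓFunctor.obj N) ∧ Module.Projective R (moduleSpecΓFunctor.obj N) := by
  obtain ⟨hfin, hproj⟩ := LocFreeCrit.finite_projective_sections hN (isAffineOpen_top (Spec R))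
  let RV : CommRingCat := Γ(Spec R, ⊤)
  let e : R ≃+* RV := (Scheme.ΓSpecIso R).symm.commRingCatIsoToRingEquiv
  haveI : RingHomInvPair (e : R →+* RV) (e.symm : RV →+* R) := RingHomInvPair.of_ringEquiv e
  haveI : RingHomInvPair (e.symm : RV →+* R) (e : R →+* RV) := RingHomInvPair.of_ringEquiv e.symm
  let e₂ : Γ(N, ⊤) ≃ₛₗ[(e.symm : RV →+* R)] (moduleSpecΓFunctor.obj N) :=
    { toFun := fun s => s
      invFun := fun s => s
      map_add' := fun _ _ => rfl
      map_smul' := fun r s => by
        change r • s = (e.symm r : R) • (show Γ(N, ⊤) from s)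
        rw [TildeProj.smul_top_eq]
        congr 1
        exact (e.apply_symm_apply r).symm
      left_inv := fun _ => rfl
      right_inv := fun _ => rfl }
  exact ⟨Module.Finite.of_surjective e₂.toLinearMap e₂.surjective, Module.Projective.of_equiv e₂⟩

/-- termwise global sections -/
noncomputable abbrev ΓCx : CochainComplex (Spec R).Modules ℤ ⥤ CochainComplex (ModuleCat.{u} R) ℤ :=
  (moduleSpecΓFunctor (R := R)).mapHomologicalComplex cc

/-- termwise tilde -/
noncomputable abbrev tildeCx : CochainComplex (ModuleCat.{u} R) ℤ ⥤ CochainComplex (Spec R).Modules ℤ :=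
  (tilde.functor R).mapHomologicalComplex cc

/-- a complex of quasi-coherent modules on `Spec R` is the tilde of its global sections -/
noncomputable def tildeΓCxIso (E : CochainComplex (Spec R).Modules ℤ)
    (hE : ∀ i, (E.X i).IsQuasicoherent) : (tildeCx R).obj ((ΓCx R).obj E) ≅ E :=
  HomologicalComplex.Hom.isoOfComponents
    (fun n => @asIso _ _ _ _ ((E.X n).fromTildeΓ)
      (@Scheme.Modules.isIso_fromTildeΓ_of_isQuasicoherent R (E.X n) (hE n)))
    (fun i k _ => ((Scheme.Modules.fromTildeΓNatTrans (R := R)).naturality (E.d i k)).symm)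

end Gamma

section Loc

variable (A : Type u) [CommRing A] (g : A)

/-- the localisation map as a morphism of `CommRingCat` -/
noncomputable abbrev φg : CommRingCat.of A ⟶ CommRingCat.of (Localization.Away g) :=
  CommRingCat.ofHom (algebraMap A (Localization.Away g))

/-- `Spec A_g ⟶ Spec A` -/
noncomputable abbrev jg :
    Spec (CommRingCat.of (Localization.Away g)) ⟶ Spec (CommRingCat.of A) :=
  Spec.map (φg A g)

/-- `(M~)|_{D(g)} ≅ (M_g)~` -/
noncomputable def tildeRestrictIso :
    tilde.functor (CommRingCat.of A) ⋙ restrictFunctor (jg A g) ≅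
      ModuleCat.extendScalars (algebraMap A (Localization.Away g)) ⋙
        tilde.functor (CommRingCat.of (Localization.Away g)) :=
  Functor.isoWhiskerLeft _ (restrictFunctorIsoPullback (jg A g)) ≪≫
    TildePullback.tildePullbackIso (φg A g)

/-- termwise localisation -/
noncomputable abbrev extCx : CochainComplex (ModuleCat.{u} A) ℤ ⥤
    CochainComplex (ModuleCat.{u} (Localization.Away g)) ℤ :=
  (ModuleCat.extendScalars (algebraMap A (Localization.Away g))).mapHomologicalComplex cc

/-- complex version of `tildeRestrictIso` -/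
noncomputable def tildeRestrictCxIso (K : CochainComplex (ModuleCat.{u} A) ℤ) :
    (PerfTri.resCx (jg A g)).obj ((tildeCx (CommRingCat.of A)).obj K) ≅
      (tildeCx (CommRingCat.of (Localization.Away g))).obj ((extCx A g).obj K) :=
  HomologicalComplex.Hom.isoOfComponents (fun n => (tildeRestrictIso A g).app (K.X n))
    (fun i k _ => ((tildeRestrictIso A g).hom.naturality (K.d i k)).symm)

variable [PreservesFiniteLimits (tilde.functor (CommRingCat.of A))]
  [PreservesFiniteLimits (tilde.functor (CommRingCat.of (Localization.Away g)))]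

/-- derived version -/
noncomputable def restrictTildeDIso (K : CochainComplex (ModuleCat.{u} A) ℤ) :
    (DCoh.restrictD (jg A g)).obj ((DCoh.tildeD (CommRingCat.of A)).obj (DerivedCategory.Q.obj K)) ≅
      (DCoh.tildeD (CommRingCat.of (Localization.Away g))).obj
        (DerivedCategory.Q.obj ((extCx A g).obj K)) :=
  (DCoh.restrictD (jg A g)).mapIso
      ((tilde.functor (CommRingCat.of A)).mapDerivedCategoryFactors.app K) ≪≫
    (restrictFunctor (jg A g)).mapDerivedCategoryFactors.app _ ≪≫
    DerivedCategory.Q.mapIso (tildeRestrictCxIso A g K) ≪≫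
    ((tilde.functor (CommRingCat.of (Localization.Away g))).mapDerivedCategoryFactors.app _).symm

theorem isPerfect_loc_of_LPD (K : CochainComplex (ModuleCat.{u} A) ℤ)
    (h : PerfTri.LPD ((DCoh.tildeD (CommRingCat.of A)).obj (DerivedCategory.Q.obj K)) (jg A g)) :
    DRing.IsPerfect (Localization.Away g) (DRing.toD ((extCx A g).obj K)) := by
  obtain ⟨E, hE, ⟨e⟩⟩ := h
  have hq : ∀ i, (E.X i).IsQuasicoherent := fun i =>
    LocFreeCrit.isQuasicoherent_of_isFinLocFree (hE.2 i)
  let P := (ΓCx (CommRingCat.of (Localization.Away g))).obj E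
  obtain ⟨⟨a, b, hab⟩, hfl⟩ := hE
  let i1 : (DCoh.tildeD (CommRingCat.of (Localization.Away g))).obj (DerivedCategory.Q.obj P) ≅
      (DCoh.tildeD (CommRingCat.of (Localization.Away g))).obj
        (DerivedCategory.Q.obj ((extCx A g).obj K)) :=
    (tilde.functor (CommRingCat.of (Localization.Away g))).mapDerivedCategoryFactors.app P ≪≫
      DerivedCategory.Q.mapIso (tildeΓCxIso _ E hq) ≪≫ e.symm ≪≫ restrictTildeDIso A g K
  obtain ⟨hfull, hfaith, -⟩ := tildeD_fullyFaithful_essImage (CommRingCat.of (Localization.Away g))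
  haveI := hfull
  haveI := hfaith
  exact ⟨P, a, b, fun i hi => (moduleSpecΓFunctor).map_isZero (hab i hi),
    fun i => finite_projective_Γ _ (E.X i) (hfl i),
    ⟨(DCoh.tildeD (CommRingCat.of (Localization.Away g))).preimageIso i1⟩⟩

end Loc

section Global

variable (A : Type u) [CommRing A] [PreservesFiniteLimits (tilde.functor (CommRingCat.of A))]

theorem isPerfect_of_isPerfect_tildeD (M : Dual.D A)
    (h : DCoh.IsPerfect ((DCoh.tildeD (CommRingCat.of A)).obj M)) : DRing.IsPerfect A M := by
  let K := DerivedCategory.Q.objPreimage M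
  let i : DerivedCategory.Q.obj K ≅ M := DerivedCategory.Q.objObjPreimageIso M
  have h' : DCoh.IsPerfect ((DCoh.tildeD (CommRingCat.of A)).obj (DerivedCategory.Q.obj K)) :=
    PerfTri.isPerfect_of_iso ((DCoh.tildeD (CommRingCat.of A)).mapIso i.symm) h
  rw [PerfTri.isPerfect_iff] at h'
  let S : Set A := {g | DRing.IsPerfect (Localization.Away g) (DRing.toD ((extCx A g).obj K))}
  have hS : Ideal.span S = ⊤ := by
    by_contra hne
    obtain ⟨m, hm, hle⟩ := Ideal.exists_le_maximal _ hne
    let x : PrimeSpectrum A := ⟨m, hm.isPrime⟩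
    obtain ⟨V, hxV, hV⟩ := h' x
    obtain ⟨_, ⟨_, ⟨g, rfl⟩, rfl⟩, hxg, hgV⟩ :=
      PrimeSpectrum.isBasis_basic_opens.exists_subset_of_mem_open hxV V.2
    have hgS : g ∈ S := by
      haveI := Groth.Agent.Lib.Helper14.preservesFiniteLimits_tilde
        (CommRingCat.of (Localization.Away g))
      apply isPerfect_loc_of_LPD
      have hrange : Set.range (jg A g).base ⊆ Set.range V.ι.base := by
        rw [Scheme.Opens.range_ι]
        refine subset_trans (le_of_eq ?_) hgV
        exact PrimeSpectrum.localization_away_comap_range (Localization.Away g) g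
      let l := IsOpenImmersion.lift V.ι (jg A g) hrange
      have hl : l ≫ V.ι = jg A g := IsOpenImmersion.lift_fac _ _ _
      haveI : IsOpenImmersion (l ≫ V.ι) := by rw [hl]; infer_instance
      haveI : IsOpenImmersion l := IsOpenImmersion.of_comp l V.ι
      exact PerfTri.LPD.comp l V.ι (jg A g) hl.symm hV
    exact hxg (hle (Ideal.subset_span hgS))
  obtain ⟨s', hs'S, hs'⟩ := (Ideal.span_eq_top_iff_finite _).mp hS
  let f : Fin s'.card → A := fun k => (s'.equivFin.symm k : A)
  have hf : Ideal.span (Set.range f) = ⊤ := by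
    have : Set.range f = ↑s' := by
      ext a
      constructor
      · rintro ⟨k, rfl⟩
        exact (s'.equivFin.symm k).2
      · intro ha
        exact ⟨s'.equivFin ⟨a, ha⟩, by simp [f]⟩
    rw [this]
    exact hs'
  obtain ⟨E, a, b, hv, hp, ⟨e⟩⟩ :=
    Groth.Agent.S6960.result f hf K (fun k => hs'S (s'.equivFin.symm k).2)
  exact ⟨E, a, b, hv, hp, ⟨e ≪≫ i⟩⟩

theorem isPerfect_tildeD_iff (M : Dual.D A) :
    DCoh.IsPerfect ((DCoh.tildeD (CommRingCat.of A)).obj M) ↔ DRing.IsPerfect A M :=
  ⟨isPerfect_of_isPerfect_tildeD A M, isPerfect_tildeD_of_isPerfect A M⟩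

end Global

end Groth.Agent.Lib.Helper2.Aff.PerfAff
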