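import Groth.Prelude.Def_WeakSerre
import Mathlib.Algebra.Homology.QuasiIso
import Mathlib.Algebra.Homology.Embedding.CochainComplex

/-!
# Stupid truncations `σ_{≥ m}` of cochain complexes (helper2)
-/

set_option autoImplicit false
universe v u
open CategoryTheory CategoryTheory.Limits

namespace Groth.Agent.Lib.Helper2.Aff.Sigma

section Trunc

variable {A : Type u} [Category.{v} A] [Preadditive A] [HasZeroObject A]

open ZeroObject

/-- the terms of the stupid truncation `σ_{≥ m}` -/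
noncomputable def sgX (K : CochainComplex A ℤ) (m i : ℤ) : A := if m ≤ i then K.X i else 0

noncomputable def sgι (K : CochainComplex A ℤ) (m i : ℤ) : sgX K m i ⟶ K.X i :=
  if h : m ≤ i then eqToHom (if_pos h) else 0

noncomputable def sgπ (K : CochainComplex A ℤ) (m i : ℤ) : K.X i ⟶ sgX K m i :=
  if h : m ≤ i then eqToHom (if_pos h).symm else 0

variable {K : CochainComplex A ℤ} {m i : ℤ}

lemma sgι_π (h : m ≤ i) : sgι K m i ≫ sgπ K m i = 𝟙 _ := by
  simp [sgι, sgπ, h]

lemma sgπ_ι (h : m ≤ i) : sgπ K m i ≫ sgι K m i = 𝟙 _ := by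
  simp [sgι, sgπ, h]

lemma sgι_eq_zero (h : ¬ m ≤ i) : sgι K m i = 0 := by
  simp [sgι, h]

lemma sgπ_eq_zero (h : ¬ m ≤ i) : sgπ K m i = 0 := by
  simp [sgπ, h]

lemma isZero_sgX (h : ¬ m ≤ i) : IsZero (sgX K m i) := by
  unfold sgX
  rw [if_neg h]
  exact isZero_zero _

lemma isIso_sgι (h : m ≤ i) : IsIso (sgι K m i) := ⟨sgπ K m i, sgι_π h, sgπ_ι h⟩

variable (K m)

/-- the stupid truncation `σ_{≥ m} K` -/
noncomputable def sigmaGE : CochainComplex A ℤ where
  X i := sgX K m i
  d i j := sgι K m i ≫ K.d i j ≫ sgπ K m j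
  shape i j h := by rw [K.shape i j h, zero_comp, comp_zero]
  d_comp_d' i j k _ _ := by
    by_cases hj : m ≤ j
    · have := sgπ_ι (K := K) hj
      simp only [Category.assoc]
      rw [reassoc_of% this, K.d_comp_d_assoc, zero_comp, comp_zero]
    · rw [sgπ_eq_zero hj, comp_zero, comp_zero, zero_comp]

/-- the inclusion `σ_{≥ m} K ⟶ K` -/
noncomputable def sigmaGEι : sigmaGE K m ⟶ K where
  f i := sgι K m i
  comm' i j hij := by
    change sgι K m i ≫ K.d i j = (sgι K m i ≫ K.d i j ≫ sgπ K m j) ≫ sgι K m j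
    by_cases hi : m ≤ i
    · have hj : m ≤ j := by
        have : i + 1 = j := hij
        omega
      simp only [Category.assoc, sgπ_ι hj, Category.comp_id]
    · rw [sgι_eq_zero hi, zero_comp, zero_comp, zero_comp]

instance : (sigmaGE K m).IsStrictlyGE m := by
  rw [CochainComplex.isStrictlyGE_iff]
  intro i hi
  exact isZero_sgX (by omega)

lemma isIso_sigmaGEι_f (i : ℤ) (h : m ≤ i) : IsIso ((sigmaGEι K m).f i) := isIso_sgι h

lemma sigmaGE_X_prop (P : ObjectProperty A) [P.IsClosedUnderIsomorphisms]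
    (hP0 : ∀ Z : A, IsZero Z → P Z) (hK : ∀ i, P (K.X i)) (i : ℤ) : P ((sigmaGE K m).X i) := by
  by_cases h : m ≤ i
  · haveI := isIso_sgι (K := K) h
    exact P.prop_of_iso (asIso (sgι K m i)).symm (hK i)
  · exact hP0 _ (isZero_sgX h)

lemma sigmaGE_X_prop' (P : A → Prop) (hiso : ∀ {M N : A}, (M ≅ N) → P M → P N)
    (hP0 : ∀ Z : A, IsZero Z → P Z) (hK : ∀ i, P (K.X i)) (i : ℤ) : P ((sigmaGE K m).X i) := by
  by_cases h : m ≤ i
  · haveI := isIso_sgι (K := K) h
    exact hiso (asIso (sgι K m i)).symm (hK i)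
  · exact hP0 _ (isZero_sgX h)

end Trunc

section Homology

variable {A : Type u} [Category.{v} A] [Abelian A]

/-- a morphism of complexes which is an isomorphism in degrees `≥ m` is a quasi-isomorphism in
degrees `> m` -/
lemma quasiIsoAt_of_isIso_f {K L : CochainComplex A ℤ} (φ : K ⟶ L) (m : ℤ)
    (h : ∀ i, m ≤ i → IsIso (φ.f i)) (j : ℤ) (hj : m < j) : QuasiIsoAt φ j := by
  rw [quasiIsoAt_iff' φ (j - 1) j (j + 1) (by simp) (by simp)]
  haveI : IsIso (φ.f (j - 1)) := h (j - 1) (by omega)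
  haveI : IsIso (φ.f j) := h j (by omega)
  haveI : IsIso (φ.f (j + 1)) := h (j + 1) (by omega)
  haveI : Epi ((HomologicalComplex.shortComplexFunctor' A (ComplexShape.up ℤ) (j - 1) j
      (j + 1)).map φ).τ₁ := inferInstanceAs (Epi (φ.f (j - 1)))
  haveI : IsIso ((HomologicalComplex.shortComplexFunctor' A (ComplexShape.up ℤ) (j - 1) j
      (j + 1)).map φ).τ₂ := inferInstanceAs (IsIso (φ.f j))
  haveI : Mono ((HomologicalComplex.shortComplexFunctor' A (ComplexShape.up ℤ) (j - 1) j
      (j + 1)).map φ).τ₃ := inferInstanceAs (Mono (φ.f (j + 1)))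
  exact ShortComplex.quasiIso_of_epi_of_isIso_of_mono _

/-- the homology of a complex with terms in a weak Serre subcategory -/
lemma prop_homology_of_terms (P : ObjectProperty A) [WSerre.IsWeakSerre P]
    (K : CochainComplex A ℤ) (hK : ∀ i, P (K.X i)) (j : ℤ) : P (K.homology j) := by
  have hZ : P (K.cycles j) :=
    P.prop_of_isLimit_kernelFork (K.cyclesIsKernel j (j + 1) (by simp)) (hK j) (hK (j + 1))
  exact P.prop_of_isColimit_cokernelCofork (K.homologyIsCokernel (j - 1) j (by simp))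
    (hK (j - 1)) hZ

end Homology

end Groth.Agent.Lib.Helper2.Aff.Sigma
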