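import Groth.Agent.Lib.Helper2.Aff.HomVanMV
import Groth.Agent.Lib.Helper2.Aff.PerfAff2
import Groth.Agent.Lib.Helper2.Aff.SigmaTrunc
import Groth.Agent.Lib.Helper13.PtFibre
import Groth.Agent.Lib.Helper18.DRTrunc

/-!
# Vanishing of `Hom` out of perfect objects on quasi-compact quasi-separated schemes (helper2)
-/

set_option autoImplicit false
universe w w' v v' u u'
open CategoryTheory CategoryTheory.Limits AlgebraicGeometry TopologicalSpace Opposite
  CategoryTheory.Pretriangulated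

attribute [local instance] HasDerivedCategory.standard

namespace Groth.Agent.Lib.Helper2.Aff.HomVan

section MapDC

variable {A : Type u} [Category.{v} A] [Abelian A] [HasDerivedCategory.{w} A]
  {B : Type u'} [Category.{v'} B] [Abelian B] [HasDerivedCategory.{w'} B]
  (Φ : A ⥤ B) (Ψ : B ⥤ A) [Φ.Additive] [Ψ.Additive] [PreservesFiniteLimits Φ]
  [PreservesFiniteColimits Φ] [PreservesFiniteLimits Ψ] [PreservesFiniteColimits Ψ]

/-- a one-sided inverse of exact functors passes to derived categories -/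
noncomputable def mapDCCompIsoId (α : Φ ⋙ Ψ ≅ 𝟭 A) :
    Φ.mapDerivedCategory ⋙ Ψ.mapDerivedCategory ≅ 𝟭 (DerivedCategory A) :=
  letI : Localization.Lifting DerivedCategory.Q
      (HomologicalComplex.quasiIso A (ComplexShape.up ℤ))
      DerivedCategory.Q (Φ.mapDerivedCategory ⋙ Ψ.mapDerivedCategory) :=
    ⟨(Functor.associator _ _ _).symm ≪≫ Functor.isoWhiskerRight Φ.mapDerivedCategoryFactors _ ≪≫
      Functor.associator _ _ _ ≪≫ Functor.isoWhiskerLeft _ Ψ.mapDerivedCategoryFactors ≪≫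
      (Functor.associator _ _ _).symm ≪≫
      Functor.isoWhiskerRight (Functor.mapHomologicalComplexCompIso α (ComplexShape.up ℤ) ≪≫
        Functor.mapHomologicalComplexIdIso A (ComplexShape.up ℤ)) DerivedCategory.Q ≪≫
      Functor.leftUnitor _⟩
  Localization.liftNatIso DerivedCategory.Q (HomologicalComplex.quasiIso A (ComplexShape.up ℤ))
    DerivedCategory.Q DerivedCategory.Q _ (𝟭 _) (Iso.refl _)

theorem faithful_mapDerivedCategory (α : Φ ⋙ Ψ ≅ 𝟭 A) : Φ.mapDerivedCategory.Faithful :=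
  Functor.Faithful.of_comp_iso (mapDCCompIsoId Φ Ψ α)

end MapDC

section Abstract

variable {A : Type u} [Category.{v} A] [Abelian A] [HasDerivedCategory.{w} A]

open DerivedCategory in
/-- if `Hom(P, -)` kills `D^{≤ a - 1}`, `P ∈ D^{≤ b}` and `M` has no cohomology in `[a, b]`, then
`Hom(P, M) = 0` -/
theorem hom_eq_zero_of_range (P M : DerivedCategory A) (a b : ℤ) [P.IsLE b]
    (hP : ∀ Y : DerivedCategory A, Y.IsLE (a - 1) → ∀ φ : P ⟶ Y, φ = 0)
    (hM : ∀ i, a ≤ i → i ≤ b → IsZero ((homologyFunctor A i).obj M)) (φ : P ⟶ M) : φ = 0 := by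
  have hT := TStructure.t.triangleLTGE_distinguished a M
  have hge : ((TStructure.t.truncGE a).obj M).IsGE (b + 1) := by
    rw [DerivedCategory.isGE_iff]
    intro i hi
    by_cases hia : i < a
    · exact isZero_of_isGE _ a i hia
    · haveI := Groth.Agent.Lib.Helper5.TruncRlim.isIso_homology_map_truncGEπ M a i (by omega)
      exact (hM i (by omega) (by omega)).of_iso
        (asIso ((homologyFunctor A i).map ((TStructure.t.truncGEπ a).app M))).symm
  have h1 : φ ≫ (TStructure.t.truncGEπ a).app M = 0 :=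
    TStructure.t.zero _ b (b + 1) (by omega)
  obtain ⟨χ, hχ⟩ := Triangle.coyoneda_exact₂ _ hT φ h1
  have hχ0 : χ = 0 := hP _ (inferInstanceAs (((TStructure.t.truncLT a).obj M).IsLE (a - 1))) χ
  rw [hχ, hχ0]
  exact zero_comp

end Abstract

open Groth.Agent.Lib.Helper2 Groth.Agent.Lib.Helper2.Stk Groth.Agent.Lib.Helper2.Aff
  AlgebraicGeometry.Scheme.Modules Groth.Agent.Lib.Helper13

variable {X : Scheme.{u}}

theorem faithful_restrictD_of_isIso {Y' Y : Scheme.{u}} (e : Y' ⟶ Y) [IsIso e] :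
    (DCoh.restrictD e).Faithful := by
  apply faithful_mapDerivedCategory (restrictFunctor e) (restrictFunctor (inv e))
  exact (restrictFunctorComp (inv e) e).symm ≪≫ restrictFunctorCongr (IsIso.inv_hom_id e) ≪≫
    restrictFunctorId

theorem vanJ_of_vanJ_comp {Y' Y : Scheme.{u}} (e : Y' ⟶ Y) [IsIso e] (j : Y ⟶ X)
    [IsOpenImmersion j] (K L : DCoh.D X) (h : VanJ (e ≫ j) K L) : VanJ j K L := by
  intro φ
  obtain ⟨cK⟩ := PerfTri.nonempty_resD_comp e j (e ≫ j) rfl K
  obtain ⟨cL⟩ := PerfTri.nonempty_resD_comp e j (e ≫ j) rfl L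
  haveI := faithful_restrictD_of_isIso e
  apply (DCoh.restrictD e).map_injective
  rw [Functor.map_zero]
  have := h (cK.inv ≫ (DCoh.restrictD e).map φ ≫ cL.hom)
  rw [← cancel_epi cK.inv, ← cancel_mono cL.hom, Category.assoc, this, comp_zero, zero_comp]

lemma vanJ_congr {U : Scheme.{u}} {j j' : U ⟶ X} [IsOpenImmersion j] [IsOpenImmersion j']
    (h : j = j') (K L : DCoh.D X) : VanJ j K L ↔ VanJ j' K L := by
  subst h
  rfl

theorem vanJ_of_affine {W : X.Opens} (hW : IsAffineOpen W) (K L : DCoh.D X)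
    (h : VanJ hW.fromSpec K L) : VanJ W.ι K L := by
  apply vanJ_of_vanJ_comp hW.isoSpec.inv W.ι K L
  exact (vanJ_congr hW.isoSpec_inv_ι K L).2 h

section Ring

variable {A : Type u} [CommRing A]

open Groth.Agent.Lib.Helper18 in
theorem hom_eq_zero_of_vanishesOutside (E : DRing.Cx A) (a b : ℤ)
    (hv : DRing.VanishesOutside E a b) (hp : ∀ i, Module.Projective A (E.X i))
    (M : Dual.D A)
    (hM : ∀ i, a ≤ i → i ≤ b → IsZero ((DerivedCategory.homologyFunctor _ i).obj M))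
    (φ : DRing.toD E ⟶ M) : φ = 0 := by
  haveI : E.IsKProjective :=
    DR.isKProjective_of_vanishesAbove E b (fun i hi => hv i (Or.inr hi)) hp
  haveI : E.IsStrictlyGE a := by
    rw [CochainComplex.isStrictlyGE_iff]
    intro i hi
    exact hv i (Or.inl hi)
  haveI : (DRing.toD E).IsLE b :=
    DR.isLE_toD_of_vanishesAbove E b (fun i hi => hv i (Or.inr hi))
  exact hom_eq_zero_of_range (DRing.toD E) M a b
    (fun Y hY φ => by haveI := hY; exact DR.hom_eq_zero_of_isLE E a Y φ) hM φ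

end Ring

section Core

attribute [local instance] Groth.Agent.Lib.Helper14.preservesFiniteLimits_tilde

open Groth.Agent.Lib.Helper2.TExactIso

theorem vanJ_of_tildeD (R : CommRingCat.{u}) (j : SpecR R ⟶ X) [IsOpenImmersion j]
    (E : DRing.Cx R) (a b : ℤ) (hv : DRing.VanishesOutside E a b)
    (hp : ∀ i, Module.Projective R (E.X i)) (K : DCoh.D X)
    (e : (DCoh.restrictD j).obj K ≅ (DCoh.tildeD R).obj (DRing.toD E)) (L : DCoh.D X)
    (hL : DCoh.IsQCohD L) (hL0 : ∀ i, a ≤ i → i ≤ b → IsZero (DCoh.HD L i)) : VanJ j K L := by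
  obtain ⟨hfull, hfaith, hess⟩ := tildeD_fullyFaithful_essImage R
  obtain ⟨M, ⟨eL⟩⟩ := (hess _).1 (isQCohD_restrict j L hL)
  intro φ
  obtain ⟨χ, hχ⟩ := (DCoh.tildeD R).map_surjective (e.inv ≫ φ ≫ eL.inv)
  have hM : ∀ i, a ≤ i → i ≤ b → IsZero ((DerivedCategory.homologyFunctor _ i).obj M) := by
    intro i hi hi'
    apply hrefl R _ trivial
    have e1 := mapDerivedCategoryHomologyIso (tilde.functor R) M i
    have e2 := (DerivedCategory.homologyFunctor _ i).mapIso eL
    have e3 := mapDerivedCategoryHomologyIso (restrictFunctor j) L i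
    exact ((restrictFunctor j).map_isZero (hL0 i hi hi')).of_iso (e1.symm ≪≫ e2 ≪≫ e3)
  have hχ0 := hom_eq_zero_of_vanishesOutside E a b hv hp M hM χ
  rw [hχ0, Functor.map_zero] at hχ
  have h2 : φ ≫ eL.inv = 0 := by
    rw [← cancel_epi e.inv, ← hχ, comp_zero]
  rw [← cancel_mono eL.inv, h2, zero_comp]

end Core

section Base

attribute [local instance] Groth.Agent.Lib.Helper14.preservesFiniteLimits_tilde

open Groth.Agent.Lib.Helper2.TExactIso Groth.Agent.Lib.Helper3 Groth.Agent.Lib.Helper2.Aff.Qcqs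
  Groth.Agent.Lib.Helper2.Aff.AffPush

/-- perfect objects have quasi-coherent cohomology sheaves -/
theorem isQCohD_of_isPerfect (K : DCoh.D X) (hK : DCoh.IsPerfect K) : DCoh.IsQCohD K := by
  apply isQCohD_of_open_cover
  intro s
  obtain ⟨V, hsV, E, hE, ⟨e⟩⟩ := (PerfTri.isPerfect_iff K).1 hK s
  refine ⟨V, hsV, fun i => ?_⟩
  exact isQCoh_of_iso ((DerivedCategory.homologyFunctor _ i).mapIso e.symm)
    (isQCohD_Q_of_qcoh E (fun n => LocFreeCrit.isQuasicoherent_of_isFinLocFree (hE.2 n)) i)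

/-- the affine base case for a perfect object -/
theorem exists_vanJ_of_isPerfect {W : X.Opens} (hW : IsAffineOpen W) (K : DCoh.D X)
    (hK : DCoh.IsPerfect K) :
    ∃ a b : ℤ, ∀ L : DCoh.D X, DCoh.IsQCohD L →
      (∀ i, a ≤ i → i ≤ b → IsZero (DCoh.HD L i)) → VanJ W.ι K L := by
  have hK' := PtFibre.isPerfect_restrict hW.fromSpec hK
  obtain ⟨hfull, hfaith, hess⟩ := tildeD_fullyFaithful_essImage Γ(X, W)
  obtain ⟨N, ⟨eN⟩⟩ := (hess _).1 (isQCohD_of_isPerfect _ hK')
  have hN : DRing.IsPerfect Γ(X, W) N :=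
    (PerfAff.isPerfect_tildeD_iff Γ(X, W) N).1 (PerfTri.isPerfect_of_iso eN.symm hK')
  obtain ⟨E, a, b, hv, hp, ⟨eE⟩⟩ := hN
  refine ⟨a, b, fun L hL hL0 => vanJ_of_affine hW K L ?_⟩
  exact vanJ_of_tildeD Γ(X, W) hW.fromSpec E a b hv (fun i => (hp i).2) K
    (eN.symm ≪≫ (DCoh.tildeD Γ(X, W)).mapIso eE.symm) L hL hL0

/-- the affine base case for a finite locally free module in degree `0` -/
theorem vanJ_inD_of_affine {W : X.Opens} (hW : IsAffineOpen W) (F : X.Modules)
    (hF : FlatMod.IsFinLocFree F) (L : DCoh.D X) (hL : DCoh.IsQCohD L)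
    (hL0 : IsZero (DCoh.HD L 0)) : VanJ W.ι (DCoh.inD X F) L := by
  apply vanJ_of_affine hW
  let R : CommRingCat.{u} := Γ(X, W)
  let j : SpecR R ⟶ X := hW.fromSpec
  let F' : (SpecR R).Modules := (restrictFunctor j).obj F
  have hF' : FlatMod.IsFinLocFree F' :=
    Groth.Agent.Lib.Helper17.LocFreeOps.isFinLocFree_of_iso
      ((restrictFunctorIsoPullback j).symm.app F)
      (Groth.Agent.Lib.Helper17.LocFreeOps.isFinLocFree_pullback j F hF)
  haveI : F'.IsQuasicoherent := LocFreeCrit.isQuasicoherent_of_isFinLocFree hF'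
  let P : ModuleCat.{u} R := moduleSpecΓFunctor.obj F'
  obtain ⟨hfin, hproj⟩ := PerfAff.finite_projective_Γ R F' hF'
  let E : DRing.Cx R := (HomologicalComplex.single _ (ComplexShape.up ℤ) 0).obj P
  have hv : DRing.VanishesOutside E 0 0 := fun i hi =>
    HomologicalComplex.isZero_single_obj_X _ _ _ _ (by omega)
  have hp : ∀ i, Module.Projective R (E.X i) := by
    intro i
    by_cases hi : i = 0
    · subst hi
      exact Module.Projective.of_equiv
        (HomologicalComplex.singleObjXSelf (ComplexShape.up ℤ) 0 P).symm.toLinearEquiv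
    · haveI : Subsingleton (E.X i) := ModuleCat.subsingleton_of_isZero
        (HomologicalComplex.isZero_single_obj_X _ _ _ _ hi)
      infer_instance
  have e : (DCoh.restrictD j).obj (DCoh.inD X F) ≅ (DCoh.tildeD R).obj (DRing.toD E) :=
    ((restrictFunctor j).mapDerivedCategorySingleFunctor 0).app F ≪≫
      (DerivedCategory.singleFunctor _ 0).mapIso (asIso F'.fromTildeΓ).symm ≪≫
      (((tilde.functor R).mapDerivedCategorySingleFunctor 0).app P).symm ≪≫
      (DCoh.tildeD R).mapIso ((DerivedCategory.singleFunctorIsoCompQ _ 0).app P)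
  exact vanJ_of_tildeD R j E 0 0 hv hp _ e L hL
    (fun i hi hi' => by obtain rfl : i = 0 := by omega
                        exact hL0)

end Base

section Global

open Groth.Agent.Lib.Helper13.QCDim Groth.Agent.Lib.Helper2.TExactIso
  Groth.Agent.Lib.Helper2.Aff.Qcqs

theorem hom_eq_zero_of_vanJ_top (K L : DCoh.D X) (h : VanJ (⊤ : X.Opens).ι K L) (φ : K ⟶ L) :
    φ = 0 := by
  haveI : IsIso (⊤ : X.Opens).ι := (Scheme.topIso X).isIso_hom
  haveI := faithful_restrictD_of_isIso (⊤ : X.Opens).ι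
  apply (DCoh.restrictD (⊤ : X.Opens).ι).map_injective
  rw [Functor.map_zero]
  exact h _

lemma isQCohD_shift (L : DCoh.D X) (hL : DCoh.IsQCohD L) (n : ℤ) : DCoh.IsQCohD (L⟦n⟧) :=
  fun i => isQCoh_of_iso (homologyShiftIso L n i).symm (hL (n + i))

variable [CompactSpace X] [QuasiSeparatedSpace X]

/-- vanishing of `Hom(K, L)` for perfect `K` and `L ∈ D_QCoh` without cohomology in a range -/
theorem exists_range_hom_eq_zero (K : DCoh.D X) (hK : DCoh.IsPerfect K) :
    ∃ n : ℕ, ∀ L : DCoh.D X, DCoh.IsQCohD L →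
      (∀ i : ℤ, -(n : ℤ) ≤ i → i ≤ n → IsZero (DCoh.HD L i)) → ∀ φ : K ⟶ L, φ = 0 := by
  obtain ⟨d, hd⟩ := QC.exists_top (X := X)
  obtain ⟨n, hn⟩ := exists_vanJ_of_qc (fun K' => K' = K)
    (fun n L => DCoh.IsQCohD L ∧ ∀ i : ℤ, -(n : ℤ) ≤ i → i ≤ n → IsZero (DCoh.HD L i))
    (fun n L hL => ⟨isQCohD_shift L hL.1 (-1), fun i hi hi' =>
      (hL.2 (-1 + i) (by push_cast; omega) (by push_cast; omega)).of_iso
        (homologyShiftIso L (-1) i)⟩)
    (fun n n' L hnn hL => ⟨hL.1, fun i hi hi' => hL.2 i (by omega) (by omega)⟩)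
    (fun W hW => by
      obtain ⟨a, b, hab⟩ := exists_vanJ_of_isPerfect hW K hK
      refine ⟨max a.natAbs b.natAbs, ?_⟩
      rintro K' rfl L ⟨hL, hL0⟩
      exact hab L hL (fun i hi hi' => hL0 i (by omega) (by omega))) hd
  exact ⟨n, fun L hL hL0 φ => hom_eq_zero_of_vanJ_top K L (hn K rfl L ⟨hL, hL0⟩) φ⟩

/-- uniform vanishing of `Hom(F, L)` for finite locally free `F` and `L ∈ D_QCoh^{≤ -n-1}` -/
theorem exists_bound_hom_inD_eq_zero :
    ∃ n : ℕ, ∀ F : X.Modules, FlatMod.IsFinLocFree F → ∀ L : DCoh.D X, DCoh.IsQCohD L →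
      L.IsLE (-(n : ℤ) - 1) → ∀ φ : DCoh.inD X F ⟶ L, φ = 0 := by
  obtain ⟨d, hd⟩ := QC.exists_top (X := X)
  obtain ⟨n, hn⟩ := exists_vanJ_of_qc
    (fun K' => ∃ F : X.Modules, FlatMod.IsFinLocFree F ∧ K' = DCoh.inD X F)
    (fun n L => DCoh.IsQCohD L ∧ L.IsLE (-(n : ℤ) - 1))
    (fun n L hL => ⟨isQCohD_shift L hL.1 (-1), by
      haveI := hL.2
      exact DerivedCategory.TStructure.t.isLE_shift L (-((n + 1 : ℕ) : ℤ) - 1) (-1) _
        (by push_cast; omega)⟩)
    (fun n n' L hnn hL => ⟨hL.1, by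
      haveI := hL.2
      exact DerivedCategory.TStructure.t.isLE_of_le L (-(n' : ℤ) - 1) _ (by omega)⟩)
    (fun W hW => by
      refine ⟨0, ?_⟩
      rintro K' ⟨F, hF, rfl⟩ L ⟨hL, hL0⟩
      haveI := hL0
      exact vanJ_inD_of_affine hW F hF L hL
        (DerivedCategory.isZero_of_isLE L (-((0 : ℕ) : ℤ) - 1) 0 (by simp))) hd
  exact ⟨n, fun F hF L hL hL0 φ =>
    hom_eq_zero_of_vanJ_top _ L (hn _ ⟨F, hF, rfl⟩ L ⟨hL, hL0⟩) φ⟩

end Global

end Groth.Agent.Lib.Helper2.Aff.HomVan
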