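import Groth.Agent.Lib.Helper2.Aff.PerfAff2
import Groth.Agent.Lib.Helper13.PCohSingle
import Groth.Agent.Lib.Helper18.DRDesc

set_option autoImplicit false
universe u
open CategoryTheory CategoryTheory.Limits AlgebraicGeometry TopologicalSpace Opposite

attribute [local instance] HasDerivedCategory.standard

namespace Groth.Agent.Lib.Helper2.Aff.PerfAff

open Groth.Agent.Lib.Helper13 Groth.Agent.Lib.Helper3 Groth.Agent.Lib.Helper17
  Groth.Agent.Lib.Helper12 Groth.Agent.Lib.Helper18 AlgebraicGeometry.Scheme.Modules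
  Groth.Agent.Lib.Helper13.GoodMap Groth.Agent.Lib.Helper13.PCohTri Groth.Agent.Lib.Helper13.PCohSingle
  Groth.Agent.Lib.Helper13.PerfTri

local notation "cc" => ComplexShape.up ℤ

section Reflect

variable (R : CommRingCat.{u}) [PreservesFiniteLimits (tilde.functor R)]

instance : (tilde.functor R).Full := (tilde.fullyFaithfulFunctor (R := R)).full
instance : (tilde.functor R).Faithful := (tilde.fullyFaithfulFunctor (R := R)).faithful

/-- `tildeD` reflects `m`-good maps -/
theorem good_of_good_tildeD {m : ℤ} {K L : DerivedCategory (ModuleCat.{u} R)} (f : K ⟶ L)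
    (hf : Good m ((DCoh.tildeD R).map f)) : Good m f := by
  refine ⟨fun i hi => ?_, ?_⟩
  · have h1 := (NatIso.isIso_map_iff (homologyDIso (tilde.functor R) i) f).1 (hf.1 i hi)
    rw [Functor.comp_map] at h1
    exact isIso_of_fully_faithful (tilde.functor R) _
  · have h1 := (epi_map_iff_of_natIso (homologyDIso (tilde.functor R) m) f).1 hf.2
    rw [Functor.comp_map] at h1
    exact (tilde.functor R).epi_of_epi_map h1

end Reflect

section Cover

/-- a property of elements holding on a basic open neighbourhood of every prime holds along a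
finite family generating the unit ideal -/
theorem exists_fin_cover (A : Type u) [CommRing A] (Pr : A → Prop)
    (h : ∀ x : PrimeSpectrum A, ∃ g : A, x ∈ PrimeSpectrum.basicOpen g ∧ Pr g) :
    ∃ (r : ℕ) (f : Fin r → A), Ideal.span (Set.range f) = ⊤ ∧ ∀ i, Pr (f i) := by
  let S : Set A := {g | Pr g}
  have hS : Ideal.span S = ⊤ := by
    by_contra hne
    obtain ⟨m, hm, hle⟩ := Ideal.exists_le_maximal _ hne
    obtain ⟨g, hxg, hg⟩ := h ⟨m, hm.isPrime⟩
    exact hxg (hle (Ideal.subset_span hg))
  obtain ⟨s', hs'S, hs'⟩ := (Ideal.span_eq_top_iff_finite _).mp hS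
  refine ⟨s'.card, fun k => (s'.equivFin.symm k : A), ?_, fun k => hs'S (s'.equivFin.symm k).2⟩
  have : Set.range (fun k => (s'.equivFin.symm k : A)) = ↑s' := by
    ext a
    constructor
    · rintro ⟨k, rfl⟩
      exact (s'.equivFin.symm k).2
    · intro ha
      exact ⟨s'.equivFin ⟨a, ha⟩, by simp⟩
  rw [this]
  exact hs'

/-- a basic open neighbourhood inside an open of `Spec A`, with the factorisation of the
localisation immersion -/
theorem exists_basicOpen_lift (A : Type u) [CommRing A] (V : (Spec (CommRingCat.of A)).Opens)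
    (x : PrimeSpectrum A) (hxV : x ∈ V) :
    ∃ (g : A), x ∈ PrimeSpectrum.basicOpen g ∧
      ∃ (l : Spec (CommRingCat.of (Localization.Away g)) ⟶ (V : Scheme.{u}))
        (_ : IsOpenImmersion l), jg A g = l ≫ V.ι := by
  obtain ⟨_, ⟨_, ⟨g, rfl⟩, rfl⟩, hxg, hgV⟩ :=
    PrimeSpectrum.isBasis_basic_opens.exists_subset_of_mem_open hxV V.2
  have hrange : Set.range (jg A g).base ⊆ Set.range V.ι.base := by
    rw [Scheme.Opens.range_ι]
    refine subset_trans (le_of_eq ?_) hgV
    exact PrimeSpectrum.localization_away_comap_range (Localization.Away g) g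
  let l := IsOpenImmersion.lift V.ι (jg A g) hrange
  have hl : l ≫ V.ι = jg A g := IsOpenImmersion.lift_fac _ _ _
  haveI : IsOpenImmersion (l ≫ V.ι) := by rw [hl]; infer_instance
  haveI : IsOpenImmersion l := IsOpenImmersion.of_comp l V.ι
  exact ⟨g, hxg, l, inferInstance, hl.symm⟩

end Cover

section PC

variable (A : Type u) [CommRing A]

/-- a perfect source with an `m`-connected map makes the target `m`-pseudo-coherent -/
theorem isPseudoCoherent_of_isConn_of_isPerfect {m : ℤ} {P K : Dual.D A} (α : P ⟶ K)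
    (hα : DR.IsConn m α) (hP : DRing.IsPerfect A P) : DRing.IsPseudoCoherent A m K := by
  obtain ⟨C, β, γ, hT⟩ := Pretriangulated.distinguished_cocone_triangle α
  have hC : C.IsLE (m - 1) := (DR.isConn_iff_isLE_cone hT m).mp hα
  haveI := hC
  exact (DR.isPseudoCoherent_triangle _ hT m).2.1 (DR.isPseudoCoherent_of_isPerfect hP m)
    (DR.isPseudoCoherent_of_isLE C (m - 1) m (by omega))

/-- `M` `m`-pseudo-coherent implies `M~` `m`-pseudo-coherent -/
theorem isPC_tildeD_of_isPseudoCoherent
    [PreservesFiniteLimits (tilde.functor (CommRingCat.of A))] (M : Dual.D A) (m : ℤ)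
    (hM : DRing.IsPseudoCoherent A m M) :
    DCoh.IsPseudoCoherentD m ((DCoh.tildeD (CommRingCat.of A)).obj M) := by
  obtain ⟨E, a, b, α, hv, hff, h1, h2⟩ := hM
  have hE : DCoh.IsStrictlyPerfect ((tildeCx (CommRingCat.of A)).obj E) := by
    refine ⟨⟨a, b, fun i hi => (tilde.functor (CommRingCat.of A)).map_isZero (hv i hi)⟩,
      fun i => ?_⟩
    obtain ⟨hf, hfr⟩ := hff i
    exact isFinLocFree_tilde (CommRingCat.of A) (E.X i)
  have hα : Good m α := ⟨h1, h2⟩
  exact isPC_of_global _
    (((tilde.functor (CommRingCat.of A)).mapDerivedCategoryFactors.app E).inv ≫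
      (DCoh.tildeD (CommRingCat.of A)).map α) hE
    (Good.iso_comp _ (good_map (tilde.functor (CommRingCat.of A)) hα))

theorem isPseudoCoherent_loc_of_LPC (g : A)
    [PreservesFiniteLimits (tilde.functor (CommRingCat.of A))]
    [PreservesFiniteLimits (tilde.functor (CommRingCat.of (Localization.Away g)))]
    (K : CochainComplex (ModuleCat.{u} A) ℤ) (m : ℤ)
    (h : LPC m ((DCoh.tildeD (CommRingCat.of A)).obj (DerivedCategory.Q.obj K)) (jg A g)) :
    DRing.IsPseudoCoherent (Localization.Away g) m (DRing.toD ((extCx A g).obj K)) := by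
  obtain ⟨E, α, hE, hα⟩ := h
  have hq : ∀ i, (E.X i).IsQuasicoherent := fun i =>
    LocFreeCrit.isQuasicoherent_of_isFinLocFree (hE.2 i)
  let P := (ΓCx (CommRingCat.of (Localization.Away g))).obj E
  obtain ⟨⟨a, b, hab⟩, hfl⟩ := hE
  let i0 : (DCoh.tildeD (CommRingCat.of (Localization.Away g))).obj (DerivedCategory.Q.obj P) ≅
      DerivedCategory.Q.obj E :=
    (tilde.functor (CommRingCat.of (Localization.Away g))).mapDerivedCategoryFactors.app P ≪≫
      DerivedCategory.Q.mapIso (tildeΓCxIso _ E hq)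
  let α' : (DCoh.tildeD (CommRingCat.of (Localization.Away g))).obj (DerivedCategory.Q.obj P) ⟶
      (DCoh.tildeD (CommRingCat.of (Localization.Away g))).obj
        (DerivedCategory.Q.obj ((extCx A g).obj K)) :=
    i0.hom ≫ α ≫ (restrictTildeDIso A g K).hom
  have hα' : Good m α' := Good.iso_comp _ (hα.comp_iso _)
  obtain ⟨hfull, hfaith, -⟩ := tildeD_fullyFaithful_essImage (CommRingCat.of (Localization.Away g))
  haveI := hfull
  haveI := hfaith
  let β := (DCoh.tildeD (CommRingCat.of (Localization.Away g))).preimage α'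
  have hβ : Good m β := good_of_good_tildeD _ β (by rw [Functor.map_preimage]; exact hα')
  have hP : DRing.IsPerfect (Localization.Away g) (DerivedCategory.Q.obj P) :=
    ⟨P, a, b, fun i hi => (moduleSpecΓFunctor).map_isZero (hab i hi),
      fun i => finite_projective_Γ _ (E.X i) (hfl i), ⟨Iso.refl _⟩⟩
  exact isPseudoCoherent_of_isConn_of_isPerfect _ β ⟨hβ.1, hβ.2⟩ hP

theorem isPseudoCoherent_of_isPC_tildeD
    [PreservesFiniteLimits (tilde.functor (CommRingCat.of A))] (M : Dual.D A) (m : ℤ)
    (h : DCoh.IsPseudoCoherentD m ((DCoh.tildeD (CommRingCat.of A)).obj M)) :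
    DRing.IsPseudoCoherent A m M := by
  let K := DerivedCategory.Q.objPreimage M
  let i : DerivedCategory.Q.obj K ≅ M := DerivedCategory.Q.objObjPreimageIso M
  rw [isPC_iff] at h
  obtain ⟨r, f, hf, hK⟩ := exists_fin_cover A
    (fun g => DRing.IsPseudoCoherent (Localization.Away g) m (DRing.toD ((extCx A g).obj K)))
    (fun x => by
      obtain ⟨V, hxV, hV⟩ := h x
      obtain ⟨g, hxg, l, hl, hfac⟩ := exists_basicOpen_lift A V x hxV
      haveI := Groth.Agent.Lib.Helper14.preservesFiniteLimits_tilde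
        (CommRingCat.of (Localization.Away g))
      refine ⟨g, hxg, isPseudoCoherent_loc_of_LPC A g K m ?_⟩
      exact LPC.comp l V.ι (jg A g) hfac
        (LPC.of_iso ((DCoh.tildeD (CommRingCat.of A)).mapIso i.symm) hV))
  have h1 : DRing.IsPseudoCoherent A m (DRing.toD K) :=
    (DR.descFam_away f hf).isPseudoCoherent m (DRing.toD K)
      (fun k => DR.isPseudoCoherent_of_iso (DR.mapDToDIso DR.extM K).symm (hK k))
  exact DR.isPseudoCoherent_of_iso i h1

theorem isPC_tildeD_iff
    [PreservesFiniteLimits (tilde.functor (CommRingCat.of A))] (M : Dual.D A) (m : ℤ) :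
    DCoh.IsPseudoCoherentD m ((DCoh.tildeD (CommRingCat.of A)).obj M) ↔
      DRing.IsPseudoCoherent A m M :=
  ⟨isPseudoCoherent_of_isPC_tildeD A M m, isPC_tildeD_of_isPseudoCoherent A M m⟩

end PC

end Groth.Agent.Lib.Helper2.Aff.PerfAff
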