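import Groth.Agent.Lib.Helper2.Kos.Factor
import Groth.Agent.Lib.Helper2.Aff.PCohAff
import Groth.Agent.Lib.Helper2.Aff.HomVanBase
import Groth.Agent.Lib.Helper13.PtFibre
import Groth.Agent.Lib.Helper13.ClImmPC
import Groth.Agent.Lib.Helper13.PCohSum
import Groth.Agent.Lib.Helper3.ModBasic

/-!
# Algebraic models of `D_QCoh` on a scheme isomorphic to `Spec A` (helper2)

For an isomorphism `e : X ⟶ Spec A` we study `T e = tildeD ⋙ e^* : D(A) ⥤ D(X)`: fully faithful with
essential image `D_QCoh(X)`, compatible with perfect / pseudo-coherent objects, and translating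
supports of cohomology sheaves into torsion conditions.
-/

set_option autoImplicit false
set_option linter.style.haveILetI false
universe u
open CategoryTheory CategoryTheory.Limits CategoryTheory.Pretriangulated DerivedCategory
  AlgebraicGeometry

attribute [local instance] HasDerivedCategory.standard

namespace Groth.Agent.Lib.Helper2.Aff.AffModel

open Groth.Agent.Lib.Helper18.DR Groth.Agent.Lib.Helper2.TExactIso Groth.Agent.Lib.Helper2.Aff
  Groth.Agent.Lib.Helper2.Kos Groth.Agent.Lib.Helper13 AlgebraicGeometry.Scheme.Modules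
  Groth.Agent.Lib.Helper2.Aff.HomVan Groth.Agent.Lib.Helper2.Aff.Qcqs

section Iso

variable {Y' Y : Scheme.{u}} (e : Y' ⟶ Y) [IsIso e]

/-- restriction along an isomorphism is an equivalence of derived categories -/
noncomputable def restrictDEquiv : DCoh.D Y ≌ DCoh.D Y' :=
  CategoryTheory.Equivalence.mk (DCoh.restrictD e) (DCoh.restrictD (inv e))
    (mapDCCompIsoId (restrictFunctor e) (restrictFunctor (inv e))
      ((restrictFunctorComp (inv e) e).symm ≪≫ restrictFunctorCongr (IsIso.inv_hom_id e) ≪≫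
        restrictFunctorId)).symm
    (mapDCCompIsoId (restrictFunctor (inv e)) (restrictFunctor e)
      ((restrictFunctorComp e (inv e)).symm ≪≫ restrictFunctorCongr (IsIso.hom_inv_id e) ≪≫
        restrictFunctorId))

instance : (DCoh.restrictD e).IsEquivalence := (restrictDEquiv e).isEquivalence_functor

theorem isQCohD_restrictD_iff (K : DCoh.D Y) :
    DCoh.IsQCohD ((DCoh.restrictD e).obj K) ↔ DCoh.IsQCohD K := by
  refine ⟨fun h => ?_, isQCohD_restrict e K⟩
  have h2 := isQCohD_restrict (inv e) _ h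
  intro i
  exact isQCoh_of_iso
    ((DerivedCategory.homologyFunctor _ i).mapIso ((restrictDEquiv e).unitIso.app K)).symm (h2 i)

theorem isPerfect_restrictD_iff (K : DCoh.D Y) :
    DCoh.IsPerfect ((DCoh.restrictD e).obj K) ↔ DCoh.IsPerfect K := by
  refine ⟨fun h => ?_, PtFibre.isPerfect_restrict e⟩
  exact PerfTri.isPerfect_of_iso ((restrictDEquiv e).unitIso.app K).symm
    (PtFibre.isPerfect_restrict (inv e) h)

theorem isPC_restrictD_iff (m : ℤ) (K : DCoh.D Y) :
    DCoh.IsPseudoCoherentD m ((DCoh.restrictD e).obj K) ↔ DCoh.IsPseudoCoherentD m K := by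
  refine ⟨fun h => ?_, ClImmPC.isPC_restrict e⟩
  exact PCohSum.isPC_of_iso ((restrictDEquiv e).unitIso.app K).symm
    (ClImmPC.isPC_restrict (inv e) h)

end Iso

section Supp

variable {Y X : Scheme.{u}} (f : Y ⟶ X) [IsOpenImmersion f]

theorem support_restrict (M : X.Modules) :
    CohB1.support ((restrictFunctor f).obj M) = f.base ⁻¹' CohB1.support M := by
  ext y
  exact not_congr (Groth.Agent.Lib.Helper3.ModBasic.subsingleton_stalk_restrict_iff f M y)

theorem support_HD_restrictD (K : DCoh.D X) (i : ℤ) :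
    CohB1.support (DCoh.HD ((DCoh.restrictD f).obj K) i) = f.base ⁻¹' CohB1.support (DCoh.HD K i) := by
  rw [← support_restrict]
  exact Qcqs.support_eq_of_iso (mapDerivedCategoryHomologyIso (restrictFunctor f) K i)

end Supp

section Model

variable {X : Scheme.{u}} {A : Type u} [CommRing A] (e : X ⟶ Spec (CommRingCat.of A)) [IsIso e]
  [PreservesFiniteLimits (tilde.functor (CommRingCat.of A))]

/-- the model functor `D(A) ⥤ D(X)` -/
noncomputable abbrev Tm : Dual.D A ⥤ DCoh.D X :=
  DCoh.tildeD (CommRingCat.of A) ⋙ DCoh.restrictD e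

theorem Tm_full_faithful_essImage :
    (Tm e).Full ∧ (Tm e).Faithful ∧
      ∀ K : DCoh.D X, DCoh.IsQCohD K ↔ ∃ M, Nonempty ((Tm e).obj M ≅ K) := by
  obtain ⟨hfull, hfaith, hess⟩ := tildeD_fullyFaithful_essImage (CommRingCat.of A)
  haveI := hfull
  haveI := hfaith
  refine ⟨inferInstance, inferInstance, fun K => ⟨fun hK => ?_, ?_⟩⟩
  · have h2 := isQCohD_restrict (inv e) K hK
    obtain ⟨M, ⟨ε⟩⟩ := (hess _).1 h2
    exact ⟨M, ⟨(DCoh.restrictD e).mapIso ε ≪≫ (restrictDEquiv e).counitIso.app K⟩⟩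
  · rintro ⟨M, ⟨ε⟩⟩
    intro i
    exact isQCoh_of_iso
      ((DerivedCategory.homologyFunctor _ i).mapIso ε)
      (isQCohD_restrict e _ (isQCohD_tildeD (CommRingCat.of A) M) i)

theorem isPerfect_Tm_iff (M : Dual.D A) :
    DCoh.IsPerfect ((Tm e).obj M) ↔ DRing.IsPerfect A M :=
  (isPerfect_restrictD_iff e _).trans (PerfAff.isPerfect_tildeD_iff A M)

theorem isPC_Tm_iff (m : ℤ) (M : Dual.D A) :
    DCoh.IsPseudoCoherentD m ((Tm e).obj M) ↔ DRing.IsPseudoCoherent A m M :=
  (isPC_restrictD_iff e m _).trans (PerfAff.isPC_tildeD_iff A M m)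

/-- the zero locus, as a subset of the underlying space of `Spec A` -/
def zl (S : Set A) : Set ↥(Spec (CommRingCat.of A)) :=
  (PrimeSpectrum.zeroLocus S : Set (PrimeSpectrum A))

theorem support_HD_Tm (M : Dual.D A) {K : DCoh.D X} (ε : (Tm e).obj M ≅ K) (i : ℤ) :
    CohB1.support (DCoh.HD K i) =
      e.base ⁻¹' CohB1.support (DCoh.HD ((DCoh.tildeD (CommRingCat.of A)).obj M) i) :=
  (Qcqs.support_eq_of_iso ((DerivedCategory.homologyFunctor _ i).mapIso ε)).symm.trans
    (support_HD_restrictD e ((DCoh.tildeD (CommRingCat.of A)).obj M) i)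

/-- supports of cohomology sheaves versus torsion -/
theorem ftors_of_support_Tm (M : Dual.D A) {K : DCoh.D X} (ε : (Tm e).obj M ≅ K) (i : ℤ)
    (S : Set A) (f : A) (hf : f ∈ S)
    (h : CohB1.support (DCoh.HD K i) ⊆ e.base ⁻¹' zl S) :
    FTors f ((H A i).obj M) := by
  apply ftors_H_of_support M _ (Iso.refl _) i S f hf
  intro x hx
  have h3 : e.base ((inv e).base x) = x := by
    rw [← Scheme.Hom.comp_apply, IsIso.inv_hom_id]
    rfl
  have hx' : (inv e).base x ∈ CohB1.support (DCoh.HD K i) := by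
    rw [support_HD_Tm e M ε i]
    show e.base ((inv e).base x) ∈
      CohB1.support (DCoh.HD ((DCoh.tildeD (CommRingCat.of A)).obj M) i)
    rw [h3]
    exact hx
  have h4 : e.base ((inv e).base x) ∈ zl S := h hx'
  rw [h3] at h4
  exact h4

theorem support_Tm_of_ftors (M : Dual.D A) {K : DCoh.D X} (ε : (Tm e).obj M ≅ K) (i : ℤ)
    (S : Set A) (h : ∀ f ∈ S, FTors f ((H A i).obj M)) :
    CohB1.support (DCoh.HD K i) ⊆ e.base ⁻¹' zl S := by
  rw [support_HD_Tm e M ε i]
  exact Set.preimage_mono (support_of_ftors_H M _ (Iso.refl _) i S h)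

end Model

end Groth.Agent.Lib.Helper2.Aff.AffModel
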