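import Groth.Agent.Lib.Helper2.Aff.AffReflect
import Groth.Agent.Lib.Helper2.Aff.PCohAff
import Groth.Agent.Lib.Helper13.ClImmPC
import Groth.Agent.Lib.Helper18.DRPCRestr

set_option autoImplicit false
universe u
open CategoryTheory CategoryTheory.Limits AlgebraicGeometry TopologicalSpace Opposite

attribute [local instance] HasDerivedCategory.standard

namespace Groth.Agent.Lib.Helper2.Aff.AffPush

open Groth.Agent.Lib.Helper2 Groth.Agent.Lib.Helper2.Stk Groth.Agent.Lib.Helper2.Aff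
  AlgebraicGeometry.Scheme.Modules Groth.Agent.Lib.Helper13 Groth.Agent.Lib.Helper3
  Groth.Agent.Lib.Helper2.TExactIso Groth.Agent.Lib.Helper13.PCohTri
  Groth.Agent.Lib.Helper13.PCohSingle Groth.Agent.Lib.Helper13.ClImmPC Groth.Agent.Lib.Helper13.PCohSum

local notation "cc" => ComplexShape.up ℤ

attribute [local instance] Groth.Agent.Lib.Helper14.preservesFiniteLimits_tilde

section FinPC

variable {X S : Scheme.{u}} (f : X ⟶ S) {V : S.Opens} (hV : IsAffineOpen V)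
  (hU : IsAffineOpen (f ⁻¹ᵁ V))

/-- `(f_* O_X)|_{Spec A} ≅ (B_A)~` in the derived category -/
noncomputable def restrictPushUnitIso :
    (DCoh.restrictD hV.fromSpec).obj
        (DCoh.inD S ((pushforward f).obj (Coh.structureModule X))) ≅
      (DCoh.tildeD Γ(S, V)).obj ((DerivedCategory.singleFunctor _ 0).obj
        ((ModuleCat.restrictScalars.{u} (f.appLE V (f ⁻¹ᵁ V) le_rfl).hom).obj
          (ModuleCat.of Γ(X, f ⁻¹ᵁ V) Γ(X, f ⁻¹ᵁ V)))) :=
  restrictInDIso hV.fromSpec _ ≪≫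
    (DerivedCategory.singleFunctor _ 0).mapIso
      ((pushChartIso f hV hU).app (Coh.structureModule X) ≪≫
        (pushforward (chartMap f)).mapIso (restrictUnitIso hU.fromSpec) ≪≫
        (tildePushIso (f.appLE V (f ⁻¹ᵁ V) le_rfl)).app
          (ModuleCat.of Γ(X, f ⁻¹ᵁ V) Γ(X, f ⁻¹ᵁ V))) ≪≫
    (((tilde.functor Γ(S, V)).mapDerivedCategorySingleFunctor 0).app _).symm

end FinPC

section Chart

variable {X S : Scheme.{u}} (f : X ⟶ S) [IsAffineHom f] [DCoh.HasRpush f]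

open Groth.Agent.Lib.Helper18 in
/-- the chart form of Stacks 0B6G / 09UH: pseudo-coherence of `E|_{f⁻¹V}` and of `(Rf_*E)|_V` -/
theorem isPC_chart_iff {V : S.Opens} (hV : IsAffineOpen V) (hU : IsAffineOpen (f ⁻¹ᵁ V))
    (hO : ∀ m : ℤ, DCoh.IsPseudoCoherentD m
      (DCoh.inD S ((pushforward f).obj (Coh.structureModule X))))
    (E : DCoh.D X) (hE : DCoh.IsQCohD E) (m : ℤ) :
    DCoh.IsPseudoCoherentD m ((DCoh.restrictD hU.fromSpec).obj E) ↔
      DCoh.IsPseudoCoherentD m ((DCoh.restrictD hV.fromSpec).obj ((DCoh.Rpush f).obj E)) := by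
  obtain ⟨M, ⟨e1⟩, ⟨e2⟩⟩ := exists_chart_model f hV hU E hE
  have hB : ∀ m' : ℤ, DRing.IsPseudoCoherent Γ(S, V) m'
      (DR.Sg 0 (DR.resM (f.appLE V (f ⁻¹ᵁ V) le_rfl).hom
        (ModuleCat.of Γ(X, f ⁻¹ᵁ V) Γ(X, f ⁻¹ᵁ V)))) := fun m' =>
    (PerfAff.isPC_tildeD_iff Γ(S, V) _ m').1
      (isPC_of_iso (restrictPushUnitIso f hV hU) (isPC_restrict hV.fromSpec (hO m')))
  have h3 := (DR.isPseudoCoherent_restrictD_iff (f.appLE V (f ⁻¹ᵁ V) le_rfl).hom hB m M).1
  have h1 := PerfAff.isPC_tildeD_iff Γ(X, f ⁻¹ᵁ V) M m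
  have h2 := PerfAff.isPC_tildeD_iff Γ(S, V)
    ((DRing.restrictD (f.appLE V (f ⁻¹ᵁ V) le_rfl).hom).obj M) m
  constructor
  · intro h
    exact isPC_of_iso e2 (h2.2 (h3.1 (h1.1 (isPC_of_iso e1.symm h))))
  · intro h
    exact isPC_of_iso e1 (h1.2 (h3.2 (h2.1 (isPC_of_iso e2.symm h))))

/-- **Stacks 0B6G-type statement**: for an affine morphism `f` with `f_*O_X` pseudo-coherent, an object of
`D_QCoh(X)` is `m`-pseudo-coherent iff `Rf_*E` is. -/
theorem isPC_Rpush_iff_of_affine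
    (hO : ∀ m : ℤ, DCoh.IsPseudoCoherentD m
      (DCoh.inD S ((pushforward f).obj (Coh.structureModule X))))
    (E : DCoh.D X) (hE : DCoh.IsQCohD E) (m : ℤ) :
    DCoh.IsPseudoCoherentD m E ↔ DCoh.IsPseudoCoherentD m ((DCoh.Rpush f).obj E) := by
  constructor
  · intro h
    apply isPC_of_locally'
    intro y
    obtain ⟨V, hV, hyV⟩ := QCProps.exists_affine_nbhd y
    have hU : IsAffineOpen (f ⁻¹ᵁ V) := hV.preimage f
    have hy : y ∈ Set.range hV.fromSpec.base := by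
      rw [hV.range_fromSpec]; exact hyV
    obtain ⟨z, hz⟩ := hy
    exact ⟨_, hV.fromSpec, inferInstance, z, hz,
      (isPC_chart_iff f hV hU hO E hE m).1 (isPC_restrict hU.fromSpec h)⟩
  · intro h
    apply isPC_of_locally'
    intro x
    obtain ⟨V, hV, hxV⟩ := QCProps.exists_affine_nbhd (f.base x)
    have hU : IsAffineOpen (f ⁻¹ᵁ V) := hV.preimage f
    have hx : x ∈ Set.range hU.fromSpec.base := by
      rw [hU.range_fromSpec]; exact hxV
    obtain ⟨z, hz⟩ := hx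
    exact ⟨_, hU.fromSpec, inferInstance, z, hz,
      (isPC_chart_iff f hV hU hO E hE m).2 (isPC_restrict hV.fromSpec h)⟩

end Chart

end Groth.Agent.Lib.Helper2.Aff.AffPush
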