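import Groth.Agent.Lib.Helper2.Aff.AffQis
import Groth.Agent.Lib.Helper13.KInjSch
import Groth.Agent.Lib.Helper13.KInjAdj
import Groth.Agent.Lib.Helper14.TildeExact

set_option autoImplicit false
universe u
open CategoryTheory CategoryTheory.Limits AlgebraicGeometry TopologicalSpace Opposite

attribute [local instance] HasDerivedCategory.standard

namespace Groth.Agent.Lib.Helper2.Aff.AffPush

open Groth.Agent.Lib.Helper2 Groth.Agent.Lib.Helper2.Stk Groth.Agent.Lib.Helper2.Aff
  AlgebraicGeometry.Scheme.Modules

local notation "cc" => ComplexShape.up ℤ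

section G

variable {X : Scheme.{u}}

/-- restriction along an isomorphism, as an equivalence -/
noncomputable def restrictEquiv {Y Y' : Scheme.{u}} (e : Y ≅ Y') : Y'.Modules ≌ Y.Modules :=
  CategoryTheory.Equivalence.mk (restrictFunctor e.hom) (restrictFunctor e.inv)
    (restrictFunctorId.symm ≪≫ restrictFunctorCongr (e.inv_hom_id).symm ≪≫
      restrictFunctorComp e.inv e.hom)
    ((restrictFunctorComp e.hom e.inv).symm ≪≫ restrictFunctorCongr e.hom_inv_id ≪≫
      restrictFunctorId)

/-- restriction along any open immersion from an affine chart preserves K-injectives -/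
theorem isKInjective_restrict_fromSpec {U : X.Opens} (hU : IsAffineOpen U)
    (I : CochainComplex X.Modules ℤ) (hI : I.IsKInjective) :
    CochainComplex.IsKInjective
      (((restrictFunctor hU.fromSpec).mapHomologicalComplex cc).obj I) := by
  have h1 := Groth.Agent.Lib.Helper13.KInjSch.isKInjective_restrict U I hI
  haveI := h1
  have adj : restrictFunctor hU.isoSpec.hom ⊣ restrictFunctor hU.isoSpec.inv :=
    (restrictEquiv hU.isoSpec).toAdjunction
  have h2 : CochainComplex.IsKInjective
      (((restrictFunctor hU.isoSpec.inv).mapHomologicalComplex cc).obj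
        (((restrictFunctor U.ι).mapHomologicalComplex cc).obj I)) :=
    Groth.Agent.Lib.Helper13.KInjAdj.isKInjective_map_of_adjoint adj
      (((restrictFunctor U.ι).mapHomologicalComplex cc).obj I)
  let ρ : restrictFunctor hU.fromSpec ≅ restrictFunctor U.ι ⋙ restrictFunctor hU.isoSpec.inv :=
    restrictFunctorComp hU.isoSpec.inv U.ι
  haveI : CochainComplex.IsKInjective
      (((restrictFunctor U.ι ⋙ restrictFunctor hU.isoSpec.inv).mapHomologicalComplex cc).obj I) :=
    h2
  exact CochainComplex.isKInjective_of_iso
    ((NatIso.mapHomologicalComplex ρ cc).app I).symm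

end G

section G2

variable {X : Scheme.{u}}

/-- sections over an affine open, computed on the affine chart -/
lemma fromSpec_image_top {U : X.Opens} (hU : IsAffineOpen U) :
    (op (hU.fromSpec ''ᵁ ⊤) : X.Opensᵒᵖ) = op U := by
  congr 1
  rw [Scheme.Hom.image_top_eq_opensRange, hU.opensRange_fromSpec]

/-- the chart functor computing sections over an affine open -/
noncomputable abbrev chartSec {U : X.Opens} (hU : IsAffineOpen U) : X.Modules ⥤ AddCommGrpCat.{u} :=
  restrictFunctor hU.fromSpec ⋙ Γm Γ(X, U) ⋙ forget₂ (ModuleCat.{u} Γ(X, U)) AddCommGrpCat.{u}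

instance {U : X.Opens} (hU : IsAffineOpen U) : (chartSec hU).Additive := by
  haveI : (restrictFunctor hU.fromSpec).Additive := inferInstance
  haveI : (Γm Γ(X, U)).Additive := inferInstance
  haveI : (forget₂ (ModuleCat.{u} Γ(X, U)) AddCommGrpCat.{u}).Additive := inferInstance
  infer_instance

/-- sections over an affine open, computed on the affine chart -/
noncomputable def secAbChartIso {U : X.Opens} (hU : IsAffineOpen U) :
    chartSec hU ≅ secAb U :=
  NatIso.ofComponents
    (fun M => (show (chartSec hU).obj M ≅ (secAb U).obj M from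
      M.presheaf.mapIso (eqToIso (fromSpec_image_top hU))))
    (fun {M N} φ => by
      exact (φ.mapPresheaf.naturality _).symm)

/-- **sections over affine opens of a K-injective resolution of a complex of quasi-coherent
modules compute the right thing** -/
theorem quasiIso_sections_of_affine {F I : CochainComplex X.Modules ℤ} (s : F ⟶ I) [QuasiIso s]
    (hF : ∀ n, Coh.IsQCoh (F.X n)) (hI : I.IsKInjective) (U : X.Opens) (hU : IsAffineOpen U) :
    QuasiIso (((secAb U).mapHomologicalComplex cc).map s) := by
  haveI := Groth.Agent.Lib.Helper14.preservesFiniteLimits_tilde Γ(X, U)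
  let Lj := restrictFunctor hU.fromSpec
  let t := (Lj.mapHomologicalComplex cc).map s
  haveI : QuasiIso t := inferInstance
  have hJ := isKInjective_restrict_fromSpec hU I hI
  have hF' : ∀ n, (((Lj.mapHomologicalComplex cc).obj F).X n).IsQuasicoherent := fun n => by
    haveI : (F.X n).IsQuasicoherent := hF n
    exact inferInstanceAs ((restrictFunctor hU.fromSpec).obj (F.X n)).IsQuasicoherent
  have h3 := quasiIso_Γm_map Γ(X, U) t hF' hJ
  haveI : QuasiIso (((chartSec hU).mapHomologicalComplex cc).map s) := by
    haveI := h3
    exact inferInstanceAs (QuasiIso (((forget₂ (ModuleCat.{u} Γ(X, U))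
      AddCommGrpCat.{u}).mapHomologicalComplex cc).map
        (((Γm Γ(X, U)).mapHomologicalComplex cc).map t)))
  let e := NatIso.mapHomologicalComplex (secAbChartIso hU) cc
  have hn : ((chartSec hU).mapHomologicalComplex cc).map s ≫ e.hom.app I =
      e.hom.app F ≫ ((secAb U).mapHomologicalComplex cc).map s := e.hom.naturality s
  haveI : QuasiIso (e.hom.app F ≫ ((secAb U).mapHomologicalComplex cc).map s) := by
    rw [← hn]
    infer_instance
  exact quasiIso_of_comp_left (e.hom.app F) _

end G2

section E

variable {X S : Scheme.{u}} (f : X ⟶ S)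

/-- for an affine morphism, `f_*` of a K-injective resolution of a complex of quasi-coherent
modules is a quasi-isomorphism -/
theorem quasiIso_push_of_affine [IsAffineHom f] {F I : CochainComplex X.Modules ℤ} (s : F ⟶ I)
    [QuasiIso s] (hF : ∀ n, Coh.IsQCoh (F.X n)) (hI : I.IsKInjective) :
    QuasiIso (((pushforward f).mapHomologicalComplex cc).map s) := by
  apply quasiIso_of_sections _ S.affineOpens S.isBasis_affineOpens
  intro V hV
  have hU : IsAffineOpen (f ⁻¹ᵁ V) := IsAffineOpen.preimage hV f
  exact quasiIso_sections_of_affine s hF hI (f ⁻¹ᵁ V) hU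

/-- **for an affine morphism `f` and a complex `F` of quasi-coherent modules, `f_* F ⟶ Rf_* F`
is an isomorphism** -/
theorem isIso_unitR_of_affine [IsAffineHom f] [DCoh.HasRpush f] (F : CochainComplex X.Modules ℤ)
    (hq : ∀ n : ℤ, Coh.IsQCoh (F.X n)) :
    IsIso ((unitR f).app ((HomotopyCategory.quotient X.Modules cc).obj F)) := by
  obtain ⟨I, s, hI, hs⟩ := hKinj X F
  haveI := hI
  haveI := hs
  haveI := quasiIso_push_of_affine f s hq hI
  have hn := (unitR f).naturality ((HomotopyCategory.quotient X.Modules cc).map s)
  haveI h1 : IsIso ((unitR f).app ((HomotopyCategory.quotient X.Modules cc).obj I)) :=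
    isIso_unitR_app f I
  haveI h2 : IsIso ((DCoh.pushKh f).map ((HomotopyCategory.quotient X.Modules cc).map s)) := by
    change IsIso (DerivedCategory.Q.map (((pushforward f).mapHomologicalComplex cc).map s))
    rw [DerivedCategory.isIso_Q_map_iff_quasiIso]
    infer_instance
  haveI h3 : IsIso ((DerivedCategory.Qh ⋙ DCoh.Rpush f).map
      ((HomotopyCategory.quotient X.Modules cc).map s)) := by
    haveI : IsIso (DerivedCategory.Qh.map ((HomotopyCategory.quotient X.Modules cc).map s)) := by
      change IsIso (DerivedCategory.Q.map s)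
      rw [DerivedCategory.isIso_Q_map_iff_quasiIso]
      infer_instance
    rw [Functor.comp_map]
    infer_instance
  haveI : IsIso ((unitR f).app ((HomotopyCategory.quotient X.Modules cc).obj F) ≫
      (DerivedCategory.Qh ⋙ DCoh.Rpush f).map
        ((HomotopyCategory.quotient X.Modules cc).map s)) := by
    rw [← hn]
    infer_instance
  exact IsIso.of_isIso_comp_right _ ((DerivedCategory.Qh ⋙ DCoh.Rpush f).map
    ((HomotopyCategory.quotient X.Modules cc).map s))

end E

end Groth.Agent.Lib.Helper2.Aff.AffPush
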