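import Groth.Agent.Lib.Helper2.Stk.Exact
import Groth.Agent.Lib.Helper22.CyclesSeq

set_option autoImplicit false
universe u
open CategoryTheory CategoryTheory.Limits AlgebraicGeometry TopologicalSpace Opposite

namespace Groth.Agent.Lib.Helper2.Aff.AffPush

open Groth.Agent.Lib.Helper2.Stk

local notation "cc" => ComplexShape.up ℤ

variable {S : Scheme.{u}}

/-- a complex of `O_S`-modules whose complexes of sections over the members of a basis are exact
is exact -/
theorem exactAt_of_sections (W : CochainComplex S.Modules ℤ) (B : Set S.Opens)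
    (hB : Opens.IsBasis B) (j : ℤ)
    (h : ∀ V ∈ B, ∀ (z : Γ(W.X j, V)), (W.d j (j + 1)).app V z = 0 →
      ∃ w : Γ(W.X (j - 1), V), (W.d (j - 1) j).app V w = z) : W.ExactAt j := by
  rw [exactAt_iff_stalks]
  intro x
  rw [HomologicalComplex.exactAt_iff' _ (j - 1) j (j + 1) (by simp) (by simp),
    ShortComplex.moduleCat_exact_iff]
  intro z' hz'
  obtain ⟨V₀, hx₀, z, rfl⟩ := TopCat.Presheaf.exists_germ_eq (W.X j).presheaf z'
  have h1 : (W.X (j + 1)).presheaf.germ V₀ x hx₀ ((W.d j (j + 1)).app V₀ z) =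
      (W.X (j + 1)).presheaf.germ V₀ x hx₀ 0 := by
    rw [map_zero]
    exact (DerSch.stalkFunctor_map_germ x (W.d j (j + 1)) V₀ hx₀ z).symm.trans hz'
  obtain ⟨V₂, hx₂, hV₂, hle, hle', e⟩ :=
    TopCat.Presheaf.germ_eq_of_isBasis hB (W.X (j + 1)).presheaf x hx₀ hx₀ h1
  have h2 : (W.d j (j + 1)).app V₂ ((W.X j).presheaf.map (homOfLE hle).op z) = 0 := by
    have hn := congrArg (fun φ => φ z) (congrArg (fun t => t.hom)
      ((W.d j (j + 1)).mapPresheaf.naturality (homOfLE hle).op))
    refine Eq.trans hn ?_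
    refine Eq.trans e ?_
    exact map_zero _
  obtain ⟨w, hw⟩ := h V₂ hV₂ _ h2
  refine ⟨(W.X (j - 1)).presheaf.germ V₂ x hx₂ w, ?_⟩
  refine Eq.trans (DerSch.stalkFunctor_map_germ x (W.d (j - 1) j) V₂ hx₂ w) ?_
  rw [hw]
  exact TopCat.Presheaf.germ_res_apply (W.X j).presheaf (homOfLE hle) x hx₂ z

/-- sections over `V`, as abelian groups -/
noncomputable abbrev secAb (V : S.Opens) : S.Modules ⥤ AddCommGrpCat.{u} :=
  Scheme.Modules.toPresheaf S ⋙ (evaluation _ _).obj (op V)

instance (V : S.Opens) : (secAb V).Additive where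

/-- a morphism of complexes of `O_S`-modules inducing quasi-isomorphisms on sections over the
members of a basis is a quasi-isomorphism -/
theorem quasiIso_of_sections {C D : CochainComplex S.Modules ℤ} (φ : C ⟶ D) (B : Set S.Opens)
    (hB : Opens.IsBasis B)
    (h : ∀ V ∈ B, QuasiIso (((secAb V).mapHomologicalComplex cc).map φ)) : QuasiIso φ := by
  rw [Groth.Agent.Lib.Helper22.quasiIso_iff_exactAt_mappingCone]
  intro n
  apply exactAt_of_sections (CochainComplex.mappingCone φ) B hB n
  intro V hV z hz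
  have h1 := (Groth.Agent.Lib.Helper22.quasiIso_iff_exactAt_mappingCone _).1 (h V hV) n
  have h2 : (((secAb V).mapHomologicalComplex cc).obj (CochainComplex.mappingCone φ)).ExactAt n :=
    h1.of_iso (CochainComplex.mappingCone.mapHomologicalComplexIso φ (secAb V)).symm
  rw [HomologicalComplex.exactAt_iff' _ (n - 1) n (n + 1) (by simp) (by simp),
    ShortComplex.ab_exact_iff] at h2
  exact h2 z hz

end Groth.Agent.Lib.Helper2.Aff.AffPush
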