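import Groth.Agent.Lib.Helper2.Mon.TensorSymm
import Groth.Agent.Lib.Helper2.Aff.TensorQCoh
import Groth.Agent.Lib.Helper2.Aff.QCohSerre
import Groth.Agent.Lib.Helper2.Stk.LTensorCx
import Groth.Agent.Lib.Helper2.Aff.LpullQCoh
import Groth.Agent.Lib.Helper2.Stk.Tilde
import Groth.Agent.Lib.Helper2.Tot.DRingSymm
import Groth.Agent.Lib.Helper2.Stk.PullKFlat

/-!
# The derived tensor product preserves `D_QCoh` (helper2)
-/

set_option autoImplicit false
universe u
open CategoryTheory CategoryTheory.Limits MonoidalCategory AlgebraicGeometry Opposite TopologicalSpace HomologicalComplex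
open Groth.Agent.Lib.Helper2 Groth.Agent.Lib.Helper2.Tot Groth.Agent.Lib.Helper2.Stk

attribute [local instance] HasDerivedCategory.standard

namespace Groth.Agent.Lib.Helper2.Mon

local notation "cc" => ComplexShape.up ℤ

/-- homology of a complex with terms in a weak Serre subcategory lies in it -/
lemma prop_homology_of_isWeakSerre {A : Type*} [Category A] [Abelian A] (P : ObjectProperty A)
    [WSerre.IsWeakSerre P] (K : CochainComplex A ℤ) (hK : ∀ i, P (K.X i)) (i : ℤ) :
    P (K.homology i) := by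
  have h1 : P (kernel (K.sc i).g) := P.prop_kernel _ (hK _) (hK _)
  have h2 : P (cokernel (kernel.lift (K.sc i).g (K.sc i).f (K.sc i).zero)) :=
    P.prop_cokernel _ (hK _) h1
  exact P.prop_of_iso (K.sc i).homologyIsoCokernelLift.symm h2

variable {X : Scheme.{u}}

/-- `Q(P ⊗ G)` only depends on the class of the Good complex `P` in the derived category -/
theorem nonempty_tensor_iso_of_good {P P' : CochainComplex X.Modules ℤ} (hP : LDer.DC.Good P)
    (hP' : LDer.DC.Good P') (e : DCoh.toD X P ≅ DCoh.toD X P') (G : CochainComplex X.Modules ℤ) :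
    Nonempty (DCoh.toD X ((DCoh.tensorCx.obj P).obj G) ≅ DCoh.toD X ((DCoh.tensorCx.obj P').obj G)) := by
  haveI := LT.hasLTensorCx G
  exact ⟨(LT.LTensorCxIso G P hP).symm ≪≫ (DCoh.LTensorCx G).mapIso e ≪≫ LT.LTensorCxIso G P' hP'⟩

/-- `Q(P ⊗ G)` only depends on the class of `G` in the derived category when `P` is Good -/
theorem nonempty_tensor_iso_right {P : CochainComplex X.Modules ℤ} (hP : LDer.DC.Good P)
    {G G' : CochainComplex X.Modules ℤ} (e : DCoh.toD X G ≅ DCoh.toD X G') :
    Nonempty (DCoh.toD X ((DCoh.tensorCx.obj P).obj G) ≅ DCoh.toD X ((DCoh.tensorCx.obj P).obj G')) := by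
  haveI := LT.hasLTensorCx P
  have hk : KFlat (DCoh.tensorBi (X := X)) P := (good_iff_kflat P).1 hP
  haveI h1 := LT.isIso_counitT_app_of_kflat P hk G
  haveI h2 := LT.isIso_counitT_app_of_kflat P hk G'
  exact ⟨DerivedCategory.Q.mapIso (symmCxIso G P) ≪≫ (asIso ((LT.counitT P).app G)).symm ≪≫
    (DCoh.LTensorCx P).mapIso e ≪≫ asIso ((LT.counitT P).app G') ≪≫
    DerivedCategory.Q.mapIso (symmCxIso P G')⟩


section Affine
open Groth.Agent.Lib.Helper2.Aff

variable (R : CommRingCat.{u})

/-- every object of `D_QCoh(Spec R)` is represented by `A~` for a K-flat complex `A` of `R`-modules -/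
theorem exists_tilde_model (K : DCoh.D (Spec R)) (hK : DCoh.IsQCohD K) :
    ∃ A : CochainComplex (ModuleCat.{u} R) ℤ, KFlat (DR.T R) A ∧
      Nonempty (DCoh.toD (Spec R) (((tilde.functor R).mapHomologicalComplex cc).obj A) ≅ K) := by
  haveI := Groth.Agent.Lib.Helper14.preservesFiniteLimits_tilde R
  obtain ⟨M, ⟨eM⟩⟩ := ((tildeD_fullyFaithful_essImage R).2.2 K).1 hK
  obtain ⟨A, f, hA, _, _, hf, _⟩ := Tot.DR.exists_resolution (DerivedCategory.Q.objPreimage M)
  haveI : IsIso (DerivedCategory.Q.map f) := (DerivedCategory.isIso_Q_map_iff_quasiIso _ f).2 hf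
  refine ⟨A, hA, ⟨((tilde.functor R).mapDerivedCategoryFactors.app A).symm ≪≫
    (DCoh.tildeD R).mapIso (asIso (DerivedCategory.Q.map f) ≪≫
      DerivedCategory.Q.objObjPreimageIso M) ≪≫ eM⟩⟩

/-- the terms of a tensor product of complexes of quasi-coherent modules on `Spec R` are
quasi-coherent -/
lemma isQCoh_tensorCx_X (K₁ K₂ : CochainComplex (Spec R).Modules ℤ)
    (h₁ : ∀ i, (K₁.X i).IsQuasicoherent) (h₂ : ∀ i, (K₂.X i).IsQuasicoherent) (n : ℤ) :
    (((DCoh.tensorCx.obj K₁).obj K₂).X n).IsQuasicoherent := by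
  let f : (ComplexShape.π cc cc cc) ⁻¹' {n} → (Spec R).Modules :=
    fun a => ((DCoh.tensorBi (X := Spec R)).obj (K₁.X a.1.1)).obj (K₂.X a.1.2)
  have hc := GradedObject.isColimitCofanMapObj
    (((((DCoh.tensorBi (X := Spec R)).mapBifunctorHomologicalComplex cc cc).obj K₁).obj
      K₂).toGradedObject) (ComplexShape.π cc cc cc) n
  have h3 : (∐ f).IsQuasicoherent := by
    apply Groth.Agent.Lib.Helper14.isQuasicoherent_colimit
    rintro ⟨a⟩
    haveI := h₁ a.1.1
    haveI := h₂ a.1.2
    exact isQCoh_tensor_spec R _ _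
  exact isQCoh_of_iso R (IsColimit.coconePointUniqueUpToIso (colimit.isColimit _) hc) h3

/-- `A~ ⊗ B~` has quasi-coherent cohomology sheaves -/
theorem isQCohD_tensor_tilde (A B : CochainComplex (ModuleCat.{u} R) ℤ) :
    DCoh.IsQCohD (DCoh.toD (Spec R) ((DCoh.tensorCx.obj
      (((tilde.functor R).mapHomologicalComplex cc).obj A)).obj
      (((tilde.functor R).mapHomologicalComplex cc).obj B))) := by
  intro i
  haveI := isWeakSerre_isQCoh (Spec R)
  have h := prop_homology_of_isWeakSerre (fun M : (Spec R).Modules => Coh.IsQCoh M)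
    ((DCoh.tensorCx.obj (((tilde.functor R).mapHomologicalComplex cc).obj A)).obj
      (((tilde.functor R).mapHomologicalComplex cc).obj B))
    (fun n => isQCoh_tensorCx_X R _ _ (fun i => inferInstanceAs ((tilde.functor R).obj _).IsQuasicoherent)
      (fun i => inferInstanceAs ((tilde.functor R).obj _).IsQuasicoherent) n) i
  exact Aff.isQCoh_of_iso ((DerivedCategory.homologyFunctorFactors _ i).app _).symm h

/-- the affine case: the tensor product of a Good complex and a complex, both with quasi-coherent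
cohomology, has quasi-coherent cohomology -/
theorem isQCohD_tensor_spec (G₁ G₂ : CochainComplex (Spec R).Modules ℤ) (hG₁ : LDer.DC.Good G₁)
    (h₁ : DCoh.IsQCohD (DCoh.toD (Spec R) G₁)) (h₂ : DCoh.IsQCohD (DCoh.toD (Spec R) G₂)) :
    DCoh.IsQCohD (DCoh.toD (Spec R) ((DCoh.tensorCx.obj G₁).obj G₂)) := by
  obtain ⟨A₁, hA₁, ⟨e₁⟩⟩ := exists_tilde_model R _ h₁
  obtain ⟨A₂, hA₂, ⟨e₂⟩⟩ := exists_tilde_model R _ h₂
  have hT₁ : LDer.DC.Good (((tilde.functor R).mapHomologicalComplex cc).obj A₁) :=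
    (good_iff_kflat _).2 (kflat_tilde R A₁ hA₁)
  obtain ⟨e3⟩ := nonempty_tensor_iso_of_good hT₁ hG₁ e₁ G₂
  obtain ⟨e4⟩ := nonempty_tensor_iso_right hT₁ e₂
  have h := isQCohD_tensor_tilde R A₁ A₂
  intro i
  exact Aff.isQCoh_of_iso ((DerivedCategory.homologyFunctor _ i).mapIso (e4 ≪≫ e3)) (h i)

end Affine

/-- restriction along an open immersion preserves Good complexes -/
theorem good_restrict {U : Scheme.{u}} (j : U ⟶ X) [IsOpenImmersion j]
    (P : CochainComplex X.Modules ℤ) (hP : LDer.DC.Good P) :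
    LDer.DC.Good (((Scheme.Modules.restrictFunctor j).mapHomologicalComplex cc).obj P) := by
  rw [good_iff_kflat] at hP ⊢
  exact KFlat.of_iso ((NatIso.mapHomologicalComplex
    (Scheme.Modules.restrictFunctorIsoPullback j) cc).app P).symm (kflat_pullback j P hP)

/-- **the derived tensor product preserves `D_QCoh`** (complex level) -/
theorem isQCohD_tensorCx (P F : CochainComplex X.Modules ℤ) (hP : LDer.DC.Good P)
    (h₁ : DCoh.IsQCohD (DCoh.toD X P)) (h₂ : DCoh.IsQCohD (DCoh.toD X F)) :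
    DCoh.IsQCohD (DCoh.toD X ((DCoh.tensorCx.obj P).obj F)) := by
  intro i
  apply Groth.Agent.Lib.Helper3.QCProps.isQuasicoherent_of_charts
  intro x
  obtain ⟨U, hU, hxU⟩ := Groth.Agent.Lib.Helper3.QCProps.exists_affine_nbhd x
  refine ⟨U, hU, hxU, ?_⟩
  let j := hU.fromSpec
  let rj := (Scheme.Modules.restrictFunctor j).mapHomologicalComplex cc
  have hq := isQCohD_tensor_spec _ (rj.obj P) (rj.obj F) (good_restrict j P hP)
    (fun i => Aff.isQCoh_of_iso ((DerivedCategory.homologyFunctor _ i).mapIso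
        ((Scheme.Modules.restrictFunctor j).mapDerivedCategoryFactors.app P))
      (Aff.isQCohD_restrict j _ h₁ i))
    (fun i => Aff.isQCoh_of_iso ((DerivedCategory.homologyFunctor _ i).mapIso
        ((Scheme.Modules.restrictFunctor j).mapDerivedCategoryFactors.app F))
      (Aff.isQCohD_restrict j _ h₂ i))
  have e : (Scheme.Modules.restrictFunctor j).mapDerivedCategory.obj
      (DCoh.toD X ((DCoh.tensorCx.obj P).obj F)) ≅
      DCoh.toD _ ((DCoh.tensorCx.obj (rj.obj P)).obj (rj.obj F)) :=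
    (Scheme.Modules.restrictFunctor j).mapDerivedCategoryFactors.app _ ≪≫
      DerivedCategory.Q.mapIso (resTensorCxIso j P F).symm
  exact Aff.isQCoh_of_iso (((DerivedCategory.homologyFunctor _ i).mapIso e).symm ≪≫
    TExactIso.mapDerivedCategoryHomologyIso (Scheme.Modules.restrictFunctor j) _ i) (hq i)

end Groth.Agent.Lib.Helper2.Mon
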