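import Groth.Agent.Lib.Helper2.Aff.TildeEquiv
import Groth.Agent.Lib.Helper2.Aff.TensorQCohD
import Groth.Agent.Lib.Helper2.Aff.SecQis

set_option autoImplicit false
universe u
open CategoryTheory CategoryTheory.Limits AlgebraicGeometry TopologicalSpace Opposite

attribute [local instance] HasDerivedCategory.standard

namespace Groth.Agent.Lib.Helper2.Aff.AffPush

open Groth.Agent.Lib.Helper2 Groth.Agent.Lib.Helper2.Stk Groth.Agent.Lib.Helper2.Aff

local notation "cc" => ComplexShape.up ℤ

section U

variable (R : CommRingCat.{u}) [PreservesFiniteLimits (tilde.functor R)]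

/-- a complex of quasi-coherent modules has quasi-coherent cohomology -/
theorem isQCohD_Q_of_qcoh {X : Scheme.{u}} (F : CochainComplex X.Modules ℤ)
    (hF : ∀ n, Coh.IsQCoh (F.X n)) : DCoh.IsQCohD (DerivedCategory.Q.obj F) := fun i =>
  isQCoh_of_iso ((DerivedCategory.homologyFunctorFactors X.Modules i).app F).symm
    (Mon.prop_homology_of_isWeakSerre (fun M : X.Modules => Coh.IsQCoh M) F hF i)

/-- on an affine scheme, global sections of a quasi-isomorphism from a complex of quasi-coherent
modules to a K-injective complex form a quasi-isomorphism -/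
theorem quasiIso_Γm_map {F' J : CochainComplex (SpecR R).Modules ℤ} (t : F' ⟶ J)
    [QuasiIso t] (hF : ∀ n, (F'.X n).IsQuasicoherent) (hJ : J.IsKInjective) :
    QuasiIso (((Γm R).mapHomologicalComplex cc).map t) := by
  haveI : IsIso (DerivedCategory.Q.map t) :=
    (DerivedCategory.isIso_Q_map_iff_quasiIso _ t).2 inferInstance
  have hQ : DCoh.IsQCohD (DerivedCategory.Q.obj J) := fun i =>
    isQCoh_of_iso ((DerivedCategory.homologyFunctor _ i).mapIso (asIso (DerivedCategory.Q.map t)))
      (isQCohD_Q_of_qcoh F' hF i)
  have hεJ : IsIso ((adjD R).counit.app (DerivedCategory.Q.obj J)) :=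
    (isIso_unit_counit R).2 _ hQ
  have hcJ : QuasiIso (KInj.counitCx (tilde.adjunction (R := R)) J) :=
    (KInj.isIso_counit_app_Q_iff (tilde.adjunction (R := R)) (Stk.hKinj (SpecR R)) (RΓ R) (βΓ R)
      J hJ).1 hεJ
  have hcF : IsIso (KInj.counitCx (tilde.adjunction (R := R)) F') := by
    haveI : ∀ n, IsIso ((KInj.counitCx (tilde.adjunction (R := R)) F').f n) := fun n => by
      haveI := hF n
      exact inferInstanceAs (IsIso (Scheme.Modules.fromTildeΓ (F'.X n)))
    exact HomologicalComplex.Hom.isIso_of_components _
  have hnat : KInj.counitCx (tilde.adjunction (R := R)) F' ≫ t =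
      ((tilde.functor R).mapHomologicalComplex cc).map (((Γm R).mapHomologicalComplex cc).map t) ≫
        KInj.counitCx (tilde.adjunction (R := R)) J :=
    ((DerivedAdj.mapHomologicalComplexAdj (tilde.adjunction (R := R)) cc).counit.naturality t).symm
  haveI : QuasiIso (((tilde.functor R).mapHomologicalComplex cc).map
      (((Γm R).mapHomologicalComplex cc).map t)) := by
    haveI : QuasiIso (((tilde.functor R).mapHomologicalComplex cc).map
      (((Γm R).mapHomologicalComplex cc).map t) ≫
        KInj.counitCx (tilde.adjunction (R := R)) J) := by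
      rw [← hnat]
      infer_instance
    exact quasiIso_of_comp_right _ (KInj.counitCx (tilde.adjunction (R := R)) J)
  haveI : (tilde.functor R).ReflectsIsomorphisms :=
    (tilde.fullyFaithfulFunctor (R := R)).reflectsIsomorphisms
  exact (HomologicalComplex.quasiIso_map_iff_of_preservesHomology _ (tilde.functor R)).1
    inferInstance

end U

end Groth.Agent.Lib.Helper2.Aff.AffPush
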