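import Groth.Agent.Lib.Helper2.Aff.CoreflQCoh
import Groth.Agent.Lib.Helper13.GoodMap
import Groth.Agent.Lib.Helper13.PerfLocal
import Groth.Agent.Lib.Helper13.OpenEquivSupp
import Groth.Agent.Lib.Helper13.QCohLoc

/-!
# Extending approximations by perfect complexes from an open subscheme (helper2)

`Good m` is local for a two-element open cover; objects with cohomology supported off an open
restrict to zero; approximation on `U` by a perfect complex supported on a closed `T ⊆ U`
extends to `X` via `Rj_*`.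
-/

set_option autoImplicit false
universe u
open CategoryTheory CategoryTheory.Limits AlgebraicGeometry TopologicalSpace Opposite
  CategoryTheory.Pretriangulated

attribute [local instance] HasDerivedCategory.standard

namespace Groth.Agent.Lib.Helper2.Aff.ApproxOpen

open Groth.Agent.Lib.Helper2 Groth.Agent.Lib.Helper2.Stk Groth.Agent.Lib.Helper2.Aff
  AlgebraicGeometry.Scheme.Modules Groth.Agent.Lib.Helper13 Groth.Agent.Lib.Helper3
  Groth.Agent.Lib.Helper2.Aff.HomVan Groth.Agent.Lib.Helper13.GoodMap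

attribute [local instance] Groth.Agent.Lib.Helper2.Stk.hasRpush

variable {X : Scheme.{u}}

/-- an object whose cohomology sheaves are supported off `W` restricts to zero on `W` -/
lemma isZero_restrictD_of_support (W : X.Opens) (K : DCoh.D X)
    (h : ∀ i : ℤ, CohB1.support (DCoh.HD K i) ⊆ (↑W : Set X)ᶜ) :
    IsZero ((DCoh.restrictD W.ι).obj K) := by
  apply PerfLocal.isZero_of_isZero_homology
  intro i
  obtain ⟨e⟩ := OpenEquivSupp.nonempty_HD_restrictD_iso W.ι K i
  exact IsZero.of_iso ((QCohLoc.isZero_restrict_iff W _).2 (h i)) e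

/-- a map between objects with vanishing cohomology in degrees `≥ m` is `m`-good -/
lemma good_of_isZero {Y : Scheme.{u}} {K L : DCoh.D Y} (f : K ⟶ L) (m : ℤ)
    (hK : ∀ i : ℤ, m ≤ i → IsZero (DCoh.HD K i)) (hL : ∀ i : ℤ, m ≤ i → IsZero (DCoh.HD L i)) :
    Good m f := by
  refine ⟨fun i hi => ?_, ?_⟩
  · exact ⟨⟨0, (hK i hi.le).eq_of_src _ _, (hL i hi.le).eq_of_src _ _⟩⟩
  · exact ⟨fun g h _ => (hL m le_rfl).eq_of_src _ _⟩

/-- `Good m` can be checked on a two-element open cover -/
theorem good_of_cover (U V : X.Opens) (hUV : U ⊔ V = ⊤) {K L : DCoh.D X} (f : K ⟶ L) (m : ℤ)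
    (hU : Good m ((DCoh.restrictD U.ι).map f)) (hV : Good m ((DCoh.restrictD V.ι).map f)) :
    Good m f := by
  have hiso : ∀ (W : X.Opens) (i : ℤ),
      IsIso ((DerivedCategory.homologyFunctor _ i).map ((DCoh.restrictD W.ι).map f)) →
      IsIso ((restrictFunctor W.ι).map ((DerivedCategory.homologyFunctor _ i).map f)) := by
    intro W i h
    exact (NatIso.isIso_map_iff (homologyDIso (restrictFunctor W.ι) i) f).1 h
  have hepi : ∀ (W : X.Opens) (i : ℤ),
      Epi ((DerivedCategory.homologyFunctor _ i).map ((DCoh.restrictD W.ι).map f)) →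
      Epi ((restrictFunctor W.ι).map ((DerivedCategory.homologyFunctor _ i).map f)) := by
    intro W i h
    exact (epi_map_iff_of_natIso (homologyDIso (restrictFunctor W.ι) i) f).1 h
  refine ⟨fun i hi => ?_, ?_⟩
  · haveI : ∀ b : Bool, IsIso ((restrictFunctor (SuppOpen.cov U V b).ι).map
        ((DerivedCategory.homologyFunctor _ i).map f)) := by
      intro b
      cases b
      · exact hiso V i (hV.1 i hi)
      · exact hiso U i (hU.1 i hi)
    exact (SuppOpen.jointly U V hUV).isIso _
  · rw [Preadditive.epi_iff_isZero_cokernel]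
    have hz : ∀ W : X.Opens,
        Epi ((restrictFunctor W.ι).map ((DerivedCategory.homologyFunctor _ m).map f)) →
        CohB1.support (cokernel ((DerivedCategory.homologyFunctor _ m).map f)) ⊆
          (↑W : Set X)ᶜ := by
      intro W h
      rw [← QCohLoc.isZero_restrict_iff]
      haveI := h
      exact IsZero.of_iso (Preadditive.epi_iff_isZero_cokernel _ |>.1 h)
        (PreservesCokernel.iso (restrictFunctor W.ι) _)
    exact SuppOpen.isZero_of_support U V hUV _ (hz U (hepi U m hU.2)) (hz V (hepi V m hV.2))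

/-- **extension of approximations from an open subscheme** -/
theorem approximation_of_open (U : X.Opens) (T : Set ↥X) (hT : IsClosed T)
    (hTU : T ⊆ (U : Set ↥X)) (E : DCoh.D X) (m : ℤ)
    (P : DCoh.D (U : Scheme.{u})) (α : P ⟶ (DCoh.restrictD U.ι).obj E) (hP : DCoh.IsPerfect P)
    (hPs : ∀ i : ℤ, CohB1.support (DCoh.HD P i) ⊆ {v : ↥(U : Scheme.{u}) | U.ι.base v ∈ T})
    (hα : Good m α)
    (hsupp : ∀ i : ℤ, m ≤ i → CohB1.support (DCoh.HD E i) ⊆ T) :
    ∃ (P' : DCoh.D X) (α' : P' ⟶ E), DCoh.IsPerfect P' ∧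
      (∀ i : ℤ, CohB1.support (DCoh.HD P' i) ⊆ T) ∧ Good m α' := by
  classical
  let TU : Set (U : Scheme.{u}) := {v | U.ι.base v ∈ T}
  have hjT : (fun x : (U : Scheme.{u}) => U.ι.base x) '' TU = T := by
    ext x
    constructor
    · rintro ⟨y, hy, rfl⟩
      exact hy
    · intro hx
      exact ⟨⟨x, hTU hx⟩, hx, rfl⟩
  let V : X.Opens := ⟨Tᶜ, hT.isOpen_compl⟩
  have hUV : U ⊔ V = ⊤ := by
    rw [eq_top_iff]
    intro x _
    show x ∈ ((U ⊔ V : X.Opens) : Set X)
    rw [TopologicalSpace.Opens.coe_sup]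
    by_cases hx : x ∈ T
    · exact Or.inl (hTU hx)
    · exact Or.inr hx
  have hP' : DCoh.IsPerfect ((DCoh.Rpush U.ι).obj P) :=
    PerfLocal.isPerfect_Rpush U P hP TU (by rw [hjT]; exact hT) hPs
  -- supports of the direct image
  have hP's : ∀ i : ℤ, CohB1.support (DCoh.HD ((DCoh.Rpush U.ι).obj P) i) ⊆ T := by
    intro i
    have h1 := OpenEquivSupp.isZero_restrict_HD_Rpush U.ι V P (fun n => by
      rw [QCohLoc.isZero_restrict_iff]
      intro v hv hv'
      exact hv' (hPs n hv)) i
    rw [QCohLoc.isZero_restrict_iff] at h1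
    intro x hx
    by_contra hxT
    exact h1 hx hxT
  -- the adjunction `j^* ⊣ Rj_*`, with invertible counit
  let adj := Corefl.adjOpen U.ι
  obtain ⟨hfull, hfaith⟩ := OpenFF.full_faithful_Rpush U.ι
  haveI := hfull
  haveI := hfaith
  haveI : IsIso adj.counit := inferInstance
  obtain ⟨cs, tri⟩ := exists_isTriangulated_Rpush U.ι
  -- the cone of the unit
  obtain ⟨C, g, h, hTri⟩ := distinguished_cocone_triangle (adj.unit.app E)
  have hLη : IsIso ((DCoh.restrictD U.ι).map (adj.unit.app E)) := by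
    have h2 : (DCoh.restrictD U.ι).map (adj.unit.app E) ≫
        adj.counit.app ((DCoh.restrictD U.ι).obj E) = 𝟙 ((DCoh.restrictD U.ι).obj E) :=
      adj.left_triangle_components E
    haveI : IsIso ((DCoh.restrictD U.ι).map (adj.unit.app E) ≫
        adj.counit.app ((DCoh.restrictD U.ι).obj E)) := by
      rw [h2]
      exact IsIso.id _
    exact IsIso.of_isIso_comp_right _ (adj.counit.app ((DCoh.restrictD U.ι).obj E))
  have hCU : IsZero ((DCoh.restrictD U.ι).obj C) := by
    have hd := (DCoh.restrictD U.ι).map_distinguished _ hTri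
    exact (Triangle.isZero₃_iff_isIso₁ _ hd).2 hLη
  have hPV : IsZero ((DCoh.restrictD V.ι).obj ((DCoh.Rpush U.ι).obj P)) :=
    isZero_restrictD_of_support V _ (fun i x hx hxV => hxV (hP's i hx))
  have hPUV : IsZero ((DCoh.restrictD (U ⊓ V).ι).obj ((DCoh.Rpush U.ι).obj P)) :=
    isZero_restrictD_of_support (U ⊓ V) _ (fun i x hx hxV => hxV.2 (hP's i hx))
  have hvan : ∀ φ : (DCoh.Rpush U.ι).obj P ⟶ C, φ = 0 := by
    intro φ
    apply hom_eq_zero_of_vanJ_top
    have hv := vanJ_sup U V ((DCoh.Rpush U.ι).obj P) C (fun ψ => hCU.eq_of_tgt _ _)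
      (fun ψ => hPV.eq_of_src _ _) (fun ψ => hPUV.eq_of_src _ _)
    rw [hUV] at hv
    exact hv
  obtain ⟨α', hα''⟩ : ∃ α' : (DCoh.Rpush U.ι).obj P ⟶ E,
      (DCoh.Rpush U.ι).map α = α' ≫ adj.unit.app E :=
    Triangle.coyoneda_exact₂ _ hTri ((DCoh.Rpush U.ι).map α) (hvan _)
  refine ⟨(DCoh.Rpush U.ι).obj P, α', hP', hP's, ?_⟩
  -- on `U`
  have key : (DCoh.restrictD U.ι).map α' = adj.counit.app P ≫ α := by
    have h1 : (DCoh.restrictD U.ι).map α' ≫ (DCoh.restrictD U.ι).map (adj.unit.app E) =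
        (DCoh.restrictD U.ι).map ((DCoh.Rpush U.ι).map α) := by
      rw [← Functor.map_comp, ← hα'']
    have h2 : (DCoh.restrictD U.ι).map (adj.unit.app E) ≫
        adj.counit.app ((DCoh.restrictD U.ι).obj E) = 𝟙 ((DCoh.restrictD U.ι).obj E) :=
      adj.left_triangle_components E
    have h3 : (DCoh.restrictD U.ι).map ((DCoh.Rpush U.ι).map α) ≫
        adj.counit.app ((DCoh.restrictD U.ι).obj E) = adj.counit.app P ≫ α :=
      adj.counit.naturality α
    calc (DCoh.restrictD U.ι).map α'
        = (DCoh.restrictD U.ι).map α' ≫ ((DCoh.restrictD U.ι).map (adj.unit.app E) ≫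
            adj.counit.app ((DCoh.restrictD U.ι).obj E)) := by rw [h2, Category.comp_id]
      _ = (DCoh.restrictD U.ι).map ((DCoh.Rpush U.ι).map α) ≫
            adj.counit.app ((DCoh.restrictD U.ι).obj E) := by rw [← Category.assoc, h1]
      _ = adj.counit.app P ≫ α := h3
  have hGU : Good m ((DCoh.restrictD U.ι).map α') := by
    rw [key]
    exact Good.iso_comp _ hα
  have hGV : Good m ((DCoh.restrictD V.ι).map α') := by
    apply good_of_isZero
    · intro i _
      exact (DerivedCategory.homologyFunctor _ i).map_isZero hPV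
    · intro i hi
      obtain ⟨e⟩ := OpenEquivSupp.nonempty_HD_restrictD_iso V.ι E i
      exact IsZero.of_iso ((QCohLoc.isZero_restrict_iff V _).2
        (fun x hx hxV => hxV (hsupp i hi hx))) e
  exact good_of_cover U V hUV α' m hGU hGV

end Groth.Agent.Lib.Helper2.Aff.ApproxOpen
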