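import Groth.Agent.Lib.Helper2.Aff.TildePush
import Groth.Agent.Lib.Helper13.KInjDerived
import Groth.Agent.Lib.Helper2.Mon.ProjClosed

set_option autoImplicit false
universe u
open CategoryTheory CategoryTheory.Limits AlgebraicGeometry TopologicalSpace Opposite

attribute [local instance] HasDerivedCategory.standard

namespace Groth.Agent.Lib.Helper2.Aff.AffPush

open Groth.Agent.Lib.Helper2 Groth.Agent.Lib.Helper2.Stk Groth.Agent.Lib.Helper2.Aff
  AlgebraicGeometry.Scheme.Modules Groth.Agent.Lib.Helper13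

local notation "cc" => ComplexShape.up ℤ

section BC

/-- restriction along the inverse of an isomorphism is pushforward -/
noncomputable def restrictIsoPush {Y Y' : Scheme.{u}} (e : Y ≅ Y') :
    restrictFunctor e.inv ≅ pushforward e.hom :=
  Adjunction.rightAdjointUniq (restrictEquiv e).toAdjunction (restrictAdjunction e.hom)

variable {X S : Scheme.{u}} (f : X ⟶ S) {V : S.Opens} (hV : IsAffineOpen V)
  (hU : IsAffineOpen (f ⁻¹ᵁ V))

/-- the induced map of affine charts -/
noncomputable abbrev chartMap : Spec Γ(X, f ⁻¹ᵁ V) ⟶ Spec Γ(S, V) :=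
  Spec.map (f.appLE V (f ⁻¹ᵁ V) le_rfl)

lemma chartMap_fromSpec : chartMap f ≫ hV.fromSpec = hU.fromSpec ≫ f :=
  IsAffineOpen.SpecMap_appLE_fromSpec f hV hU le_rfl

lemma chart_square :
    hU.isoSpec.inv ≫ (f ∣_ V) = chartMap f ≫ hV.isoSpec.inv := by
  rw [← cancel_mono V.ι, Category.assoc, Category.assoc, morphismRestrict_ι]
  exact (chartMap_fromSpec f hV hU).symm

lemma chart_square' :
    (f ∣_ V) ≫ hV.isoSpec.hom = hU.isoSpec.hom ≫ chartMap f := by
  have h := chart_square f hV hU
  rw [← cancel_epi hU.isoSpec.inv, ← Category.assoc, h, Category.assoc, Iso.inv_hom_id,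
    Category.comp_id, Iso.inv_hom_id_assoc]

/-- `(f_* M)|_{Spec A} ≅ f'_*(M|_{Spec B})` for the chart square over an affine open -/
noncomputable def pushChartIso :
    pushforward f ⋙ restrictFunctor hV.fromSpec ≅
      restrictFunctor hU.fromSpec ⋙ pushforward (chartMap f) :=
  Functor.isoWhiskerLeft (pushforward f)
      (restrictFunctorComp hV.isoSpec.inv V.ι ≪≫
        Functor.isoWhiskerLeft (restrictFunctor V.ι) (restrictIsoPush hV.isoSpec)) ≪≫
    (Functor.associator _ _ _).symm ≪≫
    Functor.isoWhiskerRight (KInjDerived.pushRestrictIso f V) (pushforward hV.isoSpec.hom) ≪≫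
    Functor.associator _ _ _ ≪≫
    Functor.isoWhiskerLeft (restrictFunctor (f ⁻¹ᵁ V).ι)
      (pushforwardComp (f ∣_ V) hV.isoSpec.hom ≪≫
        pushforwardCongr (chart_square' f hV hU) ≪≫
        (pushforwardComp hU.isoSpec.hom (chartMap f)).symm ≪≫
        Functor.isoWhiskerRight (restrictIsoPush hU.isoSpec).symm (pushforward (chartMap f))) ≪≫
    (Functor.associator _ _ _).symm ≪≫
    Functor.isoWhiskerRight (restrictFunctorComp hU.isoSpec.inv (f ⁻¹ᵁ V).ι).symm
      (pushforward (chartMap f))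

end BC

section BCD

variable {X S : Scheme.{u}} (f : X ⟶ S) {V : S.Opens} (hV : IsAffineOpen V)
  (hU : IsAffineOpen (f ⁻¹ᵁ V)) [DCoh.HasRpush f] [DCoh.HasRpush (chartMap (V := V) f)]

/-- base change of `Rf_*` to the affine chart over an affine open of the base (objectwise) -/
theorem nonempty_restrictD_Rpush_chart_iso (K : DCoh.D X) :
    Nonempty ((DCoh.restrictD hV.fromSpec).obj ((DCoh.Rpush f).obj K) ≅
      (DCoh.Rpush (chartMap (V := V) f)).obj ((DCoh.restrictD hU.fromSpec).obj K)) := by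
  obtain ⟨I, hI, -, ⟨e⟩⟩ := KInj.DProd.exists_kInjective K
  haveI := hI
  let J : CochainComplex (Spec Γ(X, f ⁻¹ᵁ V)).Modules ℤ :=
    ((restrictFunctor hU.fromSpec).mapHomologicalComplex cc).obj I
  haveI : CochainComplex.IsKInjective J := isKInjective_restrict_fromSpec hU I hI
  exact ⟨(DCoh.restrictD hV.fromSpec).mapIso ((DCoh.Rpush f).mapIso e ≪≫ Mon.RpushIso f I) ≪≫
    (restrictFunctor hV.fromSpec).mapDerivedCategoryFactors.app _ ≪≫
    DerivedCategory.Q.mapIso ((NatIso.mapHomologicalComplex (pushChartIso f hV hU) cc).app I) ≪≫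
    (Mon.RpushIso (chartMap (V := V) f) J).symm ≪≫
    (DCoh.Rpush (chartMap (V := V) f)).mapIso
      (((restrictFunctor hU.fromSpec).mapDerivedCategoryFactors.app I).symm ≪≫
        (DCoh.restrictD hU.fromSpec).mapIso e.symm)⟩

end BCD

end Groth.Agent.Lib.Helper2.Aff.AffPush
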