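import Groth.Agent.Lib.Helper2.Aff.CohPush
import Groth.Agent.Lib.Helper2.Aff.QcqsPush
import Groth.Agent.Lib.Helper13.ProperSupp
import Groth.Agent.Lib.Helper23.T2M

set_option autoImplicit false
universe u
open CategoryTheory CategoryTheory.Limits AlgebraicGeometry TopologicalSpace Opposite
  CategoryTheory.Pretriangulated

attribute [local instance] HasDerivedCategory.standard

namespace Groth.Agent.Lib.Helper2.Aff.Qcqs

open Groth.Agent.Lib.Helper2 Groth.Agent.Lib.Helper2.Stk AlgebraicGeometry.Scheme.Modules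
  Groth.Agent.Lib.Helper2.Mon Groth.Agent.Lib.Helper2.TExactIso Groth.Agent.Lib.Helper13
  DerivedCategory Groth.Agent.Lib.Helper2.Aff

local notation "cc" => ComplexShape.up ℤ

section Single

lemma isQCohD_inD {Z : Scheme.{u}} (G : Z.Modules) (hG : Coh.IsQCoh G) :
    DCoh.IsQCohD (DCoh.inD Z G) := by
  intro i
  by_cases hi : i = 0
  · subst hi
    exact isQCoh_of_iso
      ((DerivedCategory.singleFunctorCompHomologyFunctorIso Z.Modules 0).app G).symm hG
  · haveI : ((DerivedCategory.singleFunctor Z.Modules 0).obj G).IsLE 0 := inferInstance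
    haveI : ((DerivedCategory.singleFunctor Z.Modules 0).obj G).IsGE 0 := inferInstance
    apply Groth.Agent.Lib.Helper3.QCOpen.isQuasicoherent_of_isZero
    rcases lt_or_gt_of_ne hi with h | h
    · exact DerivedCategory.isZero_of_isGE
        ((DerivedCategory.singleFunctor Z.Modules 0).obj G) 0 i h
    · exact DerivedCategory.isZero_of_isLE
        ((DerivedCategory.singleFunctor Z.Modules 0).obj G) 0 i h

end Single

section Bound

variable {X S : Scheme.{u}} (f : X ⟶ S) [IsNoetherian S] [LocallyOfFiniteType f]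

/-- vanishing of higher direct images of a coherent sheaf with proper support in large degrees -/
theorem exists_bound_Rpush_coh (M : X.Modules) (hM : Coh.IsCoh M)
    (hs : ClSub.IsProperOver f (CohB1.support M)) :
    ∃ d : ℕ, ∀ p : ℕ, d < p → IsZero ((Coh.Rpush f p).obj M) := by
  obtain ⟨Z, i, hi, hprop, G, hGq, hGft, ⟨e⟩⟩ :=
    (Groth.Agent.Lib.Helper13.ProperSupp.isProperOver_support_iff f M hM.1 hM.2).1 hs
  haveI : EnoughInjectives Z.Modules := ModGrothendieck.enoughInjectives Z.ringCatSheaf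
  haveI : EnoughInjectives X.Modules := ModGrothendieck.enoughInjectives X.ringCatSheaf
  haveI := hprop
  haveI := hi
  haveI : CompactSpace S := inferInstance
  haveI : QuasiSeparatedSpace S := inferInstance
  haveI : DCoh.HasRpush (i ≫ f) := hasRpush (i ≫ f)
  obtain ⟨d, hd⟩ := exists_uniform_bound (i ≫ f)
  refine ⟨d, fun p hp => ?_⟩
  obtain ⟨e1⟩ := Groth.Agent.Lib.Helper23.T2.nonempty_Rpush_closed_comp_iso i f G p
  obtain ⟨e2⟩ := nonempty_HD_Rpush_single_iso (i ≫ f) G p
  have hq : DCoh.IsQCohD (DCoh.inD Z G) := isQCohD_inD G hGq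
  haveI : (DCoh.inD Z G).IsLE 0 := by
    change ((DerivedCategory.singleFunctor Z.Modules 0).obj G).IsLE 0
    infer_instance
  haveI := hd _ hq 0 inferInstance
  have hz : IsZero (DCoh.HD ((DCoh.Rpush (i ≫ f)).obj (DCoh.inD Z G)) (p : ℤ)) :=
    DerivedCategory.isZero_of_isLE _ (0 + (d : ℤ)) _ (by omega)
  exact (hz.of_iso e2.symm).of_iso ((Coh.Rpush f p).mapIso e.symm ≪≫ e1.symm)

end Bound

section Main

variable {X S : Scheme.{u}} (f : X ⟶ S) [DCoh.HasRpush f] [IsNoetherian S] [LocallyOfFiniteType f]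

theorem exists_isLE_Rpush_single (M : X.Modules) (hM : Coh.IsCoh M)
    (hs : ClSub.IsProperOver f (CohB1.support M)) :
    ∃ b : ℤ, ((DCoh.Rpush f).obj (DCoh.inD X M)).IsLE b := by
  haveI : EnoughInjectives X.Modules := ModGrothendieck.enoughInjectives X.ringCatSheaf
  obtain ⟨d, hd⟩ := exists_bound_Rpush_coh f M hM hs
  refine ⟨d, ?_⟩
  rw [DerivedCategory.isLE_iff]
  intro i hi
  obtain ⟨k, rfl⟩ := Int.eq_ofNat_of_zero_le (show 0 ≤ i by omega)
  obtain ⟨e⟩ := nonempty_HD_Rpush_single_iso f M k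
  exact (hd k (by omega)).of_iso e

omit [AlgebraicGeometry.IsNoetherian S] [LocallyOfFiniteType f] in
/-- the dévissable property "`Rf_* K` is bounded above" -/
theorem isDevissable_exists_isLE :
    IsDevissable (fun K : DCoh.D X => ∃ b : ℤ, ((DCoh.Rpush f).obj K).IsLE b) := by
  obtain ⟨cs, tri⟩ := exists_isTriangulated_Rpush f
  refine ⟨?_, ?_, ?_, ?_⟩
  · rintro K L e ⟨b, hb⟩
    exact ⟨b, isLE_of_iso' ((DCoh.Rpush f).mapIso e) b hb⟩
  · intro K hK
    refine ⟨0, ?_⟩
    rw [DerivedCategory.isLE_iff]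
    intro i _
    exact (homologyFunctor S.Modules i).map_isZero ((DCoh.Rpush f).map_isZero hK)
  · rintro K n ⟨b, hb⟩
    haveI := hb
    refine ⟨b - n, ?_⟩
    have h1 : (((DCoh.Rpush f).obj K)⟦n⟧).IsLE (b - n) :=
      TStructure.t.isLE_shift _ b n (b - n) (by omega)
    exact isLE_of_iso' (((DCoh.Rpush f).commShiftIso n).app K).symm (b - n) h1
  · rintro T hT ⟨b₁, h₁⟩ ⟨b₃, h₃⟩
    have hT' := (DCoh.Rpush f).map_distinguished _ hT
    refine ⟨max b₁ b₃, ?_⟩
    haveI : ((DCoh.Rpush f).mapTriangle.obj T).obj₁.IsLE (max b₁ b₃) := by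
      haveI := h₁
      exact TStructure.t.isLE_of_le ((DCoh.Rpush f).obj T.obj₁) b₁ _ (le_max_left _ _)
    haveI : ((DCoh.Rpush f).mapTriangle.obj T).obj₃.IsLE (max b₁ b₃) := by
      haveI := h₃
      exact TStructure.t.isLE_of_le ((DCoh.Rpush f).obj T.obj₃) b₃ _ (le_max_right _ _)
    exact TStructure.t.isLE₂ _ hT' (max b₁ b₃) inferInstance inferInstance

/-- **bounded complexes with coherent cohomology with proper supports: `Rf_*` bounded above** -/
theorem exists_isLE_Rpush_of_bounded (E : DCoh.D X) (a b : ℤ) (hEa : E.IsGE a) (hEb : E.IsLE b)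
    (hE : DCoh.IsCohD E)
    (hsupp : ∀ i : ℤ, ClSub.IsProperOver f (CohB1.support (DCoh.HD E i))) :
    ∃ b' : ℤ, ((DCoh.Rpush f).obj E).IsLE b' :=
  (isDevissable_exists_isLE f).of_isGE_of_isLE E a b hEa hEb
    (fun q => exists_isLE_Rpush_single f _ (hE q) (hsupp q))

end Main

end Groth.Agent.Lib.Helper2.Aff.Qcqs
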