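import Groth.Agent.Lib.Helper2.Aff.CoreflQCoh
import Groth.Agent.Lib.Helper2.Stk.RpushComp
import Groth.Agent.Lib.Helper13.OpenEquivSupp
import Groth.Agent.Lib.Helper13.OpenFF
import Groth.Agent.Lib.Helper13.PerfLocal
import Groth.Prelude.Def_CxOX

/-!
# The triangle `RΓ_Z(G) ⟶ G ⟶ Rj_*(j^*G)` and the universal property of `RΓ_Z(G) ⟶ G` (helper2)
-/

set_option autoImplicit false
universe u
open CategoryTheory CategoryTheory.Limits AlgebraicGeometry TopologicalSpace Opposite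
  CategoryTheory.Pretriangulated

attribute [local instance] HasDerivedCategory.standard

namespace Groth.Agent.Lib.Helper2.Aff.RGammaRecol

section Abstract

variable {C : Type*} [Category C] [Preadditive C] [HasZeroObject C] [HasShift C ℤ]
  [∀ n : ℤ, (shiftFunctor C n).Additive] [Pretriangulated C]

/-- if the cone `D` of `g : M ⟶ L` receives no maps from `N` and `N[1]`, then composition with `g`
is a bijection `Hom(N, M) ≃ Hom(N, L)` -/
lemma bijective_comp_of_cone_local {M L D : C} (g : M ⟶ L) (h : L ⟶ D) (k : D ⟶ M⟦(1 : ℤ)⟧)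
    (hT : Triangle.mk g h k ∈ distTriang C) (N : C)
    (hD0 : ∀ φ : N ⟶ D, φ = 0) (hD1 : ∀ φ : N ⟶ D⟦(-1 : ℤ)⟧, φ = 0) :
    Function.Bijective (fun φ : N ⟶ M => φ ≫ g) := by
  constructor
  · intro φ₁ φ₂ h12
    have h0 : (φ₁ - φ₂) ≫ (Triangle.mk g h k).invRotate.mor₂ = 0 := by
      change (φ₁ - φ₂) ≫ g = 0
      rw [Preadditive.sub_comp]
      exact sub_eq_zero.2 h12
    obtain ⟨χ, hχ⟩ := Triangle.coyoneda_exact₂ _ (inv_rot_of_distTriang _ hT) (φ₁ - φ₂) h0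
    have hχ0 : χ = 0 := hD1 χ
    rw [hχ0, zero_comp] at hχ
    exact sub_eq_zero.1 hχ
  · intro ψ
    obtain ⟨φ, hφ⟩ := Triangle.coyoneda_exact₂ _ hT ψ (hD0 _)
    exact ⟨φ, hφ.symm⟩

/-- two maps into `L` with the same universal property for a class `𝒩` of objects containing their
sources: any comparison is an isomorphism -/
lemma isIso_of_universal (𝒩 : C → Prop) {A M L : C} (c : A ⟶ L) (g : M ⟶ L) (hA : 𝒩 A) (hM : 𝒩 M)
    (hc : ∀ N, 𝒩 N → Function.Bijective (fun φ : N ⟶ A => φ ≫ c))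
    (hg : ∀ N, 𝒩 N → Function.Bijective (fun φ : N ⟶ M => φ ≫ g))
    (α : M ⟶ A) (hα : α ≫ c = g) : IsIso α := by
  obtain ⟨β, hβ⟩ := (hg A hA).2 c
  have hβ' : β ≫ g = c := hβ
  have h1 : α ≫ β = 𝟙 M := by
    apply (hg M hM).1
    change (α ≫ β) ≫ g = 𝟙 M ≫ g
    rw [Category.assoc, hβ', hα, Category.id_comp]
  have h2 : β ≫ α = 𝟙 A := by
    apply (hc A hA).1
    change (β ≫ α) ≫ c = 𝟙 A ≫ c
    rw [Category.assoc, hα, hβ', Category.id_comp]
  exact ⟨⟨β, h1, h2⟩⟩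

set_option backward.isDefEq.respectTransparency false in
/-- transport a distinguished triangle along isomorphisms of its vertices, with prescribed
first map -/
lemma exists_triangle_of_iso' (T : Triangle C) (hT : T ∈ distTriang C) {X₁ X₂ X₃ : C}
    (e₁ : T.obj₁ ≅ X₁) (e₂ : T.obj₂ ≅ X₂) (e₃ : T.obj₃ ≅ X₃) (a : X₁ ⟶ X₂)
    (ha : a ≫ e₂.inv = e₁.inv ≫ T.mor₁) :
    ∃ (b : X₂ ⟶ X₃) (c : X₃ ⟶ X₁⟦(1 : ℤ)⟧), Triangle.mk a b c ∈ distTriang C := by
  have ha' : a = e₁.inv ≫ T.mor₁ ≫ e₂.hom := by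
    rw [← Category.assoc, ← ha, Category.assoc, Iso.inv_hom_id, Category.comp_id]
  subst ha'
  refine ⟨e₂.inv ≫ T.mor₂ ≫ e₃.hom, e₃.inv ≫ T.mor₃ ≫ e₁.hom⟦(1 : ℤ)⟧', ?_⟩
  refine isomorphic_distinguished _ hT _ (Triangle.isoMk _ _ e₁.symm e₂.symm e₃.symm ?_ ?_ ?_)
  · simp
  · simp
  · simp [← Functor.map_comp]

end Abstract

section Canonical

open Groth.Agent.Lib.Helper2 Groth.Agent.Lib.Helper2.Stk Groth.Agent.Lib.Helper2.Aff
  AlgebraicGeometry.Scheme.Modules Groth.Agent.Lib.Helper13 Groth.Agent.Lib.Helper3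
  Groth.Agent.Lib.Helper13.RelMVMod

attribute [local instance] Groth.Agent.Lib.Helper2.Stk.hasRpush

variable {Y : Scheme.{u}} (T : Y.Opens)

/-- the termwise inclusion `Γ_Z(I) ⟶ I` of complexes -/
noncomputable def ιC (I : CochainComplex Y.Modules ℤ) :
    ((DCoh.gammaZ T.ι).mapHomologicalComplex (ComplexShape.up ℤ)).obj I ⟶ I where
  f n := (CxOX.gammaZι T.ι).app (I.X n)
  comm' i j _ := ((CxOX.gammaZι T.ι).naturality (I.d i j)).symm

variable [CxOX.HasRgammaZ T.ι]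

/-- the canonical map `RΓ_Z ⟶ 𝟭` on a K-injective complex is the termwise inclusion -/
lemma u_comp_RgammaZToId (I : CochainComplex Y.Modules ℤ) :
    KInjCompute.u (DCoh.gammaZ T.ι) I ≫ (CxOX.RgammaZToId T.ι).app (DerivedCategory.Q.obj I) =
      DerivedCategory.Q.map (ιC T I) := by
  have h := congrArg (fun τ => τ.app ((HomotopyCategory.quotient Y.Modules (ComplexShape.up ℤ)).obj I))
    ((CxOX.RgammaZ T.ι).rightDerived_fac
      ((CxOX.gammaZKh T.ι).totalRightDerivedUnit DerivedCategory.Qh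
        (HomotopyCategory.quasiIso Y.Modules (ComplexShape.up ℤ)))
      (HomotopyCategory.quasiIso Y.Modules (ComplexShape.up ℤ)) (𝟭 (DCoh.D Y))
      (CxOX.gammaZKhι T.ι ≫ (Functor.rightUnitor _).inv))
  dsimp at h
  refine Eq.trans h ?_
  rw [Category.comp_id]
  have h3 : (CxOX.gammaZKhι T.ι).app
      ((HomotopyCategory.quotient Y.Modules (ComplexShape.up ℤ)).obj I) =
      DerivedCategory.Qh.map
        (((DCoh.gammaZ T.ι).mapHomotopyCategoryFactors (ComplexShape.up ℤ)).hom.app I) ≫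
      DerivedCategory.Q.map
        ((NatTrans.mapHomologicalComplex (CxOX.gammaZι T.ι) (ComplexShape.up ℤ)).app I) ≫
      DerivedCategory.Q.map
        ((Functor.mapHomologicalComplexIdIso Y.Modules (ComplexShape.up ℤ)).hom.app I) := by
    have := Quotient.natTransLift_app (homotopic Y.Modules (ComplexShape.up ℤ))
      (F := CxOX.gammaZKh T.ι) (G := DerivedCategory.Qh)
      ((Functor.associator _ _ _).inv ≫
      Functor.whiskerRight ((DCoh.gammaZ T.ι).mapHomotopyCategoryFactors (ComplexShape.up ℤ)).hom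
        DerivedCategory.Qh ≫
      (Functor.associator _ _ _).hom ≫
      Functor.whiskerRight (NatTrans.mapHomologicalComplex (CxOX.gammaZι T.ι) (ComplexShape.up ℤ))
        (HomotopyCategory.quotient _ _ ⋙ DerivedCategory.Qh) ≫
      Functor.whiskerRight (Functor.mapHomologicalComplexIdIso Y.Modules (ComplexShape.up ℤ)).hom
        (HomotopyCategory.quotient _ _ ⋙ DerivedCategory.Qh) ≫
      (Functor.leftUnitor _).hom) I
    refine this.trans ?_
    simp only [NatTrans.comp_app, Functor.associator_inv_app, Functor.associator_hom_app,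
      Functor.whiskerRight_app, Functor.leftUnitor_hom_app, Category.id_comp]
    rfl
  have h1 : ((DCoh.gammaZ T.ι).mapHomotopyCategoryFactors (ComplexShape.up ℤ)).hom.app I = 𝟙 _ :=
    Quotient.lift.isLift_hom _ _ _ I
  have h4 : DerivedCategory.Qh.map
      (((DCoh.gammaZ T.ι).mapHomotopyCategoryFactors (ComplexShape.up ℤ)).hom.app I) =
      𝟙 (DerivedCategory.Q.obj
        (((DCoh.gammaZ T.ι).mapHomologicalComplex (ComplexShape.up ℤ)).obj I)) := by
    rw [h1]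
    exact DerivedCategory.Qh.map_id _
  have key : DerivedCategory.Q.map
        ((NatTrans.mapHomologicalComplex (CxOX.gammaZι T.ι) (ComplexShape.up ℤ)).app I) ≫
      DerivedCategory.Q.map
        ((Functor.mapHomologicalComplexIdIso Y.Modules (ComplexShape.up ℤ)).hom.app I) =
      DerivedCategory.Q.map (ιC T I) := by
    rw [← Functor.map_comp]
    congr 1
  exact h3.trans ((congrArg (fun x => x ≫ _) h4).trans ((Category.id_comp _).trans key))

/-- the canonical map on an object with a K-injective model -/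
lemma RgammaZToId_app_eq (I : CochainComplex Y.Modules ℤ) (hI : I.IsKInjective) {G : DCoh.D Y}
    (e : G ≅ DerivedCategory.Q.obj I) :
    (CxOX.RgammaZToId T.ι).app G ≫ e.hom =
      ((CxOX.RgammaZ T.ι).mapIso e ≪≫
        KInjCompute.iso (DCoh.gammaZ T.ι) (KInjSch.hasKInj Y) I hI).hom ≫
        DerivedCategory.Q.map (ιC T I) := by
  haveI := KInjCompute.isIso_u (DCoh.gammaZ T.ι) (KInjSch.hasKInj Y) I hI
  have h1 := u_comp_RgammaZToId T I
  have h2 : (KInjCompute.iso (DCoh.gammaZ T.ι) (KInjSch.hasKInj Y) I hI).hom =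
      inv (KInjCompute.u (DCoh.gammaZ T.ι) I) := rfl
  have h3 := (CxOX.RgammaZToId T.ι).naturality e.hom
  rw [Iso.trans_hom, Functor.mapIso_hom, Category.assoc, h2, ← h1, IsIso.inv_hom_id_assoc]
  exact h3.symm

/-- **the triangle** `RΓ_Z(G) ⟶ G ⟶ Rj_*(j^*G) ⟶` with the canonical first map -/
theorem exists_triangle (G : DCoh.D Y) :
    ∃ (h : G ⟶ (DCoh.Rpush T.ι).obj ((DCoh.restrictD T.ι).obj G))
      (k : (DCoh.Rpush T.ι).obj ((DCoh.restrictD T.ι).obj G) ⟶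
        ((CxOX.RgammaZ T.ι).obj G)⟦(1 : ℤ)⟧),
      Triangle.mk ((CxOX.RgammaZToId T.ι).app G) h k ∈ distTriang (DCoh.D Y) := by
  obtain ⟨I, hI, hinj, ⟨e⟩⟩ := KInjCompute.exists_model (KInjSch.hasKInjInj Y) G
  have hzero : ιC T I ≫ SuppOpen.ηC T I = 0 := by
    apply HomologicalComplex.hom_ext
    intro n
    exact kernel.condition ((restrictAdjunction T.ι).unit.app (I.X n))
  have hS : (ShortComplex.mk (ιC T I) (SuppOpen.ηC T I) hzero).ShortExact := by
    apply HomologicalComplex.shortExact_of_degreewise_shortExact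
    intro n
    haveI : Epi ((restrictAdjunction T.ι).unit.app (I.X n)) :=
      OpenEquivSupp.epi_η_of_injective T (I.X n) (hinj n)
    have h0 : (ShortComplex.mk (kernel.ι ((restrictAdjunction T.ι).unit.app (I.X n)))
        ((restrictAdjunction T.ι).unit.app (I.X n)) (kernel.condition _)).ShortExact :=
      ShortComplex.ShortExact.mk' (ShortComplex.exact_of_f_is_kernel _ (kernelIsKernel _))
        inferInstance inferInstance
    exact h0
  have hT := DerivedCategory.triangleOfSES_distinguished hS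
  exact exists_triangle_of_iso' _ hT
    (((CxOX.RgammaZ T.ι).mapIso e ≪≫
        KInjCompute.iso (DCoh.gammaZ T.ι) (KInjSch.hasKInj Y) I hI).symm)
    e.symm (KInjMV.isoRestrict T (pushforward T.ι) I hI e).symm
    ((CxOX.RgammaZToId T.ι).app G) (RgammaZToId_app_eq T I hI e)

/-- objects vanishing on `T` admit no nonzero maps to `Rj_* F` -/
lemma hom_Rpush_eq_zero (N : DCoh.D Y) (hN : IsZero ((DCoh.restrictD T.ι).obj N))
    (F : DCoh.D (T : Scheme.{u})) (φ : N ⟶ (DCoh.Rpush T.ι).obj F) : φ = 0 := by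
  apply ((Corefl.adjOpen T.ι).homEquiv N F).symm.injective
  exact hN.eq_of_src _ _

/-- objects vanishing on `T` admit no nonzero maps to shifts of `Rj_* F` -/
lemma hom_shift_Rpush_eq_zero (N : DCoh.D Y) (hN : IsZero ((DCoh.restrictD T.ι).obj N))
    (F : DCoh.D (T : Scheme.{u})) (k : ℤ) (φ : N ⟶ ((DCoh.Rpush T.ι).obj F)⟦k⟧) : φ = 0 := by
  obtain ⟨cs, tri⟩ := exists_isTriangulated_Rpush T.ι
  have h := hom_Rpush_eq_zero T N hN (F⟦k⟧) (φ ≫ (((DCoh.Rpush T.ι).commShiftIso k).app F).inv)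
  rw [← cancel_mono (((DCoh.Rpush T.ι).commShiftIso k).app F).inv, h, zero_comp]

/-- `RΓ_Z(G)` vanishes on `T` -/
lemma isZero_restrictD_RgammaZ (G : DCoh.D Y) :
    IsZero ((DCoh.restrictD T.ι).obj ((CxOX.RgammaZ T.ι).obj G)) := by
  apply PerfLocal.isZero_of_isZero_homology
  intro i
  obtain ⟨e⟩ := OpenEquivSupp.nonempty_HD_restrictD_iso T.ι ((CxOX.RgammaZ T.ι).obj G) i
  exact IsZero.of_iso (OpenFF.isZero_restrict_HD_RgammaZ T G i) e

/-- **universal property** of `RΓ_Z(G) ⟶ G` among maps from objects vanishing on `T` -/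
theorem bijective_comp_RgammaZToId (G N : DCoh.D Y)
    (hN : IsZero ((DCoh.restrictD T.ι).obj N)) :
    Function.Bijective (fun φ : N ⟶ (CxOX.RgammaZ T.ι).obj G =>
      φ ≫ (CxOX.RgammaZToId T.ι).app G) := by
  obtain ⟨h, k, hT⟩ := exists_triangle T G
  exact bijective_comp_of_cone_local _ h k hT N (hom_Rpush_eq_zero T N hN _)
    (hom_shift_Rpush_eq_zero T N hN _ (-1))

end Canonical

section Push

open Groth.Agent.Lib.Helper2 Groth.Agent.Lib.Helper2.Stk Groth.Agent.Lib.Helper2.Aff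
  AlgebraicGeometry.Scheme.Modules Groth.Agent.Lib.Helper13 Groth.Agent.Lib.Helper3
  Groth.Agent.Lib.Helper13.RelMVMod

attribute [local instance] Groth.Agent.Lib.Helper2.Stk.hasRpush

variable {X Y : Scheme.{u}} (f : X ⟶ Y) (U : Y.Opens)

lemma nonempty_Rpush_iso_of_eq {A B : Scheme.{u}} {g₁ g₂ : A ⟶ B} (h : g₁ = g₂) (F : DCoh.D A) :
    Nonempty ((DCoh.Rpush g₁).obj F ≅ (DCoh.Rpush g₂).obj F) := by
  subst h
  exact ⟨Iso.refl _⟩

/-- `Rf_*` of an object vanishing on `f⁻¹U` vanishes on `U` -/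
lemma isZero_restrictD_Rpush (E : DCoh.D X)
    (hE : IsZero ((DCoh.restrictD (f ⁻¹ᵁ U).ι).obj E)) :
    IsZero ((DCoh.restrictD U.ι).obj ((DCoh.Rpush f).obj E)) := by
  apply PerfLocal.isZero_of_isZero_homology
  intro i
  obtain ⟨e⟩ := OpenEquivSupp.nonempty_HD_restrictD_iso U.ι ((DCoh.Rpush f).obj E) i
  refine IsZero.of_iso (OpenEquivSupp.isZero_restrict_HD_Rpush f U E (fun m => ?_) i) e
  obtain ⟨e'⟩ := OpenEquivSupp.nonempty_HD_restrictD_iso (f ⁻¹ᵁ U).ι E m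
  exact IsZero.of_iso ((DerivedCategory.homologyFunctor _ m).map_isZero hE) e'.symm

/-- `Rf_* Rj'_* F'` is a direct image from `U` -/
lemma nonempty_Rpush_Rpush_iso (F' : DCoh.D ((f ⁻¹ᵁ U : X.Opens) : Scheme.{u})) :
    ∃ F'' : DCoh.D (U : Scheme.{u}),
      Nonempty ((DCoh.Rpush f).obj ((DCoh.Rpush (f ⁻¹ᵁ U).ι).obj F') ≅
        (DCoh.Rpush U.ι).obj F'') := by
  obtain ⟨e₂⟩ := nonempty_Rpush_iso_of_eq (morphismRestrict_ι f U).symm F'
  exact ⟨(DCoh.Rpush (f ∣_ U)).obj F', ⟨(RpushComp (f ⁻¹ᵁ U).ι f).app F' ≪≫ e₂ ≪≫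
    ((RpushComp (f ∣_ U) U.ι).app F').symm⟩⟩

variable [CxOX.HasRgammaZ U.ι] [CxOX.HasRgammaZ (f ⁻¹ᵁ U).ι]

/-- universal property of `Rf_*(RΓ_{Z'} K) ⟶ Rf_* K` -/
theorem bijective_comp_Rpush_RgammaZToId (K : DCoh.D X) (N : DCoh.D Y)
    (hN : IsZero ((DCoh.restrictD U.ι).obj N)) :
    Function.Bijective (fun φ : N ⟶ (DCoh.Rpush f).obj ((CxOX.RgammaZ (f ⁻¹ᵁ U).ι).obj K) =>
      φ ≫ (DCoh.Rpush f).map ((CxOX.RgammaZToId (f ⁻¹ᵁ U).ι).app K)) := by
  obtain ⟨h, k, hT⟩ := exists_triangle (f ⁻¹ᵁ U) K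
  obtain ⟨cs, tri⟩ := exists_isTriangulated_Rpush f
  have hT' := (DCoh.Rpush f).map_distinguished _ hT
  obtain ⟨F'', ⟨ε⟩⟩ := nonempty_Rpush_Rpush_iso f U ((DCoh.restrictD (f ⁻¹ᵁ U).ι).obj K)
  refine bijective_comp_of_cone_local _ _ _ hT' N (fun φ => ?_) (fun φ => ?_)
  · have h0 := hom_Rpush_eq_zero U N hN F'' (φ ≫ ε.hom)
    exact (cancel_mono ε.hom).1 (h0.trans zero_comp.symm)
  · have h0 := hom_shift_Rpush_eq_zero U N hN F'' (-1) (φ ≫ ε.hom⟦(-1 : ℤ)⟧')
    exact (cancel_mono (ε.hom⟦(-1 : ℤ)⟧')).1 (h0.trans zero_comp.symm)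

/-- **`Rf_* RΓ_{Z'} ≅ RΓ_Z Rf_*`**: existence of the factorisation, and every factorisation is an
isomorphism -/
theorem Rpush_RgammaZ (K : DCoh.D X) :
    (∃ α : (DCoh.Rpush f).obj ((CxOX.RgammaZ (f ⁻¹ᵁ U).ι).obj K) ⟶
        (CxOX.RgammaZ U.ι).obj ((DCoh.Rpush f).obj K),
        α ≫ (CxOX.RgammaZToId U.ι).app ((DCoh.Rpush f).obj K) =
          (DCoh.Rpush f).map ((CxOX.RgammaZToId (f ⁻¹ᵁ U).ι).app K)) ∧
    ∀ α : (DCoh.Rpush f).obj ((CxOX.RgammaZ (f ⁻¹ᵁ U).ι).obj K) ⟶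
        (CxOX.RgammaZ U.ι).obj ((DCoh.Rpush f).obj K),
        α ≫ (CxOX.RgammaZToId U.ι).app ((DCoh.Rpush f).obj K) =
          (DCoh.Rpush f).map ((CxOX.RgammaZToId (f ⁻¹ᵁ U).ι).app K) → IsIso α := by
  have hM : IsZero ((DCoh.restrictD U.ι).obj
      ((DCoh.Rpush f).obj ((CxOX.RgammaZ (f ⁻¹ᵁ U).ι).obj K))) :=
    isZero_restrictD_Rpush f U _ (isZero_restrictD_RgammaZ (f ⁻¹ᵁ U) K)
  have hA : IsZero ((DCoh.restrictD U.ι).obj ((CxOX.RgammaZ U.ι).obj ((DCoh.Rpush f).obj K))) :=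
    isZero_restrictD_RgammaZ U _
  refine ⟨(bijective_comp_RgammaZToId U ((DCoh.Rpush f).obj K) _ hM).2 _, fun α hα => ?_⟩
  exact isIso_of_universal (fun N : DCoh.D Y => IsZero ((DCoh.restrictD U.ι).obj N))
    ((CxOX.RgammaZToId U.ι).app ((DCoh.Rpush f).obj K))
    ((DCoh.Rpush f).map ((CxOX.RgammaZToId (f ⁻¹ᵁ U).ι).app K)) hA hM
    (fun N hN => bijective_comp_RgammaZToId U _ N hN)
    (fun N hN => bijective_comp_Rpush_RgammaZToId f U K N hN) α hα

end Push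

end Groth.Agent.Lib.Helper2.Aff.RGammaRecol
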