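import Groth.Agent.Lib.Helper2.Aff.CoreflQCoh
import Groth.Agent.Lib.Helper2.Aff.RGammaRecol
import Groth.Agent.Lib.Helper2.Aff.CohPush

/-!
# Cohomological amplitude of the coreflection `DQ_X : D(O_X) ⥤ D_QCoh(O_X)` (helper2)
-/

set_option autoImplicit false
universe u
open CategoryTheory CategoryTheory.Limits AlgebraicGeometry TopologicalSpace Opposite
  CategoryTheory.Pretriangulated

attribute [local instance] HasDerivedCategory.standard

namespace Groth.Agent.Lib.Helper2.Aff.CoreflAmp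

open Groth.Agent.Lib.Helper2 Groth.Agent.Lib.Helper2.Stk Groth.Agent.Lib.Helper2.Aff
  AlgebraicGeometry.Scheme.Modules Groth.Agent.Lib.Helper13 Groth.Agent.Lib.Helper3
  Groth.Agent.Lib.Helper2.TExactIso Groth.Agent.Lib.Helper2.Aff.Qcqs
  Groth.Agent.Lib.Helper2.Aff.HomVan Groth.Agent.Lib.Helper13.QCDim
  Groth.Agent.Lib.Helper2.Aff.Corefl

attribute [local instance] Groth.Agent.Lib.Helper2.Stk.hasRpush
attribute [local instance] Groth.Agent.Lib.Helper14.preservesFiniteLimits_tilde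

/-- `K` has a coreflection into `D_QCoh` whose cohomology sheaves vanish outside `[a, c]` -/
def HasCoreflAmp {X : Scheme.{u}} (K : DCoh.D X) (a c : ℤ) : Prop :=
  ∃ (Q : DCoh.D X) (ε : Q ⟶ K), DCoh.IsQCohD Q ∧ BijOn (PQ X) ε ∧
    ∀ i : ℤ, (i < a ∨ c < i) → IsZero (DCoh.HD Q i)

/-- coreflections are unique up to isomorphism -/
lemma nonempty_iso_of_corefl {X : Scheme.{u}} {K Q₁ Q₂ : DCoh.D X} (ε₁ : Q₁ ⟶ K) (ε₂ : Q₂ ⟶ K)
    (h₁ : DCoh.IsQCohD Q₁) (h₂ : DCoh.IsQCohD Q₂) (b₁ : BijOn (PQ X) ε₁) (b₂ : BijOn (PQ X) ε₂) :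
    Nonempty (Q₁ ≅ Q₂) := by
  obtain ⟨α, hα⟩ := (b₂ Q₁ h₁).2 ε₁
  haveI : IsIso α := RGammaRecol.isIso_of_universal (PQ X) ε₂ ε₁ h₂ h₁ b₂ b₁ α hα
  exact ⟨asIso α⟩

lemma HasCoreflAmp.of_iso {X : Scheme.{u}} {K K' : DCoh.D X} (e : K ≅ K') {a c : ℤ}
    (h : HasCoreflAmp K a c) : HasCoreflAmp K' a c := by
  obtain ⟨Q, ε, hQ, hε, hamp⟩ := h
  refine ⟨Q, ε ≫ e.hom, hQ, fun E hE => ?_, hamp⟩
  have : (fun φ : E ⟶ Q => φ ≫ ε ≫ e.hom) = (fun ψ : E ⟶ K => ψ ≫ e.hom) ∘
      (fun φ : E ⟶ Q => φ ≫ ε) := by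
    funext φ
    simp
  rw [this]
  refine Function.Bijective.comp ?_ (hε E hE)
  constructor
  · intro a b hab
    exact (cancel_mono e.hom).1 hab
  · intro ψ
    exact ⟨ψ ≫ e.inv, by simp⟩

lemma HasCoreflAmp.mono {X : Scheme.{u}} {K : DCoh.D X} {a c c' : ℤ} (h : HasCoreflAmp K a c)
    (hc : c ≤ c') : HasCoreflAmp K a c' := by
  obtain ⟨Q, ε, hQ, hε, hamp⟩ := h
  exact ⟨Q, ε, hQ, hε, fun i hi => hamp i (by omega)⟩

section Spec

variable (R : CommRingCat.{u})

/-- the underlying abelian group of the module of global sections -/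
noncomputable def ΓmGammaAbIso : Γm R ⋙ forget₂ (ModuleCat.{u} R) AddCommGrpCat.{u} ≅
    DCoh.gammaAb (SpecR R) :=
  NatIso.ofComponents (fun M => Iso.refl _)

/-- the forgetful functor to abelian groups reflects zero objects -/
lemma isZero_of_isZero_forget₂ (M : ModuleCat.{u} R)
    (h : IsZero ((forget₂ (ModuleCat.{u} R) AddCommGrpCat.{u}).obj M)) : IsZero M := by
  rw [IsZero.iff_id_eq_zero]
  apply (forget₂ (ModuleCat.{u} R) AddCommGrpCat.{u}).map_injective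
  exact h.eq_of_src _ _

open DerivedCategory in
/-- vanishing of `H^i(Spec R, L)` (abelian groups) kills `H^i` of the coreflection of `L` -/
theorem isZero_HD_tildeD_RΓ [DCoh.HasRΓ (SpecR R)] (L : DCoh.D (SpecR R)) (i : ℤ)
    (h : IsZero ((homologyFunctor AddCommGrpCat.{u} i).obj ((DCoh.RΓ (SpecR R)).obj L))) :
    IsZero (DCoh.HD ((DCoh.tildeD R).obj ((RΓ R).obj L)) i) := by
  refine IsZero.of_iso ?_ (mapDerivedCategoryHomologyIso (tilde.functor R) ((RΓ R).obj L) i)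
  apply Functor.map_isZero
  obtain ⟨I, hI, -, ⟨e⟩⟩ := KInjCompute.exists_model (KInjSch.hasKInjInj (SpecR R)) L
  haveI := hasRΓ R
  have e1 : (RΓ R).obj L ≅
      Q.obj (((Γm R).mapHomologicalComplex (ComplexShape.up ℤ)).obj I) :=
    (RΓ R).mapIso e ≪≫ KInjCompute.iso (Γm R) (KInjSch.hasKInj _) I hI
  have e2 : (homologyFunctor _ i).obj ((RΓ R).obj L) ≅
      (((Γm R).mapHomologicalComplex (ComplexShape.up ℤ)).obj I).homology i :=
    (homologyFunctor _ i).mapIso e1 ≪≫ (homologyFunctorFactors _ i).app _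
  have e3 : (DCoh.RΓ (SpecR R)).obj L ≅
      Q.obj (((DCoh.gammaAb (SpecR R)).mapHomologicalComplex (ComplexShape.up ℤ)).obj I) :=
    (DCoh.RΓ (SpecR R)).mapIso e ≪≫
      KInjCompute.iso (DCoh.gammaAb (SpecR R)) (KInjSch.hasKInj _) I hI
  have e4 : (homologyFunctor AddCommGrpCat.{u} i).obj ((DCoh.RΓ (SpecR R)).obj L) ≅
      (((DCoh.gammaAb (SpecR R)).mapHomologicalComplex (ComplexShape.up ℤ)).obj I).homology i :=
    (homologyFunctor _ i).mapIso e3 ≪≫ (homologyFunctorFactors _ i).app _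
  let U := forget₂ (ModuleCat.{u} R) AddCommGrpCat.{u}
  let c : (U.mapHomologicalComplex (ComplexShape.up ℤ)).obj
      (((Γm R).mapHomologicalComplex (ComplexShape.up ℤ)).obj I) ≅
      ((DCoh.gammaAb (SpecR R)).mapHomologicalComplex (ComplexShape.up ℤ)).obj I :=
    HomologicalComplex.Hom.isoOfComponents (fun n => (ΓmGammaAbIso R).app (I.X n))
      (fun p q _ => ((ΓmGammaAbIso R).hom.naturality (I.d p q)).symm)
  have e5 : U.obj ((((Γm R).mapHomologicalComplex (ComplexShape.up ℤ)).obj I).homology i) ≅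
      (((DCoh.gammaAb (SpecR R)).mapHomologicalComplex (ComplexShape.up ℤ)).obj I).homology i :=
    (mapHomologicalComplexHomologyIso U _ i).symm ≪≫
      (HomologicalComplex.homologyFunctor _ _ i).mapIso c
  refine IsZero.of_iso ?_ e2
  apply isZero_of_isZero_forget₂
  exact IsZero.of_iso h (e5 ≪≫ e4.symm)

/-- the counit `(RΓ K)~ ⟶ K` is a coreflection into `D_QCoh(Spec R)` -/
theorem bijOn_counit_Spec (K : DCoh.D (SpecR R)) :
    BijOn (PQ (SpecR R)) ((adjD R).counit.app K) := by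
  obtain ⟨hfull, hfaith, hess⟩ := tildeD_fullyFaithful_essImage R
  intro E hE
  obtain ⟨M, ⟨e⟩⟩ := (hess E).1 hE
  have key : (fun φ : E ⟶ (DCoh.tildeD R).obj ((RΓ R).obj K) => φ ≫ (adjD R).counit.app K) ∘
      (fun ψ : M ⟶ (RΓ R).obj K => e.inv ≫ (DCoh.tildeD R).map ψ) =
      (fun χ : (DCoh.tildeD R).obj M ⟶ K => e.inv ≫ χ) ∘ ((adjD R).homEquiv M K).symm := by
    funext ψ
    simp only [Function.comp_apply, Category.assoc]
    rw [Adjunction.homEquiv_counit]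
  have hb1 : Function.Bijective
      (fun ψ : M ⟶ (RΓ R).obj K => e.inv ≫ (DCoh.tildeD R).map ψ) := by
    constructor
    · intro a b hab
      exact (DCoh.tildeD R).map_injective ((cancel_epi e.inv).1 hab)
    · intro φ
      obtain ⟨ψ, hψ⟩ := (DCoh.tildeD R).map_surjective (e.hom ≫ φ)
      exact ⟨ψ, by simp [hψ]⟩
  have hb2 : Function.Bijective
      ((fun χ : (DCoh.tildeD R).obj M ⟶ K => e.inv ≫ χ) ∘ ((adjD R).homEquiv M K).symm) := by
    refine Function.Bijective.comp ?_ ((adjD R).homEquiv M K).symm.bijective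
    constructor
    · intro a b hab
      exact (cancel_epi e.inv).1 hab
    · intro φ
      exact ⟨e.hom ≫ φ, by simp⟩
  rw [← key] at hb2
  exact (Function.Bijective.of_comp_iff _ hb1).1 hb2

theorem hasCoreflAmp_Spec [DCoh.HasRΓ (SpecR R)] (L : DCoh.D (SpecR R)) (a b : ℤ)
    (h : ∀ i : ℤ, (i < a ∨ b < i) → IsZero ((DerivedCategory.homologyFunctor
      AddCommGrpCat.{u} i).obj ((DCoh.RΓ (SpecR R)).obj L))) : HasCoreflAmp L a b :=
  ⟨(DCoh.tildeD R).obj ((RΓ R).obj L), (adjD R).counit.app L, isQCohD_tildeD R _,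
    bijOn_counit_Spec R L, fun i hi => isZero_HD_tildeD_RΓ R L i (h i hi)⟩

end Spec

section Transport

variable {Y' Y : Scheme.{u}} (e : Y' ⟶ Y) [IsIso e]

lemma image_top_of_isIso : e ''ᵁ (⊤ : Y'.Opens) = ⊤ := by
  rw [Scheme.Hom.image_top_eq_opensRange]
  exact Scheme.Hom.opensRange_of_isIso e

/-- global sections commute with restriction along an isomorphism -/
noncomputable def gammaAbRestrictIso : restrictFunctor e ⋙ DCoh.gammaAb Y' ≅ DCoh.gammaAb Y :=
  NatIso.ofComponents (fun M => ((Scheme.Modules.toPresheaf Y).obj M).mapIso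
    (eqToIso (congrArg op (image_top_of_isIso e))))
    (fun {M N} f => (((Scheme.Modules.toPresheaf Y).map f).naturality _).symm)

/-- restriction along an isomorphism is right adjoint to restriction along its inverse -/
noncomputable def restrictEquiv : Y'.Modules ≌ Y.Modules :=
  CategoryTheory.Equivalence.mk (restrictFunctor (inv e)) (restrictFunctor e)
    (restrictFunctorId.symm ≪≫ restrictFunctorCongr (IsIso.hom_inv_id e).symm ≪≫
      restrictFunctorComp e (inv e))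
    ((restrictFunctorComp (inv e) e).symm ≪≫ restrictFunctorCongr (IsIso.inv_hom_id e) ≪≫
      restrictFunctorId)

lemma isKInjective_restrict_of_isIso (I : CochainComplex Y.Modules ℤ) (hI : I.IsKInjective) :
    CochainComplex.IsKInjective
      (((restrictFunctor e).mapHomologicalComplex (ComplexShape.up ℤ)).obj I) := by
  have adj : restrictFunctor (inv e) ⊣ restrictFunctor e := (restrictEquiv e).toAdjunction
  exact KInjCompute.isKInjective_map adj I hI

open DerivedCategory in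
/-- derived global sections commute with restriction along an isomorphism (on cohomology) -/
theorem isZero_homology_RΓ_restrictD [DCoh.HasRΓ Y'] [DCoh.HasRΓ Y] (L : DCoh.D Y) (i : ℤ)
    (h : IsZero ((homologyFunctor AddCommGrpCat.{u} i).obj ((DCoh.RΓ Y).obj L))) :
    IsZero ((homologyFunctor AddCommGrpCat.{u} i).obj
      ((DCoh.RΓ Y').obj ((DCoh.restrictD e).obj L))) := by
  obtain ⟨I, hI, -, ⟨eL⟩⟩ := KInjCompute.exists_model (KInjSch.hasKInjInj Y) L
  have hJ := isKInjective_restrict_of_isIso e I hI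
  have e1 : (DCoh.RΓ Y).obj L ≅
      Q.obj (((DCoh.gammaAb Y).mapHomologicalComplex (ComplexShape.up ℤ)).obj I) :=
    (DCoh.RΓ Y).mapIso eL ≪≫ KInjCompute.iso (DCoh.gammaAb Y) (KInjSch.hasKInj _) I hI
  have e2 : (DCoh.RΓ Y').obj ((DCoh.restrictD e).obj L) ≅
      Q.obj (((DCoh.gammaAb Y').mapHomologicalComplex (ComplexShape.up ℤ)).obj
        (((restrictFunctor e).mapHomologicalComplex (ComplexShape.up ℤ)).obj I)) :=
    (DCoh.RΓ Y').mapIso ((DCoh.restrictD e).mapIso eL ≪≫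
      (restrictFunctor e).mapDerivedCategoryFactors.app I) ≪≫
      KInjCompute.iso (DCoh.gammaAb Y') (KInjSch.hasKInj _) _ hJ
  let c : ((DCoh.gammaAb Y').mapHomologicalComplex (ComplexShape.up ℤ)).obj
        (((restrictFunctor e).mapHomologicalComplex (ComplexShape.up ℤ)).obj I) ≅
      ((DCoh.gammaAb Y).mapHomologicalComplex (ComplexShape.up ℤ)).obj I :=
    HomologicalComplex.Hom.isoOfComponents (fun n => (gammaAbRestrictIso e).app (I.X n))
      (fun p q _ => ((gammaAbRestrictIso e).hom.naturality (I.d p q)).symm)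
  exact IsZero.of_iso h ((homologyFunctor _ i).mapIso (e2 ≪≫ Q.mapIso c ≪≫ e1.symm))

include e in
theorem hasCoreflAmp_of_iso (K : DCoh.D Y) (a c : ℤ)
    (h : HasCoreflAmp ((DCoh.restrictD e).obj K) a c) : HasCoreflAmp K a c := by
  haveI := full_restrictD_of_isIso e
  haveI := faithful_restrictD_of_isIso e
  obtain ⟨Q', ε', hQ', hε', hamp⟩ := h
  have β : DCoh.restrictD (inv e) ⋙ DCoh.restrictD e ≅ 𝟭 (DCoh.D Y') :=
    mapDCCompIsoId (restrictFunctor (inv e)) (restrictFunctor e)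
      ((restrictFunctorComp e (inv e)).symm ≪≫ restrictFunctorCongr (IsIso.hom_inv_id e) ≪≫
        restrictFunctorId)
  let Q : DCoh.D Y := (DCoh.restrictD (inv e)).obj Q'
  have θ : (DCoh.restrictD e).obj Q ≅ Q' := β.app Q'
  obtain ⟨ε, hε⟩ := (DCoh.restrictD e).map_surjective (θ.hom ≫ ε')
  refine ⟨Q, ε, isQCohD_restrict (inv e) Q' hQ', fun E hE => ?_, fun i hi => ?_⟩
  · have hFE : PQ Y' ((DCoh.restrictD e).obj E) := isQCohD_restrict e E hE
    constructor
    · intro χ₁ χ₂ h12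
      have h1 : (DCoh.restrictD e).map χ₁ ≫ θ.hom ≫ ε' =
          (DCoh.restrictD e).map χ₂ ≫ θ.hom ≫ ε' := by
        rw [← hε, ← Functor.map_comp, ← Functor.map_comp]
        exact congrArg _ h12
      have h2 := (hε' _ hFE).1 (by simpa using h1 :
        ((DCoh.restrictD e).map χ₁ ≫ θ.hom) ≫ ε' = ((DCoh.restrictD e).map χ₂ ≫ θ.hom) ≫ ε')
      exact (DCoh.restrictD e).map_injective ((cancel_mono θ.hom).1 h2)
    · intro ψ
      obtain ⟨χ', hχ'⟩ := (hε' _ hFE).2 ((DCoh.restrictD e).map ψ)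
      have hχ'' : χ' ≫ ε' = (DCoh.restrictD e).map ψ := hχ'
      obtain ⟨χ, hχ⟩ := (DCoh.restrictD e).map_surjective (χ' ≫ θ.inv)
      refine ⟨χ, (DCoh.restrictD e).map_injective ?_⟩
      rw [Functor.map_comp, hχ, hε, Category.assoc, Iso.inv_hom_id_assoc, hχ'']
  · obtain ⟨c'⟩ := OpenEquivSupp.nonempty_HD_restrictD_iso (inv e) Q' i
    exact IsZero.of_iso ((restrictFunctor (inv e)).map_isZero (hamp i hi)) c'

end Transport

section Base

variable {X : Scheme.{u}}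

lemma isZero_HD_of_isGE_isLE (Q : DCoh.D X) (a c : ℤ) (h₁ : Q.IsGE a) (h₂ : Q.IsLE c) (i : ℤ)
    (hi : i < a ∨ c < i) : IsZero (DCoh.HD Q i) := by
  rcases hi with hi | hi
  · exact (DerivedCategory.isGE_iff Q a).1 h₁ i hi
  · exact (DerivedCategory.isLE_iff Q c).1 h₂ i hi

theorem hasCoreflAmp_Rpush [CompactSpace X] {U : Scheme.{u}} (j j' : U ⟶ X) [IsOpenImmersion j]
    [IsOpenImmersion j'] (hj : j' = j) [QuasiCompact j] :
    ∃ N : ℕ, ∀ (K : DCoh.D X) (a c : ℤ), HasCoreflAmp ((DCoh.restrictD j).obj K) a c →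
      HasCoreflAmp ((DCoh.Rpush j').obj ((DCoh.restrictD j).obj K)) a (c + N) := by
  subst hj
  obtain ⟨N, hN⟩ := exists_uniform_bound j'
  refine ⟨N, fun K a c h => ?_⟩
  obtain ⟨Q', ε', hQ', hε', hamp⟩ := h
  refine ⟨(DCoh.Rpush j').obj Q', (DCoh.Rpush j').map ε', isQCohD_Rpush j' Q' hQ',
    fun E hE => ?_, ?_⟩
  · have key : (fun φ : E ⟶ (DCoh.Rpush j').obj Q' => φ ≫ (DCoh.Rpush j').map ε') =
        ((adjOpen j').homEquiv E _) ∘ (fun ψ : (DCoh.restrictD j').obj E ⟶ Q' => ψ ≫ ε') ∘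
          ((adjOpen j').homEquiv E Q').symm := by
      funext φ
      simp only [Function.comp_apply]
      rw [Adjunction.homEquiv_naturality_right, Equiv.apply_symm_apply]
    rw [key]
    exact ((adjOpen j').homEquiv E _).bijective.comp
      ((hε' _ (isQCohD_restrict j' E hE)).comp ((adjOpen j').homEquiv E Q').symm.bijective)
  · have h₁ : Q'.IsGE a := (DerivedCategory.isGE_iff Q' a).2 (fun i hi => hamp i (Or.inl hi))
    have h₂ : Q'.IsLE c := (DerivedCategory.isLE_iff Q' c).2 (fun i hi => hamp i (Or.inr hi))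
    exact isZero_HD_of_isGE_isLE _ a (c + N) (isGE_Rpush j' Q' a h₁) (hN Q' hQ' c h₂)

lemma isZero_HD_obj₁ (T : Triangle (DCoh.D X)) (hT : T ∈ distTriang _) (i : ℤ)
    (h₂ : IsZero (DCoh.HD T.obj₂ i)) (h₃ : IsZero (DCoh.HD T.obj₃ (i - 1))) :
    IsZero (DCoh.HD T.obj₁ i) :=
  (DerivedCategory.HomologySequence.exact₁ T hT (i - 1) i (by omega)).isZero_of_both_zeros
    (h₃.eq_of_src _ _) (h₂.eq_of_tgt _ _)

lemma isZero_HD_biprod (A B : DCoh.D X) (i : ℤ) (hA : IsZero (DCoh.HD A i))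
    (hB : IsZero (DCoh.HD B i)) : IsZero (DCoh.HD (A ⊞ B) i) := by
  rw [IsZero.iff_id_eq_zero]
  have h : 𝟙 (A ⊞ B) = biprod.fst ≫ biprod.inl + biprod.snd ≫ biprod.inr := biprod.total.symm
  change 𝟙 ((DerivedCategory.homologyFunctor X.Modules i).obj (A ⊞ B)) = 0
  rw [← CategoryTheory.Functor.map_id, h, Functor.map_add, Functor.map_comp, Functor.map_comp,
    hA.eq_of_tgt ((DerivedCategory.homologyFunctor X.Modules i).map biprod.fst) 0,
    hB.eq_of_tgt ((DerivedCategory.homologyFunctor X.Modules i).map biprod.snd) 0,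
    zero_comp, zero_comp, add_zero]

end Base

section Induction

variable {X : Scheme.{u}}

/-- derived global sections exist on every scheme -/
theorem hasRΓAb (Y : Scheme.{u}) : DCoh.HasRΓ Y :=
  LocalRes.hasRightDerivedFunctor _ (exists_local_resolution (Stk.hKinj Y)) (DCoh.gammaKh Y)

variable [∀ U : X.Opens, DCoh.HasRΓ (U : Scheme.{u})]

/-- the hypothesis: `H^i(U, K|_U) = 0` for all affine opens `U` and `i ∉ [a, b]` -/
def AffAcyc (K : DCoh.D X) (a b : ℤ) : Prop :=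
  ∀ U : X.Opens, IsAffineOpen U → ∀ i : ℤ, (i < a ∨ b < i) →
    IsZero ((DerivedCategory.homologyFunctor AddCommGrpCat.{u} i).obj
      ((DCoh.RΓ (U : Scheme.{u})).obj ((DCoh.restrictD U.ι).obj K)))

/-- the amplitude statement attached to an open `W` -/
def CorWB (W : X.Opens) (N : ℕ) : Prop :=
  ∀ (K : DCoh.D X) (a b : ℤ), AffAcyc K a b → HasCoreflAmp (RW (𝟙 X) W K) a (b + N)

lemma CorWB.mono {W : X.Opens} {N N' : ℕ} (h : CorWB W N) (hN : N ≤ N') : CorWB W N' :=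
  fun K a b hK => (h K a b hK).mono (by omega)

theorem exists_corWB_of_isAffineOpen [CompactSpace X] [QuasiSeparatedSpace X] (W : X.Opens)
    (hW : IsAffineOpen W) : ∃ N : ℕ, CorWB W N := by
  haveI : IsAffine (W : Scheme.{u}) := hW
  haveI : QuasiCompact W.ι := quasiCompact_of_compactSpace W.ι
  obtain ⟨N, hN⟩ := hasCoreflAmp_Rpush W.ι (W.ι ≫ 𝟙 X) (Category.comp_id _)
  refine ⟨N, fun K a b hK => hN K a b ?_⟩
  haveI := hasRΓAb (SpecR Γ(X, W))
  apply hasCoreflAmp_of_iso hW.isoSpec.inv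
  apply hasCoreflAmp_Spec
  intro i hi
  exact isZero_homology_RΓ_restrictD hW.isoSpec.inv _ i (hK W hW i hi)

theorem corWB_sup (U V : X.Opens) {N₁ N₂ N₃ : ℕ} (hU : CorWB U N₁) (hV : CorWB V N₂)
    (hUV : CorWB (U ⊓ V) N₃) : CorWB (U ⊔ V) (max (max N₁ N₂) (N₃ + 1)) := by
  intro K a b hK
  obtain ⟨a', b', c', hT'⟩ := exists_mv_triangle (𝟙 X) U V K
  obtain ⟨QU, εU, hQU, hεU, ampU⟩ := hU K a b hK
  obtain ⟨QV, εV, hQV, hεV, ampV⟩ := hV K a b hK
  obtain ⟨QUV, εUV, hQUV, hεUV, ampUV⟩ := hUV K a b hK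
  have hA : DCoh.IsQCohD (QU ⊞ QV) := isQCohD_biprod hQU hQV
  have hα := bijOn_biprod_map εU εV hεU hεV
  obtain ⟨β, hβ⟩ := (hεUV _ hA).2 (biprod.map εU εV ≫ b')
  have hβ' : β ≫ εUV = biprod.map εU εV ≫ b' := hβ
  obtain ⟨Z, g, h, hT₀⟩ := distinguished_cocone_triangle β
  have hZ : DCoh.IsQCohD Z :=
    Groth.Agent.Lib.Helper2.Aff.AffPush.isQCohD_of_distTriang _ hT₀ hA hQUV
  have hT := inv_rot_of_distTriang _ hT₀
  obtain ⟨a₁, ha₁, ha₂⟩ := complete_distinguished_triangle_morphism₁ _ _ hT hT'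
    (biprod.map εU εV) εUV hβ'
  let φ : (Triangle.mk β g h).invRotate ⟶ Triangle.mk a' b' c' :=
    { hom₁ := a₁
      hom₂ := biprod.map εU εV
      hom₃ := εUV
      comm₁ := ha₁
      comm₂ := hβ'
      comm₃ := ha₂ }
  refine ⟨_, a₁, isQCohD_shift Z hZ (-1),
    bijOn_hom₁ (PQ X) (pq_shift X) _ _ hT hT' φ hα hεUV, fun i hi => ?_⟩
  refine isZero_HD_obj₁ _ hT i ?_ ?_
  · exact isZero_HD_biprod QU QV i (ampU i (by omega)) (ampV i (by omega))
  · exact ampUV (i - 1) (by omega)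

theorem exists_corWB_of_qc [CompactSpace X] [QuasiSeparatedSpace X] {d : ℕ} {W : X.Opens}
    (h : QC d W) : ∃ N : ℕ, CorWB W N := by
  induction h with
  | affine W h => exact exists_corWB_of_isAffineOpen W h
  | union d U V hU hV hUV ihU ihV ihUV =>
    obtain ⟨N₁, h₁⟩ := ihU
    obtain ⟨N₂, h₂⟩ := ihV
    obtain ⟨N₃, h₃⟩ := ihUV
    exact ⟨_, corWB_sup U V h₁ h₂ h₃⟩
  | mono d d' W h hW ih => exact ih

end Induction

section Global

variable (X : Scheme.{u}) [CompactSpace X] [QuasiSeparatedSpace X]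

theorem exists_amp_bound [∀ U : X.Opens, DCoh.HasRΓ (U : Scheme.{u})] :
    ∃ N : ℕ, ∀ (K : DCoh.D X) (a b : ℤ), AffAcyc K a b → HasCoreflAmp K a (b + N) := by
  obtain ⟨d, hd⟩ := QC.exists_top (X := X)
  obtain ⟨N, hN⟩ := exists_corWB_of_qc hd
  refine ⟨N, fun K a b hK => ?_⟩
  have h1 := hN K a b hK
  haveI : IsIso ((⊤ : X.Opens).ι ≫ 𝟙 X) := by
    haveI : IsIso (⊤ : X.Opens).ι := (Scheme.topIso X).isIso_hom
    infer_instance
  obtain ⟨hfull, hfaith⟩ : (DCoh.restrictD ((⊤ : X.Opens).ι ≫ 𝟙 X)).Full ∧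
      (DCoh.restrictD ((⊤ : X.Opens).ι ≫ 𝟙 X)).Faithful :=
    ⟨full_restrictD_of_isIso _, faithful_restrictD_of_isIso _⟩
  haveI : IsIso (adjOpen ((⊤ : X.Opens).ι ≫ 𝟙 X)).unit := inferInstance
  obtain ⟨c⟩ : Nonempty ((DCoh.restrictD (⊤ : X.Opens).ι).obj K ≅
      (DCoh.restrictD ((⊤ : X.Opens).ι ≫ 𝟙 X)).obj K) := by
    have : ∀ (j j' : ((⊤ : X.Opens) : Scheme.{u}) ⟶ X) [IsOpenImmersion j] [IsOpenImmersion j']
        (_ : j' = j), Nonempty ((DCoh.restrictD j).obj K ≅ (DCoh.restrictD j').obj K) := by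
      intro j j' _ _ h
      subst h
      exact ⟨Iso.refl _⟩
    exact this _ _ (Category.comp_id _)
  exact h1.of_iso ((DCoh.Rpush ((⊤ : X.Opens).ι ≫ 𝟙 X)).mapIso c ≪≫
    (asIso ((adjOpen ((⊤ : X.Opens).ι ≫ 𝟙 X)).unit.app K)).symm)

/-- the counit of any right adjoint of the inclusion is a coreflection -/
theorem bijOn_counit {R : DCoh.D X ⥤ (DCoh.IsQCohD (X := X)).FullSubcategory}
    (adj : ObjectProperty.ι (DCoh.IsQCohD (X := X)) ⊣ R) (K : DCoh.D X) :
    BijOn (PQ X) (adj.counit.app K) := by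
  intro E hE
  let E' : (DCoh.IsQCohD (X := X)).FullSubcategory := ⟨E, hE⟩
  have key : (fun φ : E ⟶ (R.obj K).obj => φ ≫ adj.counit.app K) =
      (adj.homEquiv E' K).symm ∘ (fun φ : E ⟶ (R.obj K).obj =>
        (ObjectProperty.homMk φ : E' ⟶ R.obj K)) := by
    funext φ
    simp only [Function.comp_apply]
    rw [Adjunction.homEquiv_counit]
    rfl
  have hb : Function.Bijective ((adj.homEquiv E' K).symm ∘ (fun φ : E ⟶ (R.obj K).obj =>
        (ObjectProperty.homMk φ : E' ⟶ R.obj K))) := by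
    refine (adj.homEquiv E' K).symm.bijective.comp ⟨fun φ ψ h => ?_, fun m => ⟨m.hom, ?_⟩⟩
    · exact congrArg (fun t => t.hom) h
    · exact ObjectProperty.hom_ext _ rfl
  rw [← key] at hb
  exact hb

/-- **amplitude of `DQ_X`** -/
theorem exists_amp_bound_rightAdjoint [∀ U : X.Opens, DCoh.HasRΓ (U : Scheme.{u})]
    [(ObjectProperty.ι (DCoh.IsQCohD (X := X))).IsLeftAdjoint] :
    ∃ N : ℕ, ∀ (K : DCoh.D X) (a b : ℤ), AffAcyc K a b →
      ∀ i : ℤ, (i < a ∨ b + (N : ℤ) < i) →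
        IsZero (DCoh.HD (((ObjectProperty.ι (DCoh.IsQCohD (X := X))).rightAdjoint.obj K).obj) i) := by
  obtain ⟨N, hN⟩ := exists_amp_bound X
  refine ⟨N, fun K a b hK i hi => ?_⟩
  obtain ⟨Q, ε, hQ, hε, hamp⟩ := hN K a b hK
  let adj := Adjunction.ofIsLeftAdjoint (ObjectProperty.ι (DCoh.IsQCohD (X := X)))
  obtain ⟨e⟩ := nonempty_iso_of_corefl ε (adj.counit.app K) hQ
    ((ObjectProperty.ι (DCoh.IsQCohD (X := X))).rightAdjoint.obj K).property hε
    (bijOn_counit X adj K)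
  exact IsZero.of_iso (hamp i hi) ((DerivedCategory.homologyFunctor _ i).mapIso e.symm)

end Global

end Groth.Agent.Lib.Helper2.Aff.CoreflAmp
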