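import Mathlib

/-!
# Coreflections in pretriangulated categories: a five lemma (helper2)
-/

set_option autoImplicit false
universe v u
open CategoryTheory CategoryTheory.Limits CategoryTheory.Pretriangulated

namespace Groth.Agent.Lib.Helper2.Aff.Corefl

section Abstract

variable {C : Type u} [Category.{v} C] [Preadditive C] [HasZeroObject C] [HasShift C ℤ]
  [∀ n : ℤ, (shiftFunctor C n).Additive] [Pretriangulated C]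

/-- post-composition with `ε` is bijective on `Hom(E, -)` for all `E` satisfying `P` -/
def BijOn (P : C → Prop) {Q R : C} (ε : Q ⟶ R) : Prop :=
  ∀ E, P E → Function.Bijective (fun φ : E ⟶ Q => φ ≫ ε)

variable (P : C → Prop) (hP : ∀ (E : C) (n : ℤ), P E → P (E⟦n⟧))

include hP in
lemma BijOn.shift {Q R : C} {ε : Q ⟶ R} (h : BijOn P ε) (n : ℤ) : BijOn P (ε⟦n⟧') := by
  intro E hE
  let adj := (shiftEquiv C n).symm.toAdjunction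
  have key : (fun φ : E ⟶ Q⟦n⟧ => φ ≫ ε⟦n⟧') =
      (adj.homEquiv E R) ∘ (fun ψ : E⟦-n⟧ ⟶ Q => ψ ≫ ε) ∘ (adj.homEquiv E Q).symm := by
    funext φ
    simp only [Function.comp_apply]
    rw [Adjunction.homEquiv_naturality_right, Equiv.apply_symm_apply]
    rfl
  rw [key]
  exact (adj.homEquiv E R).bijective.comp ((h _ (hP E (-n) hE)).comp
    (adj.homEquiv E Q).symm.bijective)

lemma BijOn.injective' {Q R : C} {ε : Q ⟶ R} (h : BijOn P ε) {E : C} (hE : P E)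
    (φ : E ⟶ Q) (hφ : φ ≫ ε = 0) : φ = 0 :=
  (h E hE).1 (by simpa using hφ)

include hP in
/-- the five lemma: a morphism of distinguished triangles which is `P`-bijective on the second and
third objects is `P`-bijective on the first -/
theorem bijOn_hom₁ (T T' : Triangle C) (hT : T ∈ distTriang C) (hT' : T' ∈ distTriang C)
    (φ : T ⟶ T') (h₂ : BijOn P φ.hom₂) (h₃ : BijOn P φ.hom₃) : BijOn P φ.hom₁ := by
  have h₂s := h₂.shift P hP (-1)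
  have h₃s := h₃.shift P hP (-1)
  have hTi := inv_rot_of_distTriang _ hT
  have hTi' := inv_rot_of_distTriang _ hT'
  have hTii := inv_rot_of_distTriang _ hTi
  have hTii' := inv_rot_of_distTriang _ hTi'
  obtain ⟨m₁, hm₁⟩ : ∃ m : T.obj₃⟦(-1 : ℤ)⟧ ⟶ T.obj₁, m = T.invRotate.mor₁ := ⟨_, rfl⟩
  obtain ⟨m₁', hm₁'⟩ : ∃ m : T'.obj₃⟦(-1 : ℤ)⟧ ⟶ T'.obj₁, m = T'.invRotate.mor₁ := ⟨_, rfl⟩
  obtain ⟨k₁, hk₁⟩ : ∃ m : T.obj₂⟦(-1 : ℤ)⟧ ⟶ T.obj₃⟦(-1 : ℤ)⟧,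
    m = T.invRotate.invRotate.mor₁ := ⟨_, rfl⟩
  obtain ⟨k₁', hk₁'⟩ : ∃ m : T'.obj₂⟦(-1 : ℤ)⟧ ⟶ T'.obj₃⟦(-1 : ℤ)⟧,
    m = T'.invRotate.invRotate.mor₁ := ⟨_, rfl⟩
  have n1 : m₁ ≫ φ.hom₁ = φ.hom₃⟦(-1 : ℤ)⟧' ≫ m₁' := by
    rw [hm₁, hm₁']; exact ((invRotate C).map φ).comm₁
  have n2 : k₁ ≫ φ.hom₃⟦(-1 : ℤ)⟧' = φ.hom₂⟦(-1 : ℤ)⟧' ≫ k₁' := by
    rw [hk₁, hk₁']; exact ((invRotate C).map ((invRotate C).map φ)).comm₁
  have z1 : k₁ ≫ m₁ = 0 := by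
    rw [hk₁, hm₁]; exact comp_distTriang_mor_zero₁₂ _ hTii
  have ex1 : ∀ {E : C} (χ : E ⟶ T.obj₁), χ ≫ T.mor₁ = 0 →
      ∃ δ : E ⟶ T.obj₃⟦(-1 : ℤ)⟧, χ = δ ≫ m₁ := by
    intro E χ h; rw [hm₁]; exact Triangle.coyoneda_exact₂ _ hTi χ h
  have ex1' : ∀ {E : C} (χ : E ⟶ T'.obj₁), χ ≫ T'.mor₁ = 0 →
      ∃ δ : E ⟶ T'.obj₃⟦(-1 : ℤ)⟧, χ = δ ≫ m₁' := by
    intro E χ h; rw [hm₁']; exact Triangle.coyoneda_exact₂ _ hTi' χ h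
  have ex2' : ∀ {E : C} (δ : E ⟶ T'.obj₃⟦(-1 : ℤ)⟧), δ ≫ m₁' = 0 →
      ∃ ρ : E ⟶ T'.obj₂⟦(-1 : ℤ)⟧, δ = ρ ≫ k₁' := by
    intro E δ h; rw [hk₁']; rw [hm₁'] at h; exact Triangle.coyoneda_exact₂ _ hTii' δ h
  intro E hE
  constructor
  · -- injective
    intro χ₁ χ₂ h12
    have h0 : (χ₁ - χ₂) ≫ φ.hom₁ = 0 := by
      rw [Preadditive.sub_comp]; exact sub_eq_zero.2 h12
    rw [← sub_eq_zero]
    generalize χ₁ - χ₂ = χ at h0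
    have h1 : χ ≫ T.mor₁ = 0 := by
      apply h₂.injective' P hE
      rw [Category.assoc, φ.comm₁, ← Category.assoc, h0, zero_comp]
    obtain ⟨δ, hδ⟩ := ex1 χ h1
    have h3 : (δ ≫ φ.hom₃⟦(-1 : ℤ)⟧') ≫ m₁' = 0 := by
      rw [Category.assoc, ← n1, ← Category.assoc, ← hδ, h0]
    obtain ⟨ρ, hρ⟩ := ex2' _ h3
    obtain ⟨ρ₀, hρ₀⟩ := (h₂s E hE).2 ρ
    have hρ₀' : ρ₀ ≫ φ.hom₂⟦(-1 : ℤ)⟧' = ρ := hρ₀
    have h6 : δ = ρ₀ ≫ k₁ := by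
      rw [← sub_eq_zero]
      apply h₃s.injective' P hE
      rw [Preadditive.sub_comp, Category.assoc, n2, ← Category.assoc, hρ₀', ← hρ, sub_self]
    rw [hδ, h6, Category.assoc, z1, comp_zero]
  · -- surjective
    intro ψ
    obtain ⟨φA, hφA⟩ := (h₂ E hE).2 (ψ ≫ T'.mor₁)
    have hφA' : φA ≫ φ.hom₂ = ψ ≫ T'.mor₁ := hφA
    have h2 : φA ≫ T.mor₂ = 0 := by
      apply h₃.injective' P hE
      rw [Category.assoc, φ.comm₂, ← Category.assoc, hφA', Category.assoc,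
        comp_distTriang_mor_zero₁₂ _ hT', comp_zero]
    obtain ⟨χ, hχ⟩ := Triangle.coyoneda_exact₂ _ hT φA h2
    have h4 : (χ ≫ φ.hom₁ - ψ) ≫ T'.mor₁ = 0 := by
      rw [Preadditive.sub_comp, Category.assoc, ← φ.comm₁, ← Category.assoc, ← hχ, hφA',
        sub_self]
    obtain ⟨δ, hδ⟩ := ex1' _ h4
    obtain ⟨δ₀, hδ₀⟩ := (h₃s E hE).2 δ
    have hδ₀' : δ₀ ≫ φ.hom₃⟦(-1 : ℤ)⟧' = δ := hδ₀
    refine ⟨χ - δ₀ ≫ m₁, ?_⟩
    change (χ - δ₀ ≫ m₁) ≫ φ.hom₁ = ψ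
    rw [Preadditive.sub_comp, Category.assoc, n1, ← Category.assoc, hδ₀', ← hδ]
    abel

end Abstract

end Groth.Agent.Lib.Helper2.Aff.Corefl
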