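import Groth.Agent.Lib.Helper2.Aff.CoreflFive
import Groth.Agent.Lib.Helper2.Aff.HomVanBase
import Groth.Agent.Lib.Helper2.Aff.QcqsPush
import Groth.Agent.Lib.Helper13.OpenFF

/-!
# The inclusion `D_QCoh(O_X) ⥤ D(O_X)` has a right adjoint on qcqs schemes (helper2)

Coreflections are glued along Mayer–Vietoris triangles.
-/

set_option autoImplicit false
universe u
open CategoryTheory CategoryTheory.Limits AlgebraicGeometry TopologicalSpace Opposite
  CategoryTheory.Pretriangulated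

attribute [local instance] HasDerivedCategory.standard

namespace Groth.Agent.Lib.Helper2.Aff.Corefl

open Groth.Agent.Lib.Helper2 Groth.Agent.Lib.Helper2.Stk Groth.Agent.Lib.Helper2.Aff
  AlgebraicGeometry.Scheme.Modules Groth.Agent.Lib.Helper13 Groth.Agent.Lib.Helper3
  Groth.Agent.Lib.Helper2.TExactIso Groth.Agent.Lib.Helper2.Aff.Qcqs
  Groth.Agent.Lib.Helper2.Aff.HomVan Groth.Agent.Lib.Helper13.QCDim

attribute [local instance] Groth.Agent.Lib.Helper2.Stk.hasRpush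
attribute [local instance] Groth.Agent.Lib.Helper14.preservesFiniteLimits_tilde

/-- the property of having quasi-coherent cohomology sheaves -/
abbrev PQ (X : Scheme.{u}) : DCoh.D X → Prop := fun E => DCoh.IsQCohD E

lemma pq_shift (X : Scheme.{u}) (E : DCoh.D X) (n : ℤ) (h : PQ X E) : PQ X (E⟦n⟧) :=
  isQCohD_shift E h n

/-- `K` has a coreflection into `D_QCoh` -/
def HasCoreflOf {X : Scheme.{u}} (K : DCoh.D X) : Prop :=
  ∃ (Q : DCoh.D X) (ε : Q ⟶ K), DCoh.IsQCohD Q ∧ BijOn (PQ X) ε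

/-- every object of `D(O_X)` has a coreflection into `D_QCoh` -/
def HasCorefl (X : Scheme.{u}) : Prop := ∀ K : DCoh.D X, HasCoreflOf K

lemma HasCoreflOf.of_iso {X : Scheme.{u}} {K K' : DCoh.D X} (e : K ≅ K') (h : HasCoreflOf K) :
    HasCoreflOf K' := by
  obtain ⟨Q, ε, hQ, hε⟩ := h
  refine ⟨Q, ε ≫ e.hom, hQ, fun E hE => ?_⟩
  have : (fun φ : E ⟶ Q => φ ≫ ε ≫ e.hom) = (fun ψ : E ⟶ K => ψ ≫ e.hom) ∘
      (fun φ : E ⟶ Q => φ ≫ ε) := by
    funext φ
    simp
  rw [this]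
  refine Function.Bijective.comp ?_ (hε E hE)
  constructor
  · intro a b hab
    exact (cancel_mono e.hom).1 hab
  · intro ψ
    exact ⟨ψ ≫ e.inv, by simp⟩

section Spec

variable (R : CommRingCat.{u})

theorem hasCorefl_Spec : HasCorefl (SpecR R) := by
  intro K
  obtain ⟨hfull, hfaith, hess⟩ := tildeD_fullyFaithful_essImage R
  refine ⟨(DCoh.tildeD R).obj ((RΓ R).obj K), (adjD R).counit.app K, isQCohD_tildeD R _, ?_⟩
  intro E hE
  obtain ⟨M, ⟨e⟩⟩ := (hess E).1 hE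
  have key : (fun φ : E ⟶ (DCoh.tildeD R).obj ((RΓ R).obj K) => φ ≫ (adjD R).counit.app K) ∘
      (fun ψ : M ⟶ (RΓ R).obj K => e.inv ≫ (DCoh.tildeD R).map ψ) =
      (fun χ : (DCoh.tildeD R).obj M ⟶ K => e.inv ≫ χ) ∘ ((adjD R).homEquiv M K).symm := by
    funext ψ
    simp only [Function.comp_apply, Category.assoc]
    rw [Adjunction.homEquiv_counit]
  have hb1 : Function.Bijective
      (fun ψ : M ⟶ (RΓ R).obj K => e.inv ≫ (DCoh.tildeD R).map ψ) := by
    constructor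
    · intro a b hab
      exact (DCoh.tildeD R).map_injective ((cancel_epi e.inv).1 hab)
    · intro φ
      obtain ⟨ψ, hψ⟩ := (DCoh.tildeD R).map_surjective (e.hom ≫ φ)
      exact ⟨ψ, by simp [hψ]⟩
  have hb2 : Function.Bijective
      ((fun χ : (DCoh.tildeD R).obj M ⟶ K => e.inv ≫ χ) ∘ ((adjD R).homEquiv M K).symm) := by
    refine Function.Bijective.comp ?_ ((adjD R).homEquiv M K).symm.bijective
    constructor
    · intro a b hab
      exact (cancel_epi e.inv).1 hab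
    · intro φ
      exact ⟨e.hom ≫ φ, by simp⟩
  rw [← key] at hb2
  exact (Function.Bijective.of_comp_iff _ hb1).1 hb2

end Spec

section Transport

variable {Y' Y : Scheme.{u}} (e : Y' ⟶ Y) [IsIso e]

theorem full_restrictD_of_isIso : (DCoh.restrictD e).Full := by
  haveI : (DCoh.restrictD (inv e)).Faithful := faithful_restrictD_of_isIso (inv e)
  have α : DCoh.restrictD e ⋙ DCoh.restrictD (inv e) ≅ 𝟭 (DCoh.D Y) :=
    mapDCCompIsoId (restrictFunctor e) (restrictFunctor (inv e))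
      ((restrictFunctorComp (inv e) e).symm ≪≫ restrictFunctorCongr (IsIso.inv_hom_id e) ≪≫
        restrictFunctorId)
  exact Functor.Full.of_comp_faithful_iso α

include e in
theorem hasCorefl_of_iso (h : HasCorefl Y') : HasCorefl Y := by
  intro K
  haveI := full_restrictD_of_isIso e
  haveI := faithful_restrictD_of_isIso e
  obtain ⟨Q', ε', hQ', hε'⟩ := h ((DCoh.restrictD e).obj K)
  have β : DCoh.restrictD (inv e) ⋙ DCoh.restrictD e ≅ 𝟭 (DCoh.D Y') :=
    mapDCCompIsoId (restrictFunctor (inv e)) (restrictFunctor e)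
      ((restrictFunctorComp e (inv e)).symm ≪≫ restrictFunctorCongr (IsIso.hom_inv_id e) ≪≫
        restrictFunctorId)
  let Q : DCoh.D Y := (DCoh.restrictD (inv e)).obj Q'
  have θ : (DCoh.restrictD e).obj Q ≅ Q' := β.app Q'
  obtain ⟨ε, hε⟩ := (DCoh.restrictD e).map_surjective (θ.hom ≫ ε')
  refine ⟨Q, ε, isQCohD_restrict (inv e) Q' hQ', fun E hE => ?_⟩
  have hFE : PQ Y' ((DCoh.restrictD e).obj E) := isQCohD_restrict e E hE
  constructor
  · intro χ₁ χ₂ h12
    have h1 : (DCoh.restrictD e).map χ₁ ≫ θ.hom ≫ ε' = (DCoh.restrictD e).map χ₂ ≫ θ.hom ≫ ε' := by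
      rw [← hε, ← Functor.map_comp, ← Functor.map_comp]
      exact congrArg _ h12
    have h2 := (hε' _ hFE).1 (by simpa using h1 :
      ((DCoh.restrictD e).map χ₁ ≫ θ.hom) ≫ ε' = ((DCoh.restrictD e).map χ₂ ≫ θ.hom) ≫ ε')
    exact (DCoh.restrictD e).map_injective ((cancel_mono θ.hom).1 h2)
  · intro ψ
    obtain ⟨χ', hχ'⟩ := (hε' _ hFE).2 ((DCoh.restrictD e).map ψ)
    have hχ'' : χ' ≫ ε' = (DCoh.restrictD e).map ψ := hχ'
    obtain ⟨χ, hχ⟩ := (DCoh.restrictD e).map_surjective (χ' ≫ θ.inv)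
    refine ⟨χ, (DCoh.restrictD e).map_injective ?_⟩
    rw [Functor.map_comp, hχ, hε, Category.assoc, Iso.inv_hom_id_assoc, hχ'']

end Transport

section Base

variable {X : Scheme.{u}}

/-- the derived adjunction `j^* ⊣ Rj_*` for an open immersion -/
noncomputable def adjOpen {U : Scheme.{u}} (j : U ⟶ X) [IsOpenImmersion j] :
    DCoh.restrictD j ⊣ DCoh.Rpush j :=
  Groth.Agent.Lib.Helper2.KInj.derivedAdjK (restrictAdjunction j) (KInjSch.hasKInj U)
    (DCoh.Rpush j)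
    ((DCoh.pushKh j).totalRightDerivedUnit DerivedCategory.Qh
      (HomotopyCategory.quasiIso U.Modules (ComplexShape.up ℤ)))

theorem hasCoreflOf_Rpush {U : Scheme.{u}} (j j' : U ⟶ X) [IsOpenImmersion j]
    [IsOpenImmersion j'] (hj : j' = j) [QuasiCompact j] (hU : HasCorefl U) (K : DCoh.D X) :
    HasCoreflOf ((DCoh.Rpush j').obj ((DCoh.restrictD j).obj K)) := by
  subst hj
  obtain ⟨Q', ε', hQ', hε'⟩ := hU ((DCoh.restrictD j').obj K)
  refine ⟨(DCoh.Rpush j').obj Q', (DCoh.Rpush j').map ε', isQCohD_Rpush j' Q' hQ',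
    fun E hE => ?_⟩
  have key : (fun φ : E ⟶ (DCoh.Rpush j').obj Q' => φ ≫ (DCoh.Rpush j').map ε') =
      ((adjOpen j').homEquiv E _) ∘ (fun ψ : (DCoh.restrictD j').obj E ⟶ Q' => ψ ≫ ε') ∘
        ((adjOpen j').homEquiv E Q').symm := by
    funext φ
    simp only [Function.comp_apply]
    rw [Adjunction.homEquiv_naturality_right, Equiv.apply_symm_apply]
  rw [key]
  exact ((adjOpen j').homEquiv E _).bijective.comp
    ((hε' _ (isQCohD_restrict j' E hE)).comp ((adjOpen j').homEquiv E Q').symm.bijective)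

/-- the coreflection statement attached to an open `W` of `X` -/
def CorW (W : X.Opens) : Prop := ∀ K : DCoh.D X, HasCoreflOf (RW (𝟙 X) W K)

theorem corW_of_isAffineOpen [QuasiSeparatedSpace X] (W : X.Opens) (hW : IsAffineOpen W) :
    CorW W := by
  intro K
  haveI : IsAffine (W : Scheme.{u}) := hW
  haveI : QuasiCompact W.ι := quasiCompact_of_compactSpace W.ι
  have h1 : HasCorefl (W : Scheme.{u}) :=
    hasCorefl_of_iso hW.isoSpec.inv (hasCorefl_Spec Γ(X, W))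
  exact hasCoreflOf_Rpush W.ι (W.ι ≫ 𝟙 X) (Category.comp_id _) h1 K

lemma bijOn_biprod_map {Q₁ Q₂ R₁ R₂ : DCoh.D X} (ε₁ : Q₁ ⟶ R₁) (ε₂ : Q₂ ⟶ R₂)
    (h₁ : BijOn (PQ X) ε₁) (h₂ : BijOn (PQ X) ε₂) : BijOn (PQ X) (biprod.map ε₁ ε₂) := by
  intro E hE
  constructor
  · intro φ φ' h
    have h' : φ ≫ biprod.map ε₁ ε₂ = φ' ≫ biprod.map ε₁ ε₂ := h
    apply biprod.hom_ext
    · apply (h₁ E hE).1
      have := congrArg (fun t => t ≫ biprod.fst) h'
      simpa using this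
    · apply (h₂ E hE).1
      have := congrArg (fun t => t ≫ biprod.snd) h'
      simpa using this
  · intro ψ
    obtain ⟨χ₁, hχ₁⟩ := (h₁ E hE).2 (ψ ≫ biprod.fst)
    obtain ⟨χ₂, hχ₂⟩ := (h₂ E hE).2 (ψ ≫ biprod.snd)
    refine ⟨biprod.lift χ₁ χ₂, ?_⟩
    change biprod.lift χ₁ χ₂ ≫ biprod.map ε₁ ε₂ = ψ
    have hχ₁' : χ₁ ≫ ε₁ = ψ ≫ biprod.fst := hχ₁
    have hχ₂' : χ₂ ≫ ε₂ = ψ ≫ biprod.snd := hχ₂
    apply biprod.hom_ext <;> simp [hχ₁', hχ₂']

theorem corW_sup (U V : X.Opens) (hU : CorW U) (hV : CorW V) (hUV : CorW (U ⊓ V)) :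
    CorW (U ⊔ V) := by
  intro K
  obtain ⟨a, b, c, hT'⟩ := exists_mv_triangle (𝟙 X) U V K
  obtain ⟨QU, εU, hQU, hεU⟩ := hU K
  obtain ⟨QV, εV, hQV, hεV⟩ := hV K
  obtain ⟨QUV, εUV, hQUV, hεUV⟩ := hUV K
  have hA : DCoh.IsQCohD (QU ⊞ QV) := isQCohD_biprod hQU hQV
  have hα := bijOn_biprod_map εU εV hεU hεV
  obtain ⟨β, hβ⟩ := (hεUV _ hA).2 (biprod.map εU εV ≫ b)
  have hβ' : β ≫ εUV = biprod.map εU εV ≫ b := hβ
  obtain ⟨Z, g, h, hT₀⟩ := distinguished_cocone_triangle β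
  have hZ : DCoh.IsQCohD Z := Groth.Agent.Lib.Helper2.Aff.AffPush.isQCohD_of_distTriang _ hT₀ hA hQUV
  have hT := inv_rot_of_distTriang _ hT₀
  obtain ⟨a₁, ha₁, ha₂⟩ := complete_distinguished_triangle_morphism₁ _ _ hT hT'
    (biprod.map εU εV) εUV hβ'
  let φ : (Triangle.mk β g h).invRotate ⟶ Triangle.mk a b c :=
    { hom₁ := a₁
      hom₂ := biprod.map εU εV
      hom₃ := εUV
      comm₁ := ha₁
      comm₂ := hβ'
      comm₃ := ha₂ }
  refine ⟨_, a₁, isQCohD_shift Z hZ (-1), ?_⟩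
  exact bijOn_hom₁ (PQ X) (pq_shift X) _ _ hT hT' φ hα hεUV

theorem corW_of_qc [QuasiSeparatedSpace X] {d : ℕ} {W : X.Opens} (h : QC d W) : CorW W := by
  induction h with
  | affine W h => exact corW_of_isAffineOpen W h
  | union d U V hU hV hUV ihU ihV ihUV => exact corW_sup U V ihU ihV ihUV
  | mono d d' W h hW ih => exact ih

end Base

section Global

variable (X : Scheme.{u}) [CompactSpace X] [QuasiSeparatedSpace X]

theorem hasCorefl_of_qcqs : HasCorefl X := by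
  intro K
  obtain ⟨d, hd⟩ := QC.exists_top (X := X)
  have h1 := corW_of_qc hd K
  haveI : IsIso ((⊤ : X.Opens).ι ≫ 𝟙 X) := by
    haveI : IsIso (⊤ : X.Opens).ι := (Scheme.topIso X).isIso_hom
    infer_instance
  obtain ⟨hfull, hfaith⟩ : (DCoh.restrictD ((⊤ : X.Opens).ι ≫ 𝟙 X)).Full ∧
      (DCoh.restrictD ((⊤ : X.Opens).ι ≫ 𝟙 X)).Faithful :=
    ⟨full_restrictD_of_isIso _, faithful_restrictD_of_isIso _⟩
  haveI : IsIso (adjOpen ((⊤ : X.Opens).ι ≫ 𝟙 X)).unit := inferInstance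
  obtain ⟨c⟩ : Nonempty ((DCoh.restrictD (⊤ : X.Opens).ι).obj K ≅
      (DCoh.restrictD ((⊤ : X.Opens).ι ≫ 𝟙 X)).obj K) := by
    have : ∀ (j j' : ((⊤ : X.Opens) : Scheme.{u}) ⟶ X) [IsOpenImmersion j] [IsOpenImmersion j']
        (_ : j' = j), Nonempty ((DCoh.restrictD j).obj K ≅ (DCoh.restrictD j').obj K) := by
      intro j j' _ _ h
      subst h
      exact ⟨Iso.refl _⟩
    exact this _ _ (Category.comp_id _)
  exact h1.of_iso ((DCoh.Rpush ((⊤ : X.Opens).ι ≫ 𝟙 X)).mapIso c ≪≫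
    (asIso ((adjOpen ((⊤ : X.Opens).ι ≫ 𝟙 X)).unit.app K)).symm)

/-- **the inclusion `D_QCoh(O_X) ⥤ D(O_X)` has a right adjoint** on a quasi-compact
quasi-separated scheme -/
theorem isLeftAdjoint_ι : (ObjectProperty.ι (DCoh.IsQCohD (X := X))).IsLeftAdjoint := by
  rw [isLeftAdjoint_iff_hasTerminal_costructuredArrow]
  intro K
  obtain ⟨Q, ε, hQ, hε⟩ := hasCorefl_of_qcqs X K
  let T : CostructuredArrow (ObjectProperty.ι (DCoh.IsQCohD (X := X))) K :=
    CostructuredArrow.mk (Y := (⟨Q, hQ⟩ : (DCoh.IsQCohD (X := X)).FullSubcategory)) ε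
  have hsurj : ∀ A : CostructuredArrow (ObjectProperty.ι (DCoh.IsQCohD (X := X))) K,
      ∃ χ : A.left.obj ⟶ Q, χ ≫ ε = A.hom := fun A =>
    (hε A.left.obj A.left.property).2 A.hom
  have hT : IsTerminal T := by
    refine IsTerminal.ofUniqueHom (fun A => CostructuredArrow.homMk
      (ObjectProperty.homMk (Classical.choose (hsurj A))) (Classical.choose_spec (hsurj A)))
      (fun A m => ?_)
    apply CostructuredArrow.hom_ext
    apply ObjectProperty.hom_ext
    apply (hε A.left.obj A.left.property).1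
    have h1 : m.left.hom ≫ ε = A.hom := CostructuredArrow.w m
    exact h1.trans (Classical.choose_spec (hsurj A)).symm
  exact hT.hasTerminal

end Global

end Groth.Agent.Lib.Helper2.Aff.Corefl
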