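import Mathlib.CategoryTheory.Adjunction.Basic
import Mathlib.CategoryTheory.ObjectProperty.FullSubcategory
import Mathlib.CategoryTheory.Yoneda

set_option autoImplicit false
universe v₁ v₂ u₁ u₂
open CategoryTheory

namespace Groth.Agent.Lib.Helper2.Aff

section Abstract

variable {C : Type u₁} {D : Type u₂} [Category.{v₁} C] [Category.{v₂} D]
  (P : ObjectProperty C) (Q : ObjectProperty D)
  (L : D ⥤ C) (R : C ⥤ D) (adj : L ⊣ R)
  (hL : ∀ N, Q N → P (L.obj N)) (hR : ∀ M, P M → Q (R.obj M))
  {RP : C ⥤ P.FullSubcategory} {RQ : D ⥤ Q.FullSubcategory} (aP : P.ι ⊣ RP) (aQ : Q.ι ⊣ RQ)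

include hL adj in
/-- coreflections commute with a right adjoint whose left adjoint preserves the subcategories -/
theorem isIso_coreflection_comparison (K : C) :
    IsIso (aQ.homEquiv (⟨R.obj (RP.obj K).obj, hR _ (RP.obj K).property⟩ : Q.FullSubcategory)
      (R.obj K) (R.map (aP.counit.app K))) := by
  rw [isIso_iff_yoneda_map_bijective]
  intro N
  let A : Q.FullSubcategory := ⟨R.obj (RP.obj K).obj, hR _ (RP.obj K).property⟩
  let LN : P.FullSubcategory := ⟨L.obj N.obj, hL _ N.property⟩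
  let Φ : (N ⟶ A) ≃ (N ⟶ RQ.obj (R.obj K)) :=
    (Q.fullyFaithfulι.homEquiv (X := N) (Y := A)).trans <|
      (adj.homEquiv N.obj (RP.obj K).obj).symm.trans <|
      (P.fullyFaithfulι.homEquiv (X := LN) (Y := RP.obj K)).symm.trans <|
      (aP.homEquiv LN K).symm.trans <| (adj.homEquiv N.obj K).trans (aQ.homEquiv N (R.obj K))
  have hΦ : (fun x : N ⟶ A => x ≫ aQ.homEquiv A (R.obj K) (R.map (aP.counit.app K))) = Φ := by
    funext g
    rw [← Adjunction.homEquiv_naturality_left]
    change _ = aQ.homEquiv N (R.obj K) (adj.homEquiv N.obj K ((aP.homEquiv LN K).symm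
      (ObjectProperty.homMk ((adj.homEquiv N.obj (RP.obj K).obj).symm g.hom))))
    congr 1
    rw [Adjunction.homEquiv_counit]
    change _ = adj.homEquiv N.obj K ((adj.homEquiv N.obj (RP.obj K).obj).symm g.hom ≫
      aP.counit.app K)
    rw [Adjunction.homEquiv_naturality_right, Equiv.apply_symm_apply]
    rfl
  rw [hΦ]
  exact Φ.bijective

end Abstract

end Groth.Agent.Lib.Helper2.Aff
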