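import Groth.Agent.Lib.Helper2.Aff.PCohAff
import Groth.Agent.Lib.Helper2.Stk.Tilde

set_option autoImplicit false
set_option linter.style.haveILetI false
universe u
open CategoryTheory CategoryTheory.Limits AlgebraicGeometry TopologicalSpace Opposite TensorProduct

attribute [local instance] HasDerivedCategory.standard

namespace Groth.Agent.Lib.Helper2.Aff.FlatAmp

open Groth.Agent.Lib.Helper18 Groth.Agent.Lib.Helper18.DR DerivedCategory

local notation "cc" => ComplexShape.up ℤ

section fam

variable (A : Type u) [CommRing A] {ι : Type*} (B : ι → Type u) [∀ i, CommRing (B i)]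
  [∀ i, Algebra A (B i)]

/-- a (possibly large) family of `A`-algebras along which vanishing and flatness descend -/
structure DescFam' : Prop where
  zero : ∀ (M : Type u) [AddCommGroup M] [Module A M],
    (∀ i, Subsingleton (B i ⊗[A] M)) → Subsingleton M
  flat : ∀ (M : Type u) [AddCommGroup M] [Module A M],
    (∀ i, Module.Flat (B i) (B i ⊗[A] M)) → Module.Flat A M

variable {A B} [∀ i, Module.Flat A (B i)] (hd : DescFam' A B)
include hd

lemma DescFam'.isZero_of_extM (M : ModuleCat.{u} A)
    (h : ∀ i, IsZero ((extM (A := A) (B := B i)).obj M)) : IsZero M := by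
  haveI : Subsingleton M := hd.zero M (fun i => by
    haveI : Subsingleton ((extM (A := A) (B := B i)).obj M) :=
      ModuleCat.subsingleton_of_isZero (h i)
    exact (extMEquiv (B := B i) M).symm.toEquiv.subsingleton)
  exact ModuleCat.isZero_of_subsingleton _

lemma DescFam'.isZero_H (K : Dual.D A) (j : ℤ)
    (h : ∀ i, IsZero ((H (B i) j).obj ((extD A (B i)).obj K))) : IsZero ((H A j).obj K) :=
  hd.isZero_of_extM _ (fun i => (h i).of_iso (homologyMapDIso extM K j).symm)

lemma DescFam'.isLE (K : Dual.D A) (n : ℤ) (h : ∀ i, ((extD A (B i)).obj K).IsLE n) :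
    K.IsLE n := by
  rw [DerivedCategory.isLE_iff]
  intro j hj
  exact hd.isZero_H K j (fun i => by haveI := h i; exact isZero_of_isLE _ n j hj)

lemma DescFam'.isGE (K : Dual.D A) (n : ℤ) (h : ∀ i, ((extD A (B i)).obj K).IsGE n) :
    K.IsGE n := by
  rw [DerivedCategory.isGE_iff]
  intro j hj
  exact hd.isZero_H K j (fun i => by haveI := h i; exact isZero_of_isGE _ n j hj)

/-- tor amplitude descends -/
theorem DescFam'.hasTorAmplitudeIn (K : Dual.D A) (a b : ℤ)
    (h : ∀ i, DRing.HasTorAmplitudeIn (B i) a b ((extD A (B i)).obj K)) :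
    DRing.HasTorAmplitudeIn A a b K := by
  haveI : K.IsLE b := hd.isLE K b (fun i => isLE_of_hasTorAmplitudeIn (h i))
  haveI : K.IsGE a := hd.isGE K a (fun i => isGE_of_hasTorAmplitudeIn (h i))
  obtain ⟨G, hGb, hGfree, ⟨eG⟩⟩ := exists_free_resolution K b
  have hGproj : ∀ j, Module.Projective A (G.X j) := fun j => by
    haveI := hGfree j; exact Module.Projective.of_free
  have hGflat : DRing.TermwiseFlat G := fun j => by haveI := hGproj j; infer_instance
  have hflat : Module.Flat A (cok G (a - 1) a) := by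
    refine hd.flat (cok G (a - 1) a) (fun i => ?_)
    have h1 : DRing.HasTorAmplitudeIn (B i) a b (DRing.toD
        (((extM (A := A) (B := B i)).mapHomologicalComplex (ComplexShape.up ℤ)).obj G)) :=
      hasTorAmplitudeIn_of_iso ((extD A (B i)).mapIso eG.symm ≪≫ mapDToDIso extM G) (h i)
    haveI := flat_cok_of_hasTorAmplitudeIn _ b (vanishesAbove_mapCx extM G b hGb)
      (fun j => by haveI := hGproj j; exact projective_extM (B := B i) (G.X j)) a b (a - 1)
      (by omega) h1
    exact Module.Flat.of_linearEquiv (cokExtMEquiv (B := B i) G (a - 1) a).symm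
  refine hasTorAmplitudeIn_of_iso eG
    (hasTorAmplitudeIn_of_flat_cok G b a b (a - 1) (by omega) hGb hGflat ?_ ?_ hflat)
  · intro j hj
    exact (isZero_of_isGE K a j hj).of_iso ((H A j).mapIso eG)
  · intro j hj
    exact (isZero_of_isLE K b j hj).of_iso ((H A j).mapIso eG)

end fam

section Stalks

variable (A : Type u) [CommRing A]

/-- the local ring of `Spec A` at `x` -/
abbrev Ox (x : PrimeSpectrum A) : Type u := (Spec (CommRingCat.of A)).presheaf.stalk x

noncomputable instance algOx (x : PrimeSpectrum A) : Algebra A (Ox A x) :=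
  (Stk.ρst (CommRingCat.of A) x).toAlgebra

instance isLocalization_Ox (x : PrimeSpectrum A) : IsLocalization.AtPrime (Ox A x) x.asIdeal :=
  StructureSheaf.IsLocalization.to_stalk (R := A) x

instance flat_Ox (x : PrimeSpectrum A) : Module.Flat A (Ox A x) :=
  IsLocalization.flat (Ox A x) x.asIdeal.primeCompl

instance isLocalization_Ox' (P : Ideal A) [hP : P.IsMaximal] :
    IsLocalization P.primeCompl (Ox A ⟨P, hP.isPrime⟩) :=
  isLocalization_Ox A ⟨P, hP.isPrime⟩

instance isLocalizedModule_Ox (M : Type u) [AddCommGroup M] [Module A M] (P : Ideal A)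
    [hP : P.IsMaximal] :
    IsLocalizedModule P.primeCompl (TensorProduct.mk A (Ox A ⟨P, hP.isPrime⟩) M 1) :=
  IsLocalization.tensorProduct_isLocalizedModule (S := P.primeCompl)
    (A := Ox A ⟨P, hP.isPrime⟩) (M := M)

theorem descFam_stalks : DescFam' A (fun x : PrimeSpectrum A => Ox A x) where
  zero M _ _ h := by
    refine @Module.subsingleton_of_localization_maximal A M _ _ _
      (fun P hP => Ox A ⟨P, hP.isPrime⟩ ⊗[A] M) _ _
      (fun P hP => TensorProduct.mk A (Ox A ⟨P, hP.isPrime⟩) M 1)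
      (fun P hP => isLocalizedModule_Ox A M P) ?_
    intro P hP
    exact h ⟨P, hP.isPrime⟩
  flat M _ _ h := by
    refine @Module.flat_of_isLocalized_maximal A A _ _ _ M _ _ _ _
      (fun P hP => Ox A ⟨P, hP.isPrime⟩ ⊗[A] M) _ _ _ _
      (fun P hP => TensorProduct.mk A (Ox A ⟨P, hP.isPrime⟩) M 1)
      (fun P hP => isLocalizedModule_Ox A M P) ?_
    intro P hP
    haveI := h ⟨P, hP.isPrime⟩
    exact Module.Flat.trans A (Ox A ⟨P, hP.isPrime⟩) _

end Stalks

section Main

open Groth.Agent.Lib.Helper2.Aff.PerfAff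

variable (A : Type u) [CommRing A] [PreservesFiniteLimits (tilde.functor (CommRingCat.of A))]

theorem hasTorAmplitudeIn_of_hasFlatAmplitudeIn_tildeD (M : Dual.D A) (a b : ℤ)
    (h : DCoh.HasFlatAmplitudeIn a b ((DCoh.tildeD (CommRingCat.of A)).obj M)) :
    DRing.HasTorAmplitudeIn A a b M := by
  let K := DerivedCategory.Q.objPreimage M
  let i : DerivedCategory.Q.obj K ≅ M := DerivedCategory.Q.objObjPreimageIso M
  obtain ⟨E, hv, hfl, ⟨e⟩⟩ := h
  have h1 : DRing.HasTorAmplitudeIn A a b (DRing.toD K) := by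
    refine (descFam_stalks A).hasTorAmplitudeIn (DRing.toD K) a b (fun x => ?_)
    let Φx : (Spec (CommRingCat.of A)).Modules ⥤ ModuleCat.{u} (Ox A x) :=
      Stk.Φ (X := Spec (CommRingCat.of A)) x
    have hflat : DRing.TermwiseFlat ((Φx.mapHomologicalComplex cc).obj E) := fun j => hfl j x
    refine ⟨(Φx.mapHomologicalComplex cc).obj E,
      fun j hj => Φx.map_isZero (hv j hj), hflat, ⟨?_⟩⟩
    exact (Φx.mapDerivedCategoryFactors.app E).symm ≪≫
      Φx.mapDerivedCategory.mapIso (e ≪≫
        (DCoh.tildeD (CommRingCat.of A)).mapIso i.symm ≪≫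
        (tilde.functor (CommRingCat.of A)).mapDerivedCategoryFactors.app K) ≪≫
      Φx.mapDerivedCategoryFactors.app _ ≪≫
      DerivedCategory.Q.mapIso
        ((NatIso.mapHomologicalComplex (Stk.tildeStalkIso (CommRingCat.of A) x) cc).app K) ≪≫
      (mapDToDIso extM K).symm
  exact hasTorAmplitudeIn_of_iso i h1

theorem hasFlatAmplitudeIn_tildeD_of_hasTorAmplitudeIn (M : Dual.D A) (a b : ℤ)
    (h : DRing.HasTorAmplitudeIn A a b M) :
    DCoh.HasFlatAmplitudeIn a b ((DCoh.tildeD (CommRingCat.of A)).obj M) := by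
  obtain ⟨E, hv, hfl, ⟨e⟩⟩ := h
  refine ⟨(tildeCx (CommRingCat.of A)).obj E,
    fun j hj => (tilde.functor (CommRingCat.of A)).map_isZero (hv j hj), fun j x => ?_,
    ⟨((tilde.functor (CommRingCat.of A)).mapDerivedCategoryFactors.app E).symm ≪≫
      (DCoh.tildeD (CommRingCat.of A)).mapIso e⟩⟩
  haveI := hfl j
  haveI : Module.Flat (Ox A x) ((extM (A := A) (B := Ox A x)).obj (E.X j)) := flat_extM _
  exact Module.Flat.of_linearEquiv
    ((Stk.tildeStalkIso (CommRingCat.of A) x).app (E.X j)).toLinearEquiv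

theorem hasFlatAmplitudeIn_tildeD_iff (M : Dual.D A) (a b : ℤ) :
    DCoh.HasFlatAmplitudeIn a b ((DCoh.tildeD (CommRingCat.of A)).obj M) ↔
      DRing.HasTorAmplitudeIn A a b M :=
  ⟨hasTorAmplitudeIn_of_hasFlatAmplitudeIn_tildeD A M a b,
    hasFlatAmplitudeIn_tildeD_of_hasTorAmplitudeIn A M a b⟩

end Main

end Groth.Agent.Lib.Helper2.Aff.FlatAmp
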