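import Groth.Agent.Lib.Helper2.Aff.QcqsMV
import Groth.Agent.Lib.Helper2.Stk.DerivedTri

/-!
# Mayer–Vietoris for vanishing of `Hom` in `D(O_X)` (helper2)
-/

set_option autoImplicit false
universe u
open CategoryTheory CategoryTheory.Limits AlgebraicGeometry TopologicalSpace Opposite
  CategoryTheory.Pretriangulated

attribute [local instance] HasDerivedCategory.standard

namespace Groth.Agent.Lib.Helper2.Aff.HomVan

open Groth.Agent.Lib.Helper2 Groth.Agent.Lib.Helper2.Stk Groth.Agent.Lib.Helper2.Aff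
  AlgebraicGeometry.Scheme.Modules Groth.Agent.Lib.Helper13 Groth.Agent.Lib.Helper3
  Groth.Agent.Lib.Helper2.Aff.Qcqs Groth.Agent.Lib.Helper13.QCDim

attribute [local instance] Groth.Agent.Lib.Helper2.Stk.hasRpush

variable {X : Scheme.{u}}

/-- vanishing of `Hom(K|_U, L|_U)` for an open immersion `j : U ⟶ X` -/
def VanJ {U : Scheme.{u}} (j : U ⟶ X) [IsOpenImmersion j] (K L : DCoh.D X) : Prop :=
  ∀ φ : (DCoh.restrictD j).obj K ⟶ (DCoh.restrictD j).obj L, φ = 0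

lemma vanJ_iff_adj {U : Scheme.{u}} (j : U ⟶ X) [IsOpenImmersion j] (K L : DCoh.D X) :
    VanJ j K L ↔ ∀ ψ : K ⟶ (DCoh.Rpush j).obj ((DCoh.restrictD j).obj L), ψ = 0 := by
  haveI := hasLpull j
  obtain ⟨e⟩ := nonempty_Lpull_openImmersion_iso j K
  obtain ⟨cs, tri⟩ := exists_isTriangulated_Rpush j
  constructor
  · intro h ψ
    have h1 := h (e.inv ≫ ((LpullRpushAdj j).homEquiv K _).symm ψ)
    have h2 : ((LpullRpushAdj j).homEquiv K _).symm ψ = 0 := by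
      rw [← cancel_epi e.inv, h1, comp_zero]
    have h3 := congrArg ((LpullRpushAdj j).homEquiv K _) h2
    rw [Equiv.apply_symm_apply] at h3
    rw [h3, Adjunction.homEquiv_unit, Functor.map_zero, comp_zero]
  · intro h φ
    have h1 := h ((LpullRpushAdj j).homEquiv K _ (e.hom ≫ φ))
    have h2 : e.hom ≫ φ = 0 := by
      apply ((LpullRpushAdj j).homEquiv K _).injective
      rw [h1, Adjunction.homEquiv_unit, Functor.map_zero, comp_zero]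
    rw [← cancel_epi e.hom, h2, comp_zero]

lemma vanJ_iff_adj' {U : Scheme.{u}} (j j' : U ⟶ X) [IsOpenImmersion j] (hj : j' = j)
    (K L : DCoh.D X) :
    VanJ j K L ↔ ∀ ψ : K ⟶ (DCoh.Rpush j').obj ((DCoh.restrictD j).obj L), ψ = 0 := by
  subst hj
  exact vanJ_iff_adj j' K L

/-- **Mayer–Vietoris for vanishing of `Hom`** -/
theorem vanJ_sup (W₁ W₂ : X.Opens) (K L : DCoh.D X) (h₁ : VanJ W₁.ι K L) (h₂ : VanJ W₂.ι K L)
    (h₁₂ : VanJ (W₁ ⊓ W₂).ι K (L⟦(-1 : ℤ)⟧)) : VanJ (W₁ ⊔ W₂).ι K L := by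
  obtain ⟨a, b, c, hT⟩ := exists_mv_triangle (𝟙 X) W₁ W₂ L
  rw [vanJ_iff_adj' _ ((W₁ ⊔ W₂).ι ≫ 𝟙 X) (Category.comp_id _)]
  rw [vanJ_iff_adj' _ (W₁.ι ≫ 𝟙 X) (Category.comp_id _)] at h₁
  rw [vanJ_iff_adj' _ (W₂.ι ≫ 𝟙 X) (Category.comp_id _)] at h₂
  rw [vanJ_iff_adj' _ ((W₁ ⊓ W₂).ι ≫ 𝟙 X) (Category.comp_id _)] at h₁₂
  intro ψ
  have hψa : ψ ≫ a = 0 := by
    apply biprod.hom_ext
    · rw [zero_comp]; exact h₁ _
    · rw [zero_comp]; exact h₂ _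
  obtain ⟨χ, hχ⟩ := Triangle.coyoneda_exact₂ _ (inv_rot_of_distTriang _ hT) ψ hψa
  obtain ⟨cs, tri⟩ := exists_isTriangulated_Rpush ((W₁ ⊓ W₂).ι ≫ 𝟙 X)
  let ε : (RW (𝟙 X) (W₁ ⊓ W₂) L)⟦(-1 : ℤ)⟧ ≅
      (DCoh.Rpush ((W₁ ⊓ W₂).ι ≫ 𝟙 X)).obj ((DCoh.restrictD (W₁ ⊓ W₂).ι).obj (L⟦(-1 : ℤ)⟧)) :=
    ((DCoh.Rpush ((W₁ ⊓ W₂).ι ≫ 𝟙 X)).commShiftIso (-1 : ℤ)).symm.app _ ≪≫
      (DCoh.Rpush ((W₁ ⊓ W₂).ι ≫ 𝟙 X)).mapIso
        (((DCoh.restrictD (W₁ ⊓ W₂).ι).commShiftIso (-1 : ℤ)).symm.app L)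
  have hχ0 : χ = 0 := by
    have := h₁₂ (χ ≫ ε.hom)
    exact (cancel_mono ε.hom).1 (this.trans zero_comp.symm)
  rw [hχ, hχ0]
  exact zero_comp

/-- the induction along a Mayer–Vietoris certificate -/
theorem exists_vanJ_of_qc (𝒦 : DCoh.D X → Prop) (Φ : ℕ → DCoh.D X → Prop)
    (hshift : ∀ n L, Φ (n + 1) L → Φ n (L⟦(-1 : ℤ)⟧))
    (hmono : ∀ n n' L, n ≤ n' → Φ n' L → Φ n L)
    (hbase : ∀ W : X.Opens, IsAffineOpen W →
      ∃ n, ∀ K, 𝒦 K → ∀ L, Φ n L → VanJ W.ι K L)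
    {d : ℕ} {W : X.Opens} (h : QC d W) : ∃ n, ∀ K, 𝒦 K → ∀ L, Φ n L → VanJ W.ι K L := by
  induction h with
  | affine W h => exact hbase W h
  | union d U V hU hV hUV ihU ihV ihUV =>
    obtain ⟨n₁, h₁⟩ := ihU
    obtain ⟨n₂, h₂⟩ := ihV
    obtain ⟨n₃, h₃⟩ := ihUV
    refine ⟨max (max n₁ n₂) (n₃ + 1), fun K hK L hL => ?_⟩
    apply vanJ_sup
    · exact h₁ K hK L (hmono _ _ L (le_trans (le_max_left _ _) (le_max_left _ _)) hL)
    · exact h₂ K hK L (hmono _ _ L (le_trans (le_max_right _ _) (le_max_left _ _)) hL)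
    · exact h₃ K hK _ (hshift _ L (hmono _ _ L (le_max_right _ _) hL))
  | mono d d' W h hW ih => exact ih

end Groth.Agent.Lib.Helper2.Aff.HomVan
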