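import Groth.Agent.Lib.Helper2.Aff.PerfAff2
import Groth.Agent.Lib.Helper13.LocNull
import Groth.Agent.Lib.Helper2.Aff.AffPush
import Groth.Agent.Lib.Helper14.TildeExact

/-!
# Morphisms out of a bounded above complex of finite locally free modules on an affine scheme
(helper2)

On an affine scheme `X`, for a bounded above complex `E` of finite locally free modules and a
complex `F` of quasi-coherent modules, `Hom_{K(O_X)}(E, F) → Hom_{D(O_X)}(E, F)` is bijective.
-/

set_option autoImplicit false
universe u v w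
open CategoryTheory CategoryTheory.Limits AlgebraicGeometry TopologicalSpace Opposite

attribute [local instance] HasDerivedCategory.standard

namespace Groth.Agent.Lib.Helper2.Aff.KProjAff

local notation "cc" => ComplexShape.up ℤ

section Abstract

lemma bijective_map_of_iso {C D : Type*} [Category C] [Category D] (G : C ⥤ D) {A A' B B' : C}
    (a : A ≅ A') (b : B ≅ B')
    (h : Function.Bijective (fun φ : A ⟶ B => G.map φ)) :
    Function.Bijective (fun φ : A' ⟶ B' => G.map φ) := by
  constructor
  · intro φ₁ φ₂ h12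
    have h12' : G.map φ₁ = G.map φ₂ := h12
    have : G.map (a.hom ≫ φ₁ ≫ b.inv) = G.map (a.hom ≫ φ₂ ≫ b.inv) := by
      simp only [Functor.map_comp, h12']
    have h3 := h.1 this
    have h4 : a.inv ≫ (a.hom ≫ φ₁ ≫ b.inv) ≫ b.hom = a.inv ≫ (a.hom ≫ φ₂ ≫ b.inv) ≫ b.hom := by
      rw [h3]
    simpa using h4
  · intro ψ
    obtain ⟨φ, hφ⟩ := h.2 (G.map a.hom ≫ ψ ≫ G.map b.inv)
    refine ⟨a.inv ≫ φ ≫ b.hom, ?_⟩
    have hφ' : G.map φ = G.map a.hom ≫ ψ ≫ G.map b.inv := hφ
    show G.map (a.inv ≫ φ ≫ b.hom) = ψ
    rw [Functor.map_comp, Functor.map_comp, hφ']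
    simp only [Category.assoc, ← Functor.map_comp, Iso.inv_hom_id]
    simp

variable {A : Type u} [Category.{v} A] [Abelian A] {B : Type u} [Category.{v} B] [Abelian B]
  [HasDerivedCategory.{w} A] [HasDerivedCategory.{w} B]
  (Φ : A ⥤ B) [Φ.Additive] [PreservesFiniteLimits Φ] [PreservesFiniteColimits Φ]

/-- the basic commutative square -/
lemma sq {K L : HomotopyCategory A cc} (φ : K ⟶ L) :
    DerivedCategory.Qh.map ((Φ.mapHomotopyCategory cc).map φ) =
      Φ.mapDerivedCategoryFactorsh.inv.app K ≫
        Φ.mapDerivedCategory.map (DerivedCategory.Qh.map φ) ≫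
          Φ.mapDerivedCategoryFactorsh.hom.app L := by
  have := Φ.mapDerivedCategoryFactorsh.hom.naturality φ
  dsimp only [Functor.comp_map] at this
  rw [this, Iso.inv_hom_id_app_assoc]

variable [Φ.Full] [Φ.Faithful]

/-- push a bijection forward along a fully faithful exact functor whose derived functor is fully
faithful -/
theorem bijective_push' [Φ.mapDerivedCategory.Full] [Φ.mapDerivedCategory.Faithful]
    (K L : HomotopyCategory A cc)
    (h : Function.Bijective (fun φ : K ⟶ L => DerivedCategory.Qh.map φ)) :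
    Function.Bijective (fun φ : (Φ.mapHomotopyCategory cc).obj K ⟶
      (Φ.mapHomotopyCategory cc).obj L => DerivedCategory.Qh.map φ) := by
  constructor
  · intro φ₁ φ₂ h12
    have h12' : DerivedCategory.Qh.map φ₁ = DerivedCategory.Qh.map φ₂ := h12
    obtain ⟨ψ₁, rfl⟩ := (Φ.mapHomotopyCategory cc).map_surjective φ₁
    obtain ⟨ψ₂, rfl⟩ := (Φ.mapHomotopyCategory cc).map_surjective φ₂
    rw [sq, sq] at h12'
    have h3 : Φ.mapDerivedCategory.map (DerivedCategory.Qh.map ψ₁) =
        Φ.mapDerivedCategory.map (DerivedCategory.Qh.map ψ₂) := by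
      have := congrArg (fun t => Φ.mapDerivedCategoryFactorsh.hom.app _ ≫ t ≫
        Φ.mapDerivedCategoryFactorsh.inv.app _) h12'
      simpa using this
    have h4 := Φ.mapDerivedCategory.map_injective h3
    rw [h.1 h4]
  · intro ψ
    obtain ⟨ψ₀, hψ₀⟩ := Φ.mapDerivedCategory.map_surjective
      (Φ.mapDerivedCategoryFactorsh.hom.app K ≫ ψ ≫ Φ.mapDerivedCategoryFactorsh.inv.app L)
    obtain ⟨φ₀, hφ₀⟩ := h.2 ψ₀
    have hφ₀' : DerivedCategory.Qh.map φ₀ = ψ₀ := hφ₀
    refine ⟨(Φ.mapHomotopyCategory cc).map φ₀, ?_⟩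
    show DerivedCategory.Qh.map ((Φ.mapHomotopyCategory cc).map φ₀) = ψ
    rw [sq, hφ₀', hψ₀]
    simp

/-- pull a bijection back along a fully faithful exact functor whose derived functor is
faithful -/
theorem bijective_pull' [Φ.mapDerivedCategory.Faithful]
    (K L : HomotopyCategory A cc)
    (h : Function.Bijective (fun φ : (Φ.mapHomotopyCategory cc).obj K ⟶
      (Φ.mapHomotopyCategory cc).obj L => DerivedCategory.Qh.map φ)) :
    Function.Bijective (fun φ : K ⟶ L => DerivedCategory.Qh.map φ) := by
  constructor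
  · intro φ₁ φ₂ h12
    have h12' : DerivedCategory.Qh.map φ₁ = DerivedCategory.Qh.map φ₂ := h12
    apply (Φ.mapHomotopyCategory cc).map_injective
    apply h.1
    show DerivedCategory.Qh.map ((Φ.mapHomotopyCategory cc).map φ₁) =
      DerivedCategory.Qh.map ((Φ.mapHomotopyCategory cc).map φ₂)
    rw [sq, sq, h12']
  · intro ψ
    obtain ⟨γ, hγ⟩ := h.2
      (Φ.mapDerivedCategoryFactorsh.inv.app K ≫ Φ.mapDerivedCategory.map ψ ≫
          Φ.mapDerivedCategoryFactorsh.hom.app L)
    have hγ' : DerivedCategory.Qh.map γ =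
      Φ.mapDerivedCategoryFactorsh.inv.app K ≫ Φ.mapDerivedCategory.map ψ ≫
          Φ.mapDerivedCategoryFactorsh.hom.app L := hγ
    obtain ⟨φ, rfl⟩ := (Φ.mapHomotopyCategory cc).map_surjective γ
    refine ⟨φ, ?_⟩
    show DerivedCategory.Qh.map φ = ψ
    apply Φ.mapDerivedCategory.map_injective
    rw [sq] at hγ'
    have := congrArg (fun t => Φ.mapDerivedCategoryFactorsh.hom.app _ ≫ t ≫
      Φ.mapDerivedCategoryFactorsh.inv.app _) hγ'
    simpa using this

theorem bijective_push [Φ.mapDerivedCategory.Full] [Φ.mapDerivedCategory.Faithful]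
    (P N : CochainComplex A ℤ)
    (h : Function.Bijective (fun φ : (HomotopyCategory.quotient A cc).obj P ⟶
      (HomotopyCategory.quotient A cc).obj N => DerivedCategory.Qh.map φ)) :
    Function.Bijective (fun φ : (HomotopyCategory.quotient B cc).obj
        ((Φ.mapHomologicalComplex cc).obj P) ⟶
      (HomotopyCategory.quotient B cc).obj ((Φ.mapHomologicalComplex cc).obj N) =>
        DerivedCategory.Qh.map φ) :=
  bijective_push' Φ _ _ h

theorem bijective_pull [Φ.mapDerivedCategory.Faithful]
    (E F : CochainComplex A ℤ)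
    (h : Function.Bijective (fun φ : (HomotopyCategory.quotient B cc).obj
        ((Φ.mapHomologicalComplex cc).obj E) ⟶
      (HomotopyCategory.quotient B cc).obj ((Φ.mapHomologicalComplex cc).obj F) =>
        DerivedCategory.Qh.map φ)) :
    Function.Bijective (fun φ : (HomotopyCategory.quotient A cc).obj E ⟶
      (HomotopyCategory.quotient A cc).obj F => DerivedCategory.Qh.map φ) :=
  bijective_pull' Φ _ _ h

end Abstract

section Retract

variable {A : Type u} [Category.{v} A] [Abelian A] {B : Type u} [Category.{v} B] [Abelian B]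
  [HasDerivedCategory.{w} A] [HasDerivedCategory.{w} B]
  (Φ : A ⥤ B) [Φ.Additive] [PreservesFiniteLimits Φ] [PreservesFiniteColimits Φ]
  (Ψ : B ⥤ A) [Ψ.Additive] [PreservesFiniteLimits Ψ] [PreservesFiniteColimits Ψ]
  (η : Φ ⋙ Ψ ≅ 𝟭 A)

/-- `Ψ Φ ≅ id` on complexes -/
noncomputable def compCxIso :
    Φ.mapHomologicalComplex cc ⋙ Ψ.mapHomologicalComplex cc ≅ 𝟭 (CochainComplex A ℤ) :=
  NatIso.ofComponents
    (fun K => HomologicalComplex.Hom.isoOfComponents (fun n => η.app (K.X n))
      (fun i j _ => (η.hom.naturality (K.d i j)).symm))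
    (fun {K L} f => by
      ext n
      exact η.hom.naturality (f.f n))

/-- `Ψ_D Φ_D ≅ id` on derived categories -/
noncomputable def derivedCompIso :
    Φ.mapDerivedCategory ⋙ Ψ.mapDerivedCategory ≅ 𝟭 (DerivedCategory A) :=
  Localization.liftNatIso DerivedCategory.Q (HomologicalComplex.quasiIso A cc)
    (DerivedCategory.Q ⋙ (Φ.mapDerivedCategory ⋙ Ψ.mapDerivedCategory))
    (DerivedCategory.Q ⋙ 𝟭 (DerivedCategory A)) _ _
    ((Functor.associator _ _ _).symm ≪≫
      Functor.isoWhiskerRight Φ.mapDerivedCategoryFactors Ψ.mapDerivedCategory ≪≫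
      Functor.associator _ _ _ ≪≫
      Functor.isoWhiskerLeft (Φ.mapHomologicalComplex cc) Ψ.mapDerivedCategoryFactors ≪≫
      (Functor.associator _ _ _).symm ≪≫
      Functor.isoWhiskerRight (compCxIso Φ Ψ η) DerivedCategory.Q ≪≫
      Functor.leftUnitor _ ≪≫ (Functor.rightUnitor _).symm)

include η in
theorem faithful_mapDerivedCategory : Φ.mapDerivedCategory.Faithful :=
  Functor.Faithful.of_comp_iso (derivedCompIso Φ Ψ η)

end Retract

section Spec

open Groth.Agent.Lib.Helper2.Aff.PerfAff Groth.Agent.Lib.Helper3 AlgebraicGeometry.Scheme.Modules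

attribute [local instance] Groth.Agent.Lib.Helper14.preservesFiniteLimits_tilde

variable (R : CommRingCat.{u})

/-- the case of `Spec R` -/
theorem bijective_spec (E F : CochainComplex (Spec R).Modules ℤ) (b : ℤ)
    (hEb : ∀ i : ℤ, b < i → IsZero (E.X i))
    (hE : ∀ i : ℤ, FlatMod.IsFinLocFree (E.X i)) (hF : ∀ i : ℤ, Coh.IsQCoh (F.X i)) :
    Function.Bijective (fun φ : (HomotopyCategory.quotient (Spec R).Modules cc).obj E ⟶
      (HomotopyCategory.quotient (Spec R).Modules cc).obj F => DerivedCategory.Qh.map φ) := by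
  have hEq : ∀ i, (E.X i).IsQuasicoherent := fun i =>
    LocFreeCrit.isQuasicoherent_of_isFinLocFree (hE i)
  let P := (ΓCx R).obj E
  let N := (ΓCx R).obj F
  let eE : (tildeCx R).obj P ≅ E := tildeΓCxIso R E hEq
  let eF : (tildeCx R).obj N ≅ F := tildeΓCxIso R F hF
  haveI : P.IsStrictlyLE b := by
    rw [CochainComplex.isStrictlyLE_iff]
    intro i hi
    exact (moduleSpecΓFunctor (R := R)).map_isZero (hEb i hi)
  haveI : ∀ n : ℤ, Projective (P.X n) := by
    intro n
    have h1 : Module.Projective R (moduleSpecΓFunctor.obj (E.X n)) :=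
      (finite_projective_Γ R (E.X n) (hE n)).2
    exact (IsProjective.iff_projective (R := R) (P := moduleSpecΓFunctor.obj (E.X n))).1 h1
  haveI : P.IsKProjective := CochainComplex.isKProjective_of_projective P b
  have h0 := CochainComplex.IsKProjective.Qh_map_bijective P
    ((HomotopyCategory.quotient _ cc).obj N)
  obtain ⟨hfull, hfaith, -⟩ := tildeD_fullyFaithful_essImage R
  haveI : (tilde.functor R).mapDerivedCategory.Full := hfull
  haveI : (tilde.functor R).mapDerivedCategory.Faithful := hfaith
  have h1 := bijective_push (tilde.functor R) P N h0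
  exact bijective_map_of_iso DerivedCategory.Qh
    ((HomotopyCategory.quotient _ cc).mapIso eE) ((HomotopyCategory.quotient _ cc).mapIso eF) h1

end Spec

section Affine

open AlgebraicGeometry.Scheme.Modules Groth.Agent.Lib.Helper2.Aff.AffPush

/-- on an affine scheme, morphisms in the homotopy category from a bounded above complex of
finite locally free modules to a complex of quasi-coherent modules agree with the morphisms in
the derived category -/
theorem bijective_affine {X : Scheme.{u}} [IsAffine X]
    (E F : CochainComplex X.Modules ℤ) (b : ℤ) (hEb : ∀ i : ℤ, b < i → IsZero (E.X i))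
    (hE : ∀ i : ℤ, FlatMod.IsFinLocFree (E.X i)) (hF : ∀ i : ℤ, Coh.IsQCoh (F.X i)) :
    Function.Bijective (fun φ : (HomotopyCategory.quotient X.Modules cc).obj E ⟶
      (HomotopyCategory.quotient X.Modules cc).obj F => DerivedCategory.Qh.map φ) := by
  let e := X.isoSpec
  let Eq := restrictEquiv e
  let Φ : X.Modules ⥤ (Spec Γ(X, ⊤)).Modules := restrictFunctor e.inv
  let Ψ : (Spec Γ(X, ⊤)).Modules ⥤ X.Modules := restrictFunctor e.hom
  haveI : Φ.IsEquivalence := Eq.isEquivalence_inverse
  haveI : Ψ.IsEquivalence := Eq.isEquivalence_functor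
  haveI : Φ.Additive := Functor.additive_of_preserves_binary_products Φ
  haveI : Ψ.Additive := Functor.additive_of_preserves_binary_products Ψ
  let η : Φ ⋙ Ψ ≅ 𝟭 X.Modules := Eq.counitIso
  haveI : Φ.mapDerivedCategory.Faithful := faithful_mapDerivedCategory Φ Ψ η
  apply bijective_pull Φ E F
  refine bijective_spec Γ(X, ⊤) _ _ b (fun i hi => Φ.map_isZero (hEb i hi))
    (fun i => Groth.Agent.Lib.Helper13.LocNull.isFinLocFree_restrict e.inv (E.X i) (hE i))
    (fun i => ?_)
  haveI : (F.X i).IsQuasicoherent := hF i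
  exact Scheme.Modules.isQuasicoherent_restrictFunctor e.inv (F.X i)

/-- a chain map from a bounded above complex of finite locally free modules to a complex of
quasi-coherent modules on an affine scheme which vanishes in the derived category is null
homotopic -/
theorem nullHomotopic_of_Q_map_eq_zero {X : Scheme.{u}} [IsAffine X]
    (E F : CochainComplex X.Modules ℤ) (b : ℤ) (hEb : ∀ i : ℤ, b < i → IsZero (E.X i))
    (hE : ∀ i : ℤ, FlatMod.IsFinLocFree (E.X i)) (hF : ∀ i : ℤ, Coh.IsQCoh (F.X i))
    (f : E ⟶ F) (h : DerivedCategory.Q.map f = 0) : Nonempty (Homotopy f 0) := by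
  have inj := (bijective_affine E F b hEb hE hF).1
  have key : ∀ g : E ⟶ F, DerivedCategory.Qh.map ((HomotopyCategory.quotient X.Modules cc).map g) =
      (DerivedCategory.quotientCompQhIso X.Modules).hom.app E ≫ DerivedCategory.Q.map g ≫
        (DerivedCategory.quotientCompQhIso X.Modules).inv.app F := by
    intro g
    have := (DerivedCategory.quotientCompQhIso X.Modules).hom.naturality g
    dsimp only [Functor.comp_map] at this
    rw [← Category.assoc, ← this, Category.assoc, Iso.hom_inv_id_app, Category.comp_id]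
  have h1 : (HomotopyCategory.quotient X.Modules cc).map f =
      (HomotopyCategory.quotient X.Modules cc).map 0 := by
    apply inj
    show DerivedCategory.Qh.map ((HomotopyCategory.quotient X.Modules cc).map f) =
      DerivedCategory.Qh.map ((HomotopyCategory.quotient X.Modules cc).map 0)
    rw [key f, key 0, h, Functor.map_zero]
  exact ⟨HomotopyCategory.homotopyOfEq _ _ h1⟩

end Affine

section Gen

open ZeroObject

variable {A : Type u} [Category.{v} A] [Abelian A] [HasDerivedCategory.{w} A]

lemma isZero_Q_obj_of_acyclic (L : CochainComplex A ℤ) (hL : L.Acyclic) :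
    IsZero (DerivedCategory.Q.obj L) := by
  have h0 : (0 : CochainComplex A ℤ).Acyclic := by
    intro n
    rw [HomologicalComplex.exactAt_iff_isZero_homology]
    exact Functor.map_isZero (HomologicalComplex.homologyFunctor _ _ n) (isZero_zero _)
  haveI : QuasiIso (0 : L ⟶ 0) := by
    rw [quasiIso_iff]
    intro i
    rw [quasiIsoAt_iff_exactAt (0 : L ⟶ 0) i (hL i)]
    exact h0 i
  haveI : IsIso (DerivedCategory.Q.map (0 : L ⟶ 0)) :=
    (DerivedCategory.isIso_Q_map_iff_quasiIso _ _).2 inferInstance
  exact IsZero.of_iso (Functor.map_isZero DerivedCategory.Q (isZero_zero _))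
    (asIso (DerivedCategory.Q.map (0 : L ⟶ 0)))

lemma acyclic_of_homotopy_id_zero (L : CochainComplex A ℤ) (h : Homotopy (𝟙 L) 0) :
    L.Acyclic := by
  intro n
  rw [HomologicalComplex.exactAt_iff_isZero_homology, IsZero.iff_id_eq_zero]
  have := h.homologyMap_eq n
  rw [HomologicalComplex.homologyMap_id, HomologicalComplex.homologyMap_zero] at this
  exact this

end Gen

end Groth.Agent.Lib.Helper2.Aff.KProjAff
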