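import Groth.Agent.Lib.Helper13.PerfTri
import Groth.Agent.Lib.Helper13.PerfTor
import Groth.Agent.Lib.Helper13.PCohSingle
import Groth.Agent.Lib.Helper17.FinLocFreeSec
import Groth.Agent.Lib.Helper3.LocFreeCrit
import Groth.Agent.Lib.Helper14.TildeExact
import Groth.Prelude.Def_DRing2
import Groth.Prelude.Def_DCoh2

set_option autoImplicit false
universe u
open CategoryTheory CategoryTheory.Limits AlgebraicGeometry TopologicalSpace Opposite

attribute [local instance] HasDerivedCategory.standard

namespace Groth.Agent.Lib.Helper2.Aff.PerfAff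

open Groth.Agent.Lib.Helper13 Groth.Agent.Lib.Helper3 Groth.Agent.Lib.Helper17

local notation "cc" => ComplexShape.up ℤ

section Retract

variable {X : Scheme.{u}}

/-- the linear map on sections induced by a morphism of modules -/
noncomputable def appLin {M N : X.Modules} (φ : M ⟶ N) (U : X.Opens) :
    Γ(M, U) →ₗ[Γ(X, U)] Γ(N, U) where
  toFun := φ.app U
  map_add' := map_add _
  map_smul' := Scheme.Modules.Hom.app_smul φ

/-- a quasi-coherent retract of a finite locally free module is finite locally free -/
theorem isFinLocFree_of_retract {M N : X.Modules} [M.IsQuasicoherent] (i : M ⟶ N) (p : N ⟶ M)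
    (h : i ≫ p = 𝟙 M) (hN : FlatMod.IsFinLocFree N) : FlatMod.IsFinLocFree M := by
  apply FinLocFreeSec.isFinLocFree_of_sections
  intro U hU
  obtain ⟨hfin, hproj⟩ := LocFreeCrit.finite_projective_sections hN hU
  have hcomp : (appLin p U).comp (appLin i U) = LinearMap.id := by
    ext s
    have := congrArg (fun φ => (Scheme.Modules.Hom.app φ U) s) h
    exact this
  have hsurj : Function.Surjective (appLin p U) := fun s =>
    ⟨appLin i U s, LinearMap.congr_fun hcomp s⟩
  haveI : Module.Finite Γ(X, U) Γ(M, U) := Module.Finite.of_surjective (appLin p U) hsurj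
  haveI : Module.Projective Γ(X, U) Γ(M, U) :=
    Module.Projective.of_split (appLin i U) (appLin p U) hcomp
  exact ⟨Module.finitePresentation_of_projective _ _, inferInstance⟩

end Retract

section Tilde

variable (R : CommRingCat.{u})

/-- `P~` is finite locally free for `P` finite projective -/
theorem isFinLocFree_tilde (P : ModuleCat.{u} R) [Module.Finite R P] [Module.Projective R P] :
    FlatMod.IsFinLocFree ((tilde.functor R).obj P) := by
  obtain ⟨n, f, hf⟩ := Module.Finite.exists_fin' R P
  let ι := ULift.{u} (Fin n)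
  let e : (ι →₀ R) ≃ₗ[R] (Fin n → R) :=
    (Finsupp.linearEquivFunOnFinite R R ι).trans (LinearEquiv.funCongrLeft R R Equiv.ulift.symm)
  let π : (ι →₀ R) →ₗ[R] P := f.comp e.toLinearMap
  have hπ : Function.Surjective π := hf.comp e.surjective
  obtain ⟨s, hs⟩ := Module.projective_lifting_property π LinearMap.id hπ
  let i : P ⟶ ModuleCat.of R (ι →₀ R) := ModuleCat.ofHom s
  let p : ModuleCat.of R (ι →₀ R) ⟶ P := ModuleCat.ofHom π
  have hip : i ≫ p = 𝟙 P := by
    ext x
    exact LinearMap.congr_fun hs x
  have h1 : FlatMod.IsFinLocFree ((tilde.functor R).obj (ModuleCat.of R (ι →₀ R))) :=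
    LocFreeCrit.isFinLocFree_of_iso (tildeFinsupp ι).symm (PCohSingle.isFinLocFree_free ι)
  exact isFinLocFree_of_retract ((tilde.functor R).map i) ((tilde.functor R).map p)
    (by rw [← Functor.map_comp, hip, CategoryTheory.Functor.map_id]) h1

end Tilde

section Easy

theorem additive_tilde (R : CommRingCat.{u}) : (tilde.functor R).Additive := inferInstance

theorem preservesFiniteColimits_tilde (R : CommRingCat.{u}) :
    PreservesFiniteColimits (tilde.functor R) := inferInstance

instance additive_tilde_of (A : Type u) [CommRing A] :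
    (tilde.functor (CommRingCat.of A)).Additive := additive_tilde _

instance preservesFiniteColimits_tilde_of (A : Type u) [CommRing A] :
    PreservesFiniteColimits (tilde.functor (CommRingCat.of A)) := preservesFiniteColimits_tilde _

variable (A : Type u) [CommRing A] [PreservesFiniteLimits (tilde.functor (CommRingCat.of A))]

/-- `M` perfect over `A` implies `M~` perfect on `Spec A` -/
theorem isPerfect_tildeD_of_isPerfect (M : Dual.D A) (hM : DRing.IsPerfect A M) :
    DCoh.IsPerfect ((DCoh.tildeD (CommRingCat.of A)).obj M) := by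
  obtain ⟨E, a, b, hv, hfp, ⟨e⟩⟩ := hM
  let F := ((tilde.functor (CommRingCat.of A)).mapHomologicalComplex cc).obj E
  have hF : DCoh.IsStrictlyPerfect F := by
    refine ⟨⟨a, b, fun i hi => (tilde.functor (CommRingCat.of A)).map_isZero (hv i hi)⟩,
      fun i => ?_⟩
    obtain ⟨h1, h2⟩ := hfp i
    exact isFinLocFree_tilde (CommRingCat.of A) (E.X i)
  let iso : (DCoh.tildeD (CommRingCat.of A)).obj M ≅ DerivedCategory.Q.obj F :=
    (DCoh.tildeD (CommRingCat.of A)).mapIso e.symm ≪≫
      (tilde.functor (CommRingCat.of A)).mapDerivedCategoryFactors.app E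
  exact PerfTri.isPerfect_of_iso iso.symm (PerfTor.isPerfect_of_isStrictlyPerfect F hF)

end Easy

end Groth.Agent.Lib.Helper2.Aff.PerfAff
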