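import Groth.Agent.Lib.Helper2.Aff.AffReflect
import Groth.Agent.Lib.Helper3.QCOpen
import Groth.Agent.Lib.Helper18.DRPCRestr

set_option autoImplicit false
universe u
open CategoryTheory CategoryTheory.Limits AlgebraicGeometry TopologicalSpace Opposite

attribute [local instance] HasDerivedCategory.standard

namespace Groth.Agent.Lib.Helper2.Aff.Qcqs

open Groth.Agent.Lib.Helper2 Groth.Agent.Lib.Helper2.Stk Groth.Agent.Lib.Helper2.Aff
  AlgebraicGeometry.Scheme.Modules Groth.Agent.Lib.Helper13 Groth.Agent.Lib.Helper3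
  Groth.Agent.Lib.Helper2.TExactIso Groth.Agent.Lib.Helper2.Aff.AffPush

local notation "cc" => ComplexShape.up ℤ

attribute [local instance] Groth.Agent.Lib.Helper14.preservesFiniteLimits_tilde

section Exact

universe w₁ w₂ v₁ v₂ u₁ u₂

variable {A : Type u₁} [Category.{v₁} A] [Abelian A] [HasDerivedCategory.{w₁} A]
  {B : Type u₂} [Category.{v₂} B] [Abelian B] [HasDerivedCategory.{w₂} B]
  (Φ : A ⥤ B) [Φ.Additive] [PreservesFiniteLimits Φ] [PreservesFiniteColimits Φ]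

lemma isLE_mapDerivedCategory (Y : DerivedCategory A) (b : ℤ) (h : Y.IsLE b) :
    (Φ.mapDerivedCategory.obj Y).IsLE b := by
  rw [DerivedCategory.isLE_iff] at h ⊢
  intro i hi
  exact (Φ.map_isZero (h i hi)).of_iso (mapDerivedCategoryHomologyIso Φ Y i)

lemma isGE_mapDerivedCategory (Y : DerivedCategory A) (b : ℤ) (h : Y.IsGE b) :
    (Φ.mapDerivedCategory.obj Y).IsGE b := by
  rw [DerivedCategory.isGE_iff] at h ⊢
  intro i hi
  exact (Φ.map_isZero (h i hi)).of_iso (mapDerivedCategoryHomologyIso Φ Y i)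

lemma isLE_of_isLE_mapDerivedCategory [Φ.Faithful] (Y : DerivedCategory A) (b : ℤ)
    (h : (Φ.mapDerivedCategory.obj Y).IsLE b) : Y.IsLE b := by
  rw [DerivedCategory.isLE_iff] at h ⊢
  intro i hi
  exact isZero_of_faithful Φ _ ((h i hi).of_iso (mapDerivedCategoryHomologyIso Φ Y i).symm)

lemma isGE_of_isGE_mapDerivedCategory [Φ.Faithful] (Y : DerivedCategory A) (b : ℤ)
    (h : (Φ.mapDerivedCategory.obj Y).IsGE b) : Y.IsGE b := by
  rw [DerivedCategory.isGE_iff] at h ⊢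
  intro i hi
  exact isZero_of_faithful Φ _ ((h i hi).of_iso (mapDerivedCategoryHomologyIso Φ Y i).symm)

lemma isLE_of_iso' {X Y : DerivedCategory A} (e : X ≅ Y) (b : ℤ) (h : X.IsLE b) : Y.IsLE b := by
  rw [DerivedCategory.isLE_iff] at h ⊢
  intro i hi
  exact (h i hi).of_iso ((DerivedCategory.homologyFunctor A i).mapIso e.symm)

lemma isGE_of_iso' {X Y : DerivedCategory A} (e : X ≅ Y) (b : ℤ) (h : X.IsGE b) : Y.IsGE b := by
  rw [DerivedCategory.isGE_iff] at h ⊢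
  intro i hi
  exact (h i hi).of_iso ((DerivedCategory.homologyFunctor A i).mapIso e.symm)

end Exact

section Loc

variable {S : Scheme.{u}}

/-- `D_QCoh` is local for affine charts -/
lemma isQCohD_of_charts (G : DCoh.D S)
    (h : ∀ s : S, ∃ (V : S.Opens) (hV : IsAffineOpen V), s ∈ V ∧
      DCoh.IsQCohD ((DCoh.restrictD hV.fromSpec).obj G)) : DCoh.IsQCohD G := by
  intro i
  apply QCProps.isQuasicoherent_of_charts
  intro x
  obtain ⟨V, hV, hxV, hq⟩ := h x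
  refine ⟨V, hV, hxV, ?_⟩
  obtain ⟨e⟩ := OpenEquivSupp.nonempty_HD_restrictD_iso hV.fromSpec G i
  exact isQCoh_of_iso e (hq i)

/-- `D_QCoh` is local for open covers -/
lemma isQCohD_of_open_cover (G : DCoh.D S)
    (h : ∀ s : S, ∃ V : S.Opens, s ∈ V ∧ DCoh.IsQCohD ((DCoh.restrictD V.ι).obj G)) :
    DCoh.IsQCohD G := by
  intro i
  apply QCOpen.isQuasicoherent_of_open_cover
  intro x
  obtain ⟨V, hxV, hq⟩ := h x
  refine ⟨V, hxV, ?_⟩
  obtain ⟨e⟩ := OpenEquivSupp.nonempty_HD_restrictD_iso V.ι G i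
  exact isQCoh_of_iso e (hq i)

/-- `D^{≤ b}` is local -/
lemma isLE_of_locally (G : DCoh.D S) (b : ℤ)
    (h : ∀ s : S, ∃ (U : Scheme.{u}) (j : U ⟶ S) (_ : IsOpenImmersion j) (y : U),
      j.base y = s ∧ ((DCoh.restrictD j).obj G).IsLE b) : G.IsLE b := by
  rw [DerivedCategory.isLE_iff]
  intro i hi
  apply isZero_of_locally'
  intro s
  obtain ⟨U, j, hj, y, rfl, hz⟩ := h s
  refine ⟨U, j, hj, y, rfl, ?_⟩
  obtain ⟨e⟩ := OpenEquivSupp.nonempty_HD_restrictD_iso j G i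
  exact (DerivedCategory.isZero_of_isLE _ b i hi).of_iso e.symm

/-- `D^{≥ b}` is local -/
lemma isGE_of_locally (G : DCoh.D S) (b : ℤ)
    (h : ∀ s : S, ∃ (U : Scheme.{u}) (j : U ⟶ S) (_ : IsOpenImmersion j) (y : U),
      j.base y = s ∧ ((DCoh.restrictD j).obj G).IsGE b) : G.IsGE b := by
  rw [DerivedCategory.isGE_iff]
  intro i hi
  apply isZero_of_locally'
  intro s
  obtain ⟨U, j, hj, y, rfl, hz⟩ := h s
  refine ⟨U, j, hj, y, rfl, ?_⟩
  obtain ⟨e⟩ := OpenEquivSupp.nonempty_HD_restrictD_iso j G i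
  exact (DerivedCategory.isZero_of_isGE _ b i hi).of_iso e.symm

end Loc

section AffMor

variable {Y S : Scheme.{u}} (g : Y ⟶ S) [IsAffineHom g] [DCoh.HasRpush g]

/-- for an affine morphism, `Rg_*` preserves `D_QCoh` -/
theorem isQCohD_Rpush_of_affine (K : DCoh.D Y) (hK : DCoh.IsQCohD K) :
    DCoh.IsQCohD ((DCoh.Rpush g).obj K) := by
  apply isQCohD_of_charts
  intro s
  obtain ⟨V, hV, hsV⟩ := QCProps.exists_affine_nbhd s
  have hU : IsAffineOpen (g ⁻¹ᵁ V) := hV.preimage g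
  obtain ⟨M, -, ⟨e2⟩⟩ := exists_chart_model g hV hU K hK
  refine ⟨V, hV, hsV, fun i => ?_⟩
  exact isQCoh_of_iso ((DerivedCategory.homologyFunctor _ i).mapIso e2)
    (isQCohD_tildeD Γ(S, V) _ i)

open Groth.Agent.Lib.Helper18 in
/-- for an affine morphism, `Rg_*` is right t-exact on `D_QCoh` -/
theorem isLE_Rpush_of_affine (K : DCoh.D Y) (hK : DCoh.IsQCohD K) (b : ℤ) (hb : K.IsLE b) :
    ((DCoh.Rpush g).obj K).IsLE b := by
  apply isLE_of_locally
  intro s
  obtain ⟨V, hV, hsV⟩ := QCProps.exists_affine_nbhd s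
  have hU : IsAffineOpen (g ⁻¹ᵁ V) := hV.preimage g
  obtain ⟨M, ⟨e1⟩, ⟨e2⟩⟩ := exists_chart_model g hV hU K hK
  have hs : s ∈ Set.range hV.fromSpec.base := by
    rw [hV.range_fromSpec]; exact hsV
  obtain ⟨z, hz⟩ := hs
  refine ⟨_, hV.fromSpec, inferInstance, z, hz, ?_⟩
  have h1 : ((DCoh.restrictD hU.fromSpec).obj K).IsLE b :=
    isLE_mapDerivedCategory (restrictFunctor hU.fromSpec) K b hb
  have h2 : ((DCoh.tildeD Γ(Y, g ⁻¹ᵁ V)).obj M).IsLE b := isLE_of_iso' e1.symm b h1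
  have h3 : M.IsLE b := isLE_of_isLE_mapDerivedCategory (tilde.functor Γ(Y, g ⁻¹ᵁ V)) M b h2
  have h4 : ((DRing.restrictD (g.appLE V (g ⁻¹ᵁ V) le_rfl).hom).obj M).IsLE b :=
    DR.isLE_restrictD _ M b
  exact isLE_of_iso' e2 b (isLE_mapDerivedCategory (tilde.functor Γ(S, V)) _ b h4)

end AffMor

end Groth.Agent.Lib.Helper2.Aff.Qcqs
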