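import Groth.Agent.Lib.Helper2.Aff.QcqsMV

set_option autoImplicit false
universe u
open CategoryTheory CategoryTheory.Limits AlgebraicGeometry TopologicalSpace Opposite
  CategoryTheory.Pretriangulated

attribute [local instance] HasDerivedCategory.standard

namespace Groth.Agent.Lib.Helper2.Aff.Qcqs

open Groth.Agent.Lib.Helper2 Groth.Agent.Lib.Helper2.Stk Groth.Agent.Lib.Helper2.Aff
  AlgebraicGeometry.Scheme.Modules Groth.Agent.Lib.Helper13 Groth.Agent.Lib.Helper3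
  Groth.Agent.Lib.Helper2.TExactIso Groth.Agent.Lib.Helper2.Aff.AffPush
  Groth.Agent.Lib.Helper13.QCDim DerivedCategory

local notation "cc" => ComplexShape.up ℤ

attribute [local instance] Groth.Agent.Lib.Helper2.Stk.hasRpush

section Ind

variable {X S : Scheme.{u}}

/-- `D_QCoh` as a dévissable class -/
lemma devQCoh (X : Scheme.{u}) : IsDevissable (fun Z : DCoh.D X => DCoh.IsQCohD Z) :=
  isDevissable_cohIn_map (𝟭 (DCoh.D X)) (fun M : X.Modules => Coh.IsQCoh M)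

lemma isQCohD_biprod {A B : DCoh.D X} (hA : DCoh.IsQCohD A) (hB : DCoh.IsQCohD B) :
    DCoh.IsQCohD (A ⊞ B) :=
  (devQCoh X).ext₂ _ (binaryBiproductTriangle_distinguished A B) hA hB

lemma isLE_biprod {A B : DCoh.D X} (n : ℤ) (hA : A.IsLE n) (hB : B.IsLE n) : (A ⊞ B).IsLE n :=
  TStructure.t.isLE₂ _ (binaryBiproductTriangle_distinguished A B) n hA hB

/-- two out of three for `D_QCoh`: first vertex -/
lemma isQCohD_obj₁ (T : Triangle (DCoh.D X)) (hT : T ∈ distTriang _)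
    (h₂ : DCoh.IsQCohD T.obj₂) (h₃ : DCoh.IsQCohD T.obj₃) : DCoh.IsQCohD T.obj₁ :=
  (devQCoh X).ext₂ _ (inv_rot_of_distTriang _ hT) ((devQCoh X).shift _ (-1) h₃) h₂

lemma isLE_obj₁ (T : Triangle (DCoh.D X)) (hT : T ∈ distTriang _) (n : ℤ)
    (h₂ : T.obj₂.IsLE n) (h₃ : T.obj₃.IsLE (n - 1)) : T.obj₁.IsLE n := by
  haveI := h₃
  exact TStructure.t.isLE₂ _ (inv_rot_of_distTriang _ hT) n
    (TStructure.t.isLE_shift T.obj₃ (n - 1) (-1) n (by omega)) h₂

variable (f : X ⟶ S) [IsAffine S]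

/-- the inductive statement -/
def PW (d : ℕ) (W : X.Opens) : Prop :=
  ∀ K : DCoh.D X, DCoh.IsQCohD K →
    DCoh.IsQCohD (RW f W K) ∧ ∀ b : ℤ, K.IsLE b → (RW f W K).IsLE (b + d - 1)

theorem pw_of_qc {d : ℕ} {W : X.Opens} (h : QC d W) : PW f d W := by
  induction h with
  | affine W hW =>
    intro K hK
    haveI : IsAffine (W : Scheme.{u}) := hW
    have hq := isQCohD_restrict W.ι K hK
    refine ⟨isQCohD_Rpush_of_affine (W.ι ≫ f) _ hq, fun b hb => ?_⟩
    have h1 : ((DCoh.restrictD W.ι).obj K).IsLE b :=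
      isLE_mapDerivedCategory (restrictFunctor W.ι) K b hb
    have h2 := isLE_Rpush_of_affine (W.ι ≫ f) _ hq b h1
    have e : b + ((1 : ℕ) : ℤ) - 1 = b := by simp
    rw [e]
    exact h2
  | union d U V hU hV hUV ihU ihV ihUV =>
    intro K hK
    obtain ⟨a, b', c, hT⟩ := exists_mv_triangle f U V K
    obtain ⟨qU, lU⟩ := ihU K hK
    obtain ⟨qV, lV⟩ := ihV K hK
    obtain ⟨qUV, lUV⟩ := ihUV K hK
    refine ⟨isQCohD_obj₁ _ hT (isQCohD_biprod qU qV) qUV, fun b hb => ?_⟩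
    have e1 : b + ((d + 1 : ℕ) : ℤ) - 1 = b + d := by push_cast; ring
    rw [e1]
    refine isLE_obj₁ _ hT (b + d) (isLE_biprod _ ?_ ?_) ?_
    · have := lU b hb
      rwa [e1] at this
    · have := lV b hb
      rwa [e1] at this
    · exact lUV b hb
  | mono d d' W hdd' hW ih =>
    intro K hK
    obtain ⟨q, l⟩ := ih K hK
    refine ⟨q, fun b hb => ?_⟩
    haveI := l b hb
    exact TStructure.t.isLE_of_le _ (b + d - 1) (b + d' - 1) (by omega)

end Ind

end Groth.Agent.Lib.Helper2.Aff.Qcqs
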