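import Groth.Agent.Lib.Helper2.Aff.QcqsBase
import Groth.Agent.Lib.Helper13.KInjMV
import Groth.Agent.Lib.Helper13.QCDim

set_option autoImplicit false
universe u
open CategoryTheory CategoryTheory.Limits AlgebraicGeometry TopologicalSpace Opposite

attribute [local instance] HasDerivedCategory.standard

namespace Groth.Agent.Lib.Helper2.Aff.Qcqs

open Groth.Agent.Lib.Helper2 Groth.Agent.Lib.Helper2.Stk Groth.Agent.Lib.Helper2.Aff
  AlgebraicGeometry.Scheme.Modules Groth.Agent.Lib.Helper13 Groth.Agent.Lib.Helper3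
  Groth.Agent.Lib.Helper2.TExactIso Groth.Agent.Lib.Helper2.Aff.AffPush
  Groth.Agent.Lib.Helper13.RelMVMod Groth.Agent.Lib.Helper13.KInjMV

local notation "cc" => ComplexShape.up ℤ

section MV

variable {X Y : Scheme.{u}}

lemma isPullback_rhoH (W₁ W₂ : X.Opens) (M : X.Modules) :
    IsPullback ((rhoH (le_sup_left : W₁ ≤ W₁ ⊔ W₂)).app M)
      ((rhoH (le_sup_right : W₂ ≤ W₁ ⊔ W₂)).app M)
      ((rhoH (inf_le_left : W₁ ⊓ W₂ ≤ W₁)).app M)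
      ((rhoH (inf_le_right : W₁ ⊓ W₂ ≤ W₂)).app M) := by
  haveI : ReflectsLimitsOfShape WalkingCospan (Scheme.Modules.toPresheaf X) :=
    reflectsLimitsOfShape_of_reflectsIsomorphisms
  refine IsPullback.of_map_of_faithful (Scheme.Modules.toPresheaf X)
    (IsPullback.of_forall_isPullback_app fun A => ?_)
  change IsPullback (((rhoH (le_sup_left : W₁ ≤ W₁ ⊔ W₂)).app M).app A.unop)
    (((rhoH (le_sup_right : W₂ ≤ W₁ ⊔ W₂)).app M).app A.unop)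
    (((rhoH (inf_le_left : W₁ ⊓ W₂ ≤ W₁)).app M).app A.unop)
    (((rhoH (inf_le_right : W₁ ⊓ W₂ ≤ W₂)).app M).app A.unop)
  rw [rhoH_app_app, rhoH_app_app, rhoH_app_app, rhoH_app_app]
  refine RelMV.isPullback_of_sup_inf (Coh.toAb M) _ _ _ _ ?_ ?_
  · rw [cap_eq, cap_eq, cap_eq]
    exact le_of_eq (inf_sup_right _ _ _)
  · rw [cap_eq, cap_eq, cap_eq]
    exact le_of_eq (inf_inf_distrib_right _ _ _).symm

/-- `R(f|_W)_*(E|_W)` -/
noncomputable abbrev RW (f : X ⟶ Y) (W : X.Opens) [DCoh.HasRpush (W.ι ≫ f)] (E : DCoh.D X) :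
    DCoh.D Y :=
  (DCoh.Rpush (W.ι ≫ f)).obj ((DCoh.restrictD W.ι).obj E)

/-- relative Mayer–Vietoris triangle for two arbitrary opens of the source -/
theorem exists_mv_triangle (f : X ⟶ Y) (W₁ W₂ : X.Opens)
    [DCoh.HasRpush ((W₁ ⊔ W₂).ι ≫ f)] [DCoh.HasRpush (W₁.ι ≫ f)] [DCoh.HasRpush (W₂.ι ≫ f)]
    [DCoh.HasRpush ((W₁ ⊓ W₂).ι ≫ f)] (E : DCoh.D X) :
    ∃ (a : RW f (W₁ ⊔ W₂) E ⟶ RW f W₁ E ⊞ RW f W₂ E)
      (b : RW f W₁ E ⊞ RW f W₂ E ⟶ RW f (W₁ ⊓ W₂) E)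
      (c : RW f (W₁ ⊓ W₂) E ⟶ (RW f (W₁ ⊔ W₂) E)⟦(1 : ℤ)⟧),
      Pretriangulated.Triangle.mk a b c ∈ distTriang _ := by
  obtain ⟨I, hI, hInj, ⟨e⟩⟩ := KInjCompute.exists_model (KInjSch.hasKInjInj X) E
  obtain ⟨a, b, c, h⟩ := KInjMV.exists_triangle
    (Functor.whiskerRight (rhoH (le_sup_left : W₁ ≤ W₁ ⊔ W₂)) (pushforward f))
    (Functor.whiskerRight (rhoH (le_sup_right : W₂ ≤ W₁ ⊔ W₂)) (pushforward f))
    (Functor.whiskerRight (rhoH (inf_le_left : W₁ ⊓ W₂ ≤ W₁)) (pushforward f))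
    (Functor.whiskerRight (rhoH (inf_le_right : W₁ ⊓ W₂ ≤ W₂)) (pushforward f)) I
    (fun n => (isPullback_rhoH W₁ W₂ (I.X n)).map (pushforward f))
    (fun n => epi_pushforward_rhoH_of_injective f _ (I.X n) (hInj n))
  have e2 : ∀ W : X.Opens, ∀ [DCoh.HasRpush (W.ι ≫ f)],
      DerivedCategory.Q.obj (((H W ⋙ pushforward f).mapHomologicalComplex cc).obj I) ≅
      RW f W E := fun W _ =>
    DerivedCategory.Q.mapIso ((NatIso.mapHomologicalComplex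
      (Functor.associator _ _ _ ≪≫ Functor.isoWhiskerLeft (restrictFunctor W.ι)
        (pushforwardComp W.ι f)) cc).app I) ≪≫
    (isoRestrict W (pushforward (W.ι ≫ f)) I hI e).symm
  exact exists_triangle_of_iso _ h (e2 (W₁ ⊔ W₂)) (biprod.mapIso (e2 W₁) (e2 W₂)) (e2 (W₁ ⊓ W₂))

end MV

end Groth.Agent.Lib.Helper2.Aff.Qcqs
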