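import Groth.Agent.Lib.Helper2.Mon.ProjClosed
import Groth.Agent.Lib.Helper2.RDBridge

set_option autoImplicit false
universe u
open CategoryTheory CategoryTheory.Limits AlgebraicGeometry TopologicalSpace Opposite

attribute [local instance] HasDerivedCategory.standard

namespace Groth.Agent.Lib.Helper2.Aff.Qcqs

open Groth.Agent.Lib.Helper2 Groth.Agent.Lib.Helper2.Stk AlgebraicGeometry.Scheme.Modules
  Groth.Agent.Lib.Helper2.Mon

local notation "cc" => ComplexShape.up ℤ

section Single

variable {X Y : Scheme.{u}} (f : X ⟶ Y) [DCoh.HasRpush f] [HasInjectiveResolutions X.Modules]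

/-- `Rf_*(M[0])` is computed by an injective resolution -/
noncomputable def RpushSingleIso (M : X.Modules) (I : InjectiveResolution M) :
    (DCoh.Rpush f).obj (DCoh.inD X M) ≅ DCoh.toD Y ((pushC f).obj I.cochainComplex) :=
  haveI : I.cochainComplex.IsKInjective := CochainComplex.isKInjective_of_injective _ 0
  haveI : IsIso (DerivedCategory.Q.map I.ι') :=
    (DerivedCategory.isIso_Q_map_iff_quasiIso _ _).2 inferInstance
  (DCoh.Rpush f).mapIso ((DerivedCategory.singleFunctorIsoCompQ X.Modules 0).app M ≪≫
    asIso (DerivedCategory.Q.map I.ι')) ≪≫ RpushIso f I.cochainComplex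

/-- **`Hᵏ(Rf_*(M[0])) ≅ Rᵏf_* M`** -/
theorem nonempty_HD_Rpush_single_iso (M : X.Modules) (k : ℕ) :
    Nonempty (DCoh.HD ((DCoh.Rpush f).obj (DCoh.inD X M)) (k : ℤ) ≅ (Coh.Rpush f k).obj M) := by
  haveI : (pushforward f).Additive :=
    (pullbackPushforwardAdjunction f).right_adjoint_additive
  let I := injectiveResolution M
  exact ⟨(DerivedCategory.homologyFunctor Y.Modules (k : ℤ)).mapIso (RpushSingleIso f M I) ≪≫
    (DerivedCategory.homologyFunctorFactors Y.Modules (k : ℤ)).app _ ≪≫
    (HomologicalComplex.homologyFunctor Y.Modules _ (k : ℤ)).mapIso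
      (RDBridge.mapExtendIso (pushforward f) I.cocomplex ComplexShape.embeddingUpNat) ≪≫
    HomologicalComplex.extendHomologyIso (((pushforward f).mapHomologicalComplex _).obj I.cocomplex)
      ComplexShape.embeddingUpNat (j := k) (j' := (k : ℤ)) rfl ≪≫
    (I.isoRightDerivedObj (pushforward f) k).symm⟩

/-- `Rf_*(M[0]) ∈ D^{≥ 0}` -/
theorem isGE_Rpush_single (M : X.Modules) :
    ((DCoh.Rpush f).obj (DCoh.inD X M)).IsGE 0 := by
  haveI : (pushforward f).Additive :=
    (pullbackPushforwardAdjunction f).right_adjoint_additive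
  let I := injectiveResolution M
  haveI : ((pushC f).obj I.cochainComplex).IsStrictlyGE 0 := by
    rw [CochainComplex.isStrictlyGE_iff]
    intro i hi
    exact (pushforward f).map_isZero (I.cochainComplex.isZero_of_isStrictlyGE 0 i hi)
  haveI : (DCoh.toD Y ((pushC f).obj I.cochainComplex)).IsGE 0 := inferInstance
  exact DerivedCategory.TStructure.t.isGE_of_iso (RpushSingleIso f M I).symm 0

end Single

end Groth.Agent.Lib.Helper2.Aff.Qcqs
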