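import Groth.Agent.Lib.Helper2.Aff.AffPush
import Groth.Agent.Lib.Helper12.TildePullback

set_option autoImplicit false
universe u
open CategoryTheory CategoryTheory.Limits AlgebraicGeometry TopologicalSpace Opposite

attribute [local instance] HasDerivedCategory.standard

namespace Groth.Agent.Lib.Helper2.Aff.AffPush

open Groth.Agent.Lib.Helper2 Groth.Agent.Lib.Helper2.Stk Groth.Agent.Lib.Helper2.Aff
  AlgebraicGeometry.Scheme.Modules Groth.Agent.Lib.Helper12

local notation "cc" => ComplexShape.up ℤ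

section TP

variable {A B : CommRingCat.{u}} (φ : A ⟶ B)

instance isIso_fromTildeΓ_push_tilde (N : ModuleCat.{u} B) :
    IsIso (Scheme.Modules.fromTildeΓNatTrans.app
      ((tilde.functor B ⋙ pushforward (Spec.map φ)).obj N)) := by
  haveI : IsIso ((tilde.functor B).obj N).fromTildeΓ :=
    inferInstanceAs (IsIso (tilde N).fromTildeΓ)
  exact isIso_fromTildeΓ_pushforward φ ((tilde.functor B).obj N)

/-- `f_*(N~) ≅ (N_A)~`, naturally in `N` -/
noncomputable def tildePushIso :
    tilde.functor B ⋙ pushforward (Spec.map φ) ≅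
      ModuleCat.restrictScalars φ.hom ⋙ tilde.functor A :=
  haveI : IsIso (Functor.whiskerLeft (tilde.functor B ⋙ pushforward (Spec.map φ))
      (Scheme.Modules.fromTildeΓNatTrans (R := A))) :=
    @NatIso.isIso_of_isIso_app _ _ _ _ _ _ _ (fun N => isIso_fromTildeΓ_push_tilde φ N)
  (Functor.rightUnitor _).symm ≪≫
  (asIso (Functor.whiskerLeft (tilde.functor B ⋙ pushforward (Spec.map φ))
      (Scheme.Modules.fromTildeΓNatTrans (R := A)))).symm ≪≫
  (Functor.associator _ _ _) ≪≫
  Functor.isoWhiskerLeft (tilde.functor B)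
    ((Functor.associator _ _ _).symm ≪≫
      Functor.isoWhiskerRight (TildePullback.pushforwardΓIso φ) (tilde.functor A) ≪≫
      Functor.associator _ _ _) ≪≫
  (Functor.associator _ _ _).symm ≪≫
  Functor.isoWhiskerRight (tilde.toTildeΓNatIso (R := B)).symm
    (ModuleCat.restrictScalars φ.hom ⋙ tilde.functor A) ≪≫
  Functor.leftUnitor _

end TP

section D

variable {A B : Type u} [CommRing A] [CommRing B] (φ : A →+* B)
  [PreservesFiniteLimits (tilde.functor (CommRingCat.of A))]
  [PreservesFiniteLimits (tilde.functor (CommRingCat.of B))]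
  [DCoh.HasRpush (Spec.map (CommRingCat.ofHom φ))]

theorem isQCoh_tilde (R : CommRingCat.{u}) (M : ModuleCat.{u} R) :
    Coh.IsQCoh ((tilde.functor R).obj M) :=
  inferInstanceAs ((tilde.functor R).obj M).IsQuasicoherent

/-- the unit `f_* K ⟶ Rf_* K` as a natural transformation on complexes -/
noncomputable def unitQ {X S : Scheme.{u}} (f : X ⟶ S) [DCoh.HasRpush f] :
    (pushforward f).mapHomologicalComplex cc ⋙ DerivedCategory.Q ⟶
      DerivedCategory.Q ⋙ DCoh.Rpush f where
  app K := (unitR f).app ((HomotopyCategory.quotient X.Modules cc).obj K)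
  naturality _ _ g := (unitR f).naturality ((HomotopyCategory.quotient X.Modules cc).map g)

instance isIso_unitQ_tilde (K : CochainComplex (ModuleCat.{u} B) ℤ) :
    IsIso ((unitQ (Spec.map (CommRingCat.ofHom φ))).app
      (((tilde.functor (CommRingCat.of B)).mapHomologicalComplex cc).obj K)) :=
  isIso_unitR_of_affine (Spec.map (CommRingCat.ofHom φ)) _
    (fun n => isQCoh_tilde (CommRingCat.of B) (K.X n))

/-- **`Rf_*(M~) ≅ (M_A)~`**, naturally in `M ∈ D(B)` -/
noncomputable def tildeDRpushIso :
    DCoh.tildeD (CommRingCat.of B) ⋙ DCoh.Rpush (Spec.map (CommRingCat.ofHom φ)) ≅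
      DRing.restrictD φ ⋙ DCoh.tildeD (CommRingCat.of A) := by
  let f := Spec.map (CommRingCat.ofHom φ)
  let tB := (tilde.functor (CommRingCat.of B)).mapHomologicalComplex cc
  let tA := (tilde.functor (CommRingCat.of A)).mapHomologicalComplex cc
  let pC := (pushforward f).mapHomologicalComplex cc
  let rC := (ModuleCat.restrictScalars.{u} φ).mapHomologicalComplex cc
  let F₁ : CochainComplex (ModuleCat.{u} B) ℤ ⥤ DCoh.D (Spec (CommRingCat.of A)) :=
    tB ⋙ pC ⋙ DerivedCategory.Q
  let F₂ : CochainComplex (ModuleCat.{u} B) ℤ ⥤ DCoh.D (Spec (CommRingCat.of A)) :=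
    rC ⋙ tA ⋙ DerivedCategory.Q
  haveI : IsIso (Functor.whiskerLeft tB (unitQ f)) :=
    @NatIso.isIso_of_isIso_app _ _ _ _ _ _ _ (fun K => isIso_unitQ_tilde φ K)
  letI : Localization.Lifting DerivedCategory.Q
      (HomologicalComplex.quasiIso (ModuleCat.{u} B) cc) F₁
      (DCoh.tildeD (CommRingCat.of B) ⋙ DCoh.Rpush f) :=
    ⟨(Functor.associator _ _ _).symm ≪≫
      Functor.isoWhiskerRight (tilde.functor (CommRingCat.of B)).mapDerivedCategoryFactors
        (DCoh.Rpush f) ≪≫
      Functor.associator _ _ _ ≪≫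
      (asIso (Functor.whiskerLeft tB (unitQ f))).symm⟩
  letI : Localization.Lifting DerivedCategory.Q
      (HomologicalComplex.quasiIso (ModuleCat.{u} B) cc) F₂
      (DRing.restrictD φ ⋙ DCoh.tildeD (CommRingCat.of A)) :=
    ⟨(Functor.associator _ _ _).symm ≪≫
      Functor.isoWhiskerRight (ModuleCat.restrictScalars.{u} φ).mapDerivedCategoryFactors
        (DCoh.tildeD (CommRingCat.of A)) ≪≫
      Functor.associator _ _ _ ≪≫
      Functor.isoWhiskerLeft rC (tilde.functor (CommRingCat.of A)).mapDerivedCategoryFactors⟩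
  let e : F₁ ≅ F₂ :=
    (Functor.associator _ _ _).symm ≪≫
      Functor.isoWhiskerRight
        (show tB ⋙ pC ≅ rC ⋙ tA from
          NatIso.mapHomologicalComplex (tildePushIso (CommRingCat.ofHom φ)) cc)
        DerivedCategory.Q ≪≫
      Functor.associator _ _ _
  exact Localization.liftNatIso DerivedCategory.Q
    (HomologicalComplex.quasiIso (ModuleCat.{u} B) cc) F₁ F₂ _ _ e

end D

end Groth.Agent.Lib.Helper2.Aff.AffPush
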