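import Groth.Agent.Lib.Helper2.Stk.Tilde
import Groth.Agent.Lib.Helper2.Stk.Pull
import Groth.Agent.Lib.Helper3.QCPush
import Groth.Agent.Lib.Helper3.QCProps
import Groth.Agent.Lib.Helper2.Stk.Exact
import Groth.Agent.Lib.Helper2.Stk.KFlat
import Groth.Agent.Lib.Helper2.TExact.WeakSerre
import Groth.Agent.Lib.Helper2.LDer.DCohTor

/-!
# Quasi-coherent modules with prescribed stalk; stalkwise vanishing of Tor (helper2)
-/

set_option autoImplicit false
universe u
open CategoryTheory CategoryTheory.Limits AlgebraicGeometry Opposite TopologicalSpace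
open Groth.Agent.Lib.Helper2.Stk

namespace Groth.Agent.Lib.Helper2.Aff

section L1
variable {A B : Type u} [CommRing A] [CommRing B] (ρ : A →+* B) (S : Submonoid A)

/-- for a localization `ρ : A → B` and a `B`-module `M'`, `B ⊗_A M' ≅ M'` -/
lemma nonempty_extendScalars_restrictScalars_iso
    (hloc : @IsLocalization A _ S B _ ρ.toAlgebra) (M' : ModuleCat.{u} B) :
    Nonempty ((ModuleCat.extendScalars ρ).obj ((ModuleCat.restrictScalars ρ).obj M') ≅ M') := by
  letI := ρ.toAlgebra
  letI : Module A M' := Module.compHom M' ρ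
  haveI : IsScalarTower A B M' := IsScalarTower.of_algebraMap_smul (fun r m => rfl)
  haveI := isLocalizedModule_id S M' B
  have h : IsBaseChange B (LinearMap.id : M' →ₗ[A] M') :=
    IsLocalizedModule.isBaseChange S B LinearMap.id
  exact ⟨(h.equiv).toModuleIso⟩

/-- identity-on-elements isomorphism `Y ≅ res_φ (res_ψ Y)` when `ψ ∘ φ = id` -/
noncomputable def restrictRestrictIso {A' B' : Type u} [CommRing A'] [CommRing B'] (φ : A' →+* B')
    (ψ : B' →+* A') (h : ∀ a, ψ (φ a) = a) (Y : ModuleCat.{u} A') :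
    Y ≅ (ModuleCat.restrictScalars φ).obj ((ModuleCat.restrictScalars ψ).obj Y) :=
  (ModuleCat.restrictScalarsId'App (ψ.comp φ) (RingHom.ext h) Y).symm ≪≫
    ModuleCat.restrictScalarsComp'App φ ψ (ψ.comp φ) rfl Y

/-- extension of scalars along a bijective ring map is restriction along the inverse -/
lemma nonempty_extendScalars_iso_restrictScalars {A' B' : Type u} [CommRing A'] [CommRing B']
    (φ : A' →+* B') (ψ : B' →+* A') (h₁ : ∀ a, ψ (φ a) = a) (h₂ : ∀ b, φ (ψ b) = b)
    (Y : ModuleCat.{u} A') :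
    Nonempty ((ModuleCat.extendScalars φ).obj Y ≅ (ModuleCat.restrictScalars ψ).obj Y) := by
  letI := φ.toAlgebra
  have hbij : Function.Bijective (algebraMap A' B') :=
    ⟨fun a a' haa => by rw [← h₁ a, ← h₁ a']; exact congrArg ψ haa, fun b => ⟨ψ b, h₂ b⟩⟩
  haveI : IsLocalization (⊥ : Submonoid A') A' := IsLocalization.self (by
    rintro a ha
    rw [Submonoid.mem_bot] at ha
    subst ha
    exact isUnit_one)
  have hloc : IsLocalization (⊥ : Submonoid A') B' :=
    IsLocalization.isLocalization_of_algEquiv (⊥ : Submonoid A')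
      (AlgEquiv.ofBijective (Algebra.ofId A' B') hbij)
  obtain ⟨e⟩ := nonempty_extendScalars_restrictScalars_iso φ ⊥ hloc
    ((ModuleCat.restrictScalars ψ).obj Y)
  exact ⟨(ModuleCat.extendScalars φ).mapIso (restrictRestrictIso φ ψ h₁ Y) ≪≫ e⟩

end L1

/-- on a quasi-separated scheme, every module over a local ring `O_{X,x}` is the stalk of a
quasi-coherent module -/
theorem exists_qcoh_with_stalk (X : Scheme.{u}) [QuasiSeparatedSpace X] (x : X)
    (M : ModuleCat.{u} (X.presheaf.stalk x)) :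
    ∃ G : X.Modules, Coh.IsQCoh G ∧ Nonempty ((Φ x).obj G ≅ M) := by
  obtain ⟨U, hU, hxU⟩ := Groth.Agent.Lib.Helper3.QCProps.exists_affine_nbhd x
  let j := hU.fromSpec
  obtain ⟨p, rfl⟩ : ∃ p, j.base p = x := ⟨hU.primeIdealOf ⟨x, hxU⟩, hU.fromSpec_primeIdealOf ⟨x, hxU⟩⟩
  let A : CommRingCat.{u} := Γ(X, U)
  let e := asIso (j.stalkMap p)
  let φ : X.presheaf.stalk (j.base p) →+* (Spec A).presheaf.stalk p := e.hom.hom
  let ψ : (Spec A).presheaf.stalk p →+* X.presheaf.stalk (j.base p) := e.inv.hom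
  have h₁ : ∀ a, ψ (φ a) = a := fun a => by
    change (e.hom ≫ e.inv).hom a = a
    rw [Iso.hom_inv_id]; rfl
  have h₂ : ∀ b, φ (ψ b) = b := fun b => by
    change (e.inv ≫ e.hom).hom b = b
    rw [Iso.inv_hom_id]; rfl
  let M' : ModuleCat.{u} ((Spec A).presheaf.stalk p) := (ModuleCat.restrictScalars ψ).obj M
  let M_A : ModuleCat.{u} A := (ModuleCat.restrictScalars (ρst A p)).obj M'
  let N : (Spec A).Modules := (tilde.functor A).obj M_A
  let G : X.Modules := (Scheme.Modules.pushforward j).obj N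
  haveI : N.IsQuasicoherent := inferInstanceAs ((tilde.functor A).obj M_A).IsQuasicoherent
  refine ⟨G, Groth.Agent.Lib.Helper3.QCSec.isQuasicoherent_pushforward j N, ?_⟩
  let Y := (Φ (j.base p)).obj G
  have c1 : (ModuleCat.extendScalars φ).obj Y ≅ (Φ p).obj N :=
    ((pullStalkIso j p).app G).symm ≪≫
      (Φ p).mapIso ((Scheme.Modules.restrictFunctorIsoPullback j).symm.app G ≪≫
        (Scheme.Modules.restrictFunctorAdjCounitIso j).app N)
  have c2 : (Φ p).obj N ≅ (ModuleCat.extendScalars (ρst A p)).obj M_A := (tildeStalkIso A p).app M_A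
  obtain ⟨c3⟩ := nonempty_extendScalars_restrictScalars_iso (ρst A p) p.asIdeal.primeCompl
    (StructureSheaf.IsLocalization.to_stalk (R := A) p) M'
  obtain ⟨c4⟩ := nonempty_extendScalars_iso_restrictScalars φ ψ h₁ h₂ Y
  have c5 : (ModuleCat.restrictScalars ψ).obj Y ≅ (ModuleCat.restrictScalars ψ).obj M :=
    c4.symm ≪≫ c1 ≪≫ c2 ≪≫ c3
  exact ⟨restrictRestrictIso φ ψ h₁ Y ≪≫ (ModuleCat.restrictScalars φ).mapIso c5 ≪≫
    (restrictRestrictIso φ ψ h₁ M).symm⟩


section StalkTor

open MonoidalCategory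
variable {X : Scheme.{u}}

local notation "cc" => ComplexShape.up ℤ

/-- the stalk of `P ⊗ F` (termwise) is `P_x ⊗ F_x` -/
noncomputable def tensorRightModStalkIso (P : CochainComplex X.Modules ℤ) (F : X.Modules) (x : X) :
    ((tensorRight ((Φ x).obj F)).mapHomologicalComplex cc).obj ((ΦC x).obj P) ≅
      (ΦC x).obj (((DCoh.tensorRightMod F).mapHomologicalComplex cc).obj P) :=
  HomologicalComplex.Hom.isoOfComponents (fun n => tensorIso (P.X n) F x)
    (fun i k _ => tensorIso_naturality_left (P.d i k) F x)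

/-- vanishing of a stalk of `H^i(P ⊗ F)` only depends on the stalk of `F` -/
lemma isZero_stalk_homology_tensorRightMod (P : CochainComplex X.Modules ℤ) (F G : X.Modules)
    (x : X) (e : (Φ x).obj F ≅ (Φ x).obj G) (i : ℤ)
    (h : IsZero ((((DCoh.tensorRightMod G).mapHomologicalComplex cc).obj P).homology i)) :
    IsZero ((Φ x).obj ((((DCoh.tensorRightMod F).mapHomologicalComplex cc).obj P).homology i)) := by
  have h1 : IsZero ((Φ x).obj ((((DCoh.tensorRightMod G).mapHomologicalComplex cc).obj P).homology i)) :=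
    (Φ x).map_isZero h
  have eT : tensorRight ((Φ x).obj F) ≅ tensorRight ((Φ x).obj G) :=
    (tensoringRight (ModuleCat.{u} (X.presheaf.stalk x))).mapIso e
  have e2 : (ΦC x).obj (((DCoh.tensorRightMod F).mapHomologicalComplex cc).obj P) ≅
      (ΦC x).obj (((DCoh.tensorRightMod G).mapHomologicalComplex cc).obj P) :=
    (tensorRightModStalkIso P F x).symm ≪≫
      (NatIso.mapHomologicalComplex eT cc).app ((ΦC x).obj P) ≪≫ tensorRightModStalkIso P G x
  exact IsZero.of_iso h1 ((TExactIso.mapHomologicalComplexHomologyIso (Φ x) _ i).symm ≪≫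
    (HomologicalComplex.homologyFunctor _ cc i).mapIso e2 ≪≫
    TExactIso.mapHomologicalComplexHomologyIso (Φ x) _ i)

end StalkTor

end Groth.Agent.Lib.Helper2.Aff
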